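import Cfsg.Agent.Turull.TowerBasic
import Cfsg.Agent.Solvable.Basics

/-!
A solvable group of large nilpotent length, with a coprime solvable group of operators, has a long tower.
-/

set_option autoImplicit false
set_option linter.style.haveILetI false
set_option linter.unusedSectionVars false

namespace CfsgLib.Turull

open Subgroup
open scoped commutatorElement Pointwise
open CfsgLib.Coprime (IsInvariant)
open CfsgLib.SZ (conj_smul_map conj_smul_eq_iff_mem_normalizer)

universe u

variable {G : Type u} [Group G] [Finite G]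
variable {A : Type*} [Group A] [MulDistribMulAction A G]

/-- The action on an invariant subgroup. -/
@[reducible] def subAct (K : Subgroup G) (hK : IsInvariant A K) : MulDistribMulAction A K where
  smul a x := ⟨a • (x : G), hK a x x.2⟩
  one_smul x := Subtype.ext (one_smul A (x : G))
  mul_smul a b x := Subtype.ext (mul_smul a b (x : G))
  smul_one a := Subtype.ext (smul_one a)
  smul_mul a x y := Subtype.ext (smul_mul' a (x : G) y)

/-- The action on the quotient by an invariant normal subgroup. -/
@[reducible] def quotAct (K : Subgroup G) [K.Normal] (hK : IsInvariant A K) :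
    MulDistribMulAction A (G ⧸ K) where
  smul a := QuotientGroup.map K K (MulDistribMulAction.toMonoidHom G a) (fun k hk => hK a k hk)
  one_smul q := by
    induction q using QuotientGroup.induction_on with
    | _ g => exact congrArg (QuotientGroup.mk (s := K)) (one_smul A g)
  mul_smul a b q := by
    induction q using QuotientGroup.induction_on with
    | _ g => exact congrArg (QuotientGroup.mk (s := K)) (mul_smul a b g)
  smul_one a := map_one (QuotientGroup.map K K (MulDistribMulAction.toMonoidHom G a) (fun k hk => hK a k hk))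
  smul_mul a x y := map_mul (QuotientGroup.map K K (MulDistribMulAction.toMonoidHom G a) (fun k hk => hK a k hk)) x y

theorem exists_invariant_sylow_of [Finite A] [Group.IsSolvable A] (X : Subgroup G) (hX : IsInvariant A X)
    (hcop : (Nat.card A).Coprime (Nat.card G)) (q : ℕ) [Fact q.Prime] :
    ∃ S : Sylow q X, IsInvariant A ((S : Subgroup X).map X.subtype) := by
  letI := subAct X hX
  obtain ⟨S, hS⟩ := CfsgLib.Coprime.exists_invariant_sylow (A := A) (G := X)
    (hcop.coprime_dvd_right (card_subgroup_dvd_card X)) q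
  refine ⟨S, ?_⟩
  rintro a _ ⟨x, hx, rfl⟩
  exact ⟨a • x, hS a x hx, rfl⟩

/-- Lifting the subgroups of a tower of a quotient. -/
theorem exists_lift [Finite A] [Group.IsSolvable A] (hcop : (Nat.card A).Coprime (Nat.card G))
    (F : Subgroup G) [F.Normal] (hF : IsInvariant A F) (M : ℕ) (Q : ℕ → Subgroup (G ⧸ F)) (p : ℕ → ℕ)
    (hp : ∀ i, i < M → (p i).Prime) (hQp : ∀ i, i < M → IsPGroup (p i) (Q i))
    (hQi : ∀ i, i < M → ∀ (a : A) (g : G), (g : G ⧸ F) ∈ Q i → ((a • g : G) : G ⧸ F) ∈ Q i)
    (hQn : ∀ i j, i < j → j < M → Q i ≤ normalizer (Q j : Set (G ⧸ F))) :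
    ∀ d, d ≤ M → ∃ (P : ℕ → Subgroup G) (H : Subgroup G), IsInvariant A H ∧
      (∀ i, i + d < M → Q i ≤ H.map (QuotientGroup.mk' F)) ∧
      ∀ j, M ≤ j + d → j < M → IsPGroup (p j) (P j) ∧ IsInvariant A (P j) ∧
        (P j).map (QuotientGroup.mk' F) = Q j ∧ H ≤ normalizer (P j : Set G) ∧
        ∀ i, M ≤ i + d → i < j → P i ≤ normalizer (P j : Set G) := by
  intro d
  induction d with
  | zero =>
    intro _
    refine ⟨fun _ => ⊥, ⊤, fun a x _ => mem_top _, fun i _ => ?_, fun j h1 h2 => absurd h1 (by omega)⟩
    rw [map_top_of_surjective _ (QuotientGroup.mk'_surjective F)]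
    exact le_top
  | succ d ih =>
    intro hd
    obtain ⟨P, H, hH, hQH, hP⟩ := ih (by omega)
    set j₀ := M - (d + 1) with hj₀
    have hj₀M : j₀ < M := by omega
    set q := QuotientGroup.mk' F with hq
    set X := H ⊓ (Q j₀).comap q with hX
    have hXi : IsInvariant A X := fun a x hx => ⟨hH a x hx.1, hQi j₀ hj₀M a x hx.2⟩
    have hXQ : X.map q = Q j₀ := by
      refine le_antisymm (by rintro _ ⟨x, hx, rfl⟩; exact hx.2) fun y hy => ?_
      obtain ⟨h, hh, rfl⟩ := hQH j₀ (by omega) hy
      exact ⟨h, ⟨hh, hy⟩, rfl⟩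
    haveI := Fact.mk (hp j₀ hj₀M)
    obtain ⟨S, hS⟩ := exists_invariant_sylow_of X hXi hcop (p j₀)
    set S' := (S : Subgroup X).map X.subtype with hS'
    have hS'X : S' ≤ X := map_subtype_le _
    -- the Sylow subgroup maps onto the level of the quotient
    have hS'Q : S'.map q = Q j₀ := by
      refine le_antisymm ((map_mono hS'X).trans hXQ.le) ?_
      let f : X →* Q j₀ := (q.comp X.subtype).codRestrict (Q j₀) fun x => x.2.2
      have hf : Function.Surjective f := by
        rintro ⟨y, hy⟩
        obtain ⟨x, hx, rfl⟩ := hXQ.ge hy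
        exact ⟨⟨x, hx⟩, rfl⟩
      have htop : ((S : Subgroup X).map f) = ⊤ := by
        have h := (S.mapSurjective hf).3 ((hQp j₀ hj₀M).to_le le_rfl |> fun h' => (fun x => by
          obtain ⟨k, hk⟩ := h' (x : Q j₀)
          exact ⟨k, Subtype.ext hk⟩ : IsPGroup (p j₀) (⊤ : Subgroup (Q j₀)))) le_top
        rw [← Sylow.coe_mapSurjective hf S]
        exact h.symm
      intro y hy
      obtain ⟨x, hx, hxy⟩ := htop.ge (mem_top (⟨y, hy⟩ : Q j₀))
      exact ⟨x, mem_map_of_mem _ hx, congrArg Subtype.val hxy⟩
    refine ⟨Function.update P j₀ S', H ⊓ normalizer (S' : Set G),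
      fun a x hx => ⟨hH a x hx.1, isInvariant_normalizer hS a x hx.2⟩, fun i hi y hy => ?_, fun j hj hjM => ?_⟩
    · obtain ⟨h, hh, rfl⟩ := hQH i (by omega) hy
      have hhX : h ∈ normalizer (X : Set G) := by
        have h1 : h ∈ normalizer ((Q j₀).comap q : Set G) := by
          have := hQn i j₀ (by omega) hj₀M hy
          refine mem_normalizer_iff.2 fun z => ?_
          simp only [mem_comap, map_mul, map_inv]
          exact mem_normalizer_iff.1 this (q z)
        have h2 : h ∈ normalizer (H : Set G) := le_normalizer hh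
        refine mem_normalizer_iff.2 fun z => ?_
        rw [hX, Subgroup.mem_inf, Subgroup.mem_inf, ← mem_normalizer_iff.1 h1 z, ← mem_normalizer_iff.1 h2 z]
      obtain ⟨T, hT⟩ := CfsgLib.CoprimeAct.conj_smul_sylow_map hhX S
      obtain ⟨a, ha⟩ := MulAction.exists_smul_eq X S T
      have haS : MulAut.conj h • S' = MulAut.conj (a : G) • S' := by
        rw [← hT, ← ha, Sylow.coe_subgroup_smul]
        exact conj_smul_map X.subtype a (S : Subgroup X)
      obtain ⟨s, hs, hsa⟩ := hS'Q.ge (hXQ.le (mem_map_of_mem q a.2))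
      set f := (a : G) * s⁻¹ with hf
      have hfF : f ∈ F := by
        rw [← QuotientGroup.ker_mk' F, MonoidHom.mem_ker, hf, map_mul, map_inv, ← hq, hsa, mul_inv_cancel]
      have hfH : f ∈ H := mul_mem (Subgroup.mem_inf.1 a.2).1 (inv_mem (Subgroup.mem_inf.1 (hS'X hs)).1)
      refine Subgroup.mem_map.2 ⟨f⁻¹ * h, Subgroup.mem_inf.2 ⟨H.mul_mem (H.inv_mem hfH) hh, ?_⟩, ?_⟩
      · refine conj_smul_eq_iff_mem_normalizer.1 ?_
        rw [map_mul, mul_smul, haS, show (a : G) = f * s by simp [hf], map_mul, mul_smul, ← mul_smul,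
          ← map_mul, inv_mul_cancel, map_one, one_smul, CfsgLib.SZ.conj_smul_self_of_mem hs]
      · rw [map_mul, map_inv, show q f = 1 from (QuotientGroup.eq_one_iff f).2 hfF, inv_one, one_mul]
    · rcases eq_or_ne j j₀ with rfl | hne
      · rw [Function.update_self]
        refine ⟨S.2.map _, hS, hS'Q, inf_le_right, fun i hi hij => absurd hi (by omega)⟩
      · obtain ⟨h1, h2, h3, h4, h5⟩ := hP j (by omega) hjM
        rw [Function.update_of_ne hne]
        refine ⟨h1, h2, h3, inf_le_left.trans h4, fun i hi hij => ?_⟩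
        rcases eq_or_ne i j₀ with rfl | hi'
        · rw [Function.update_self]
          exact (hS'X.trans inf_le_left).trans h4
        · rw [Function.update_of_ne hi']
          exact h5 i (by omega) hij

/-- A normal subgroup all of whose Sylow subgroups for primes other than `r` are central is nilpotent. -/
theorem isNilpotent_of_central {M : Type*} [Group M] [Finite M] {r : ℕ} [Fact r.Prime]
    (h : ∀ q : ℕ, q.Prime → q ≠ r → ∃ S : Sylow q M, (S : Subgroup M) ≤ Subgroup.center M) :
    Group.IsNilpotent M := by
  have hne : (Subgroup.center M).index ≠ 0 := FiniteIndex.index_ne_zero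
  have hidx : ∀ q : ℕ, q.Prime → q ∣ (Subgroup.center M).index → q = r := by
    intro q hq hdvd
    by_contra hqr
    haveI := Fact.mk hq
    obtain ⟨S, hS⟩ := h q hq hqr
    exact S.not_dvd_index (hdvd.trans (index_dvd_of_le hS))
  have hp : IsPGroup r (M ⧸ Subgroup.center M) := by
    refine IsPGroup.of_card (n := ((Subgroup.center M).index).primeFactorsList.length) ?_
    rw [← index_eq_card]
    exact Nat.eq_prime_pow_of_unique_prime_dvd hne fun {d} hd hdd => hidx d hd hdd
  exact Group.of_quotient_center_nilpotent hp.isNilpotent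

theorem le_pCore_of_isPGroup_le_fitting {q : ℕ} [Fact q.Prime] {S : Subgroup G} (hS : IsPGroup q S)
    (hSF : S ≤ Cfsg.fittingSubgroup G) : S ≤ Cfsg.pCore q G := by
  haveI : Group.IsNilpotent (Cfsg.fittingSubgroup G) := CfsgLib.Solvable.isNilpotent_fittingSubgroup
  obtain ⟨T, hT⟩ := (hS.comap_subtype (K := Cfsg.fittingSubgroup G)).exists_le_sylow
  haveI : (T : Subgroup (Cfsg.fittingSubgroup G)).Normal := inferInstance
  haveI := Sylow.characteristic_of_normal T inferInstance
  refine le_trans ?_ (CfsgLib.Solvable.le_pCore (G := G) q (N := (T : Subgroup _).map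
    (Cfsg.fittingSubgroup G).subtype) inferInstance (T.2.map _))
  rw [← map_subgroupOf_eq_of_le hSF]
  exact map_mono hT

theorem pCore_invariant (q : ℕ) : IsInvariant A (Cfsg.pCore q G) := by
  intro a x hx
  set e := MulDistribMulAction.toMulEquiv G a
  haveI : ((Cfsg.pCore q G).map e.toMonoidHom).Normal :=
    Subgroup.Normal.map inferInstance _ e.surjective
  exact CfsgLib.Solvable.le_pCore q inferInstance ((CfsgLib.Solvable.isPGroup_pCore q).map _)
    (mem_map_of_mem e.toMonoidHom hx)

theorem fitting_invariant : IsInvariant A (Cfsg.fittingSubgroup G) := by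
  intro a x hx
  set e := MulDistribMulAction.toMulEquiv G a
  haveI : ((Cfsg.fittingSubgroup G).map e.toMonoidHom).Normal :=
    Subgroup.Normal.map inferInstance _ e.surjective
  haveI := CfsgLib.Solvable.isNilpotent_fittingSubgroup (G := G)
  exact CfsgLib.Solvable.le_fittingSubgroup inferInstance
    (Group.nilpotent_of_surjective _ (e.toMonoidHom.subgroupMap_surjective _)) (mem_map_of_mem e.toMonoidHom hx)

theorem exists_pCore_ne_bot [Nontrivial G] (hG : Group.IsSolvable G) :
    ∃ q : ℕ, q.Prime ∧ Cfsg.pCore q G ≠ ⊥ := by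
  haveI := hG
  obtain ⟨V, hV, hV1, -, -, -, q, hq, -, hVq⟩ :=
    CfsgLib.Solvable.exists_normal_elementary_le (G := G) (N := ⊤) top_ne_bot inferInstance
  exact ⟨q, hq, fun h => hV1 (le_bot_iff.1 (h ▸ CfsgLib.Solvable.le_pCore q hV hVq))⟩

/-- **Existence of towers.** -/
theorem exists_tower [Finite A] [Group.IsSolvable A] : ∀ (N : ℕ) (G : Type u) [Group G] [Finite G]
    [MulDistribMulAction A G], (Nat.card A).Coprime (Nat.card G) → Group.IsSolvable G →
    CfsgLib.SFTCor.nres^[N] (⊤ : Subgroup G) ≠ ⊥ →
    ∃ (P : ℕ → Subgroup G) (p : ℕ → ℕ), IsTower A (N + 1) P p ∧ P N ≤ Cfsg.pCore (p N) G := by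
  intro N
  induction N with
  | zero =>
    intro G _ _ _ _ hG hne
    haveI : Nontrivial G := by
      by_contra h
      rw [not_nontrivial_iff_subsingleton] at h
      exact hne (Subsingleton.elim _ _)
    obtain ⟨q, hq, hq1⟩ := exists_pCore_ne_bot hG
    refine ⟨fun _ => Cfsg.pCore q G, fun _ => q,
      ⟨fun _ _ => hq, fun _ _ => CfsgLib.Solvable.isPGroup_pCore q, fun _ _ => pCore_invariant q,
        fun i j _ _ => le_normalizer_of_normal, fun i hi => absurd hi (by omega), ?_⟩, le_rfl⟩
    rw [ker_top (by rfl)]
    exact fun h => hq1 (le_bot_iff.1 h)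
  | succ N ih =>
    intro G _ _ _ hcop hG hne
    set F := Cfsg.fittingSubgroup G with hF
    haveI := CfsgLib.Solvable.isNilpotent_fittingSubgroup (G := G)
    letI := quotAct (A := A) F fitting_invariant
    have hne' : CfsgLib.SFTCor.nres^[N] (⊤ : Subgroup (G ⧸ F)) ≠ ⊥ := by
      intro h
      rw [← map_top_of_surjective _ (QuotientGroup.mk'_surjective F), ← CfsgLib.SFTCor.iter_map,
        Subgroup.map_eq_bot_iff, QuotientGroup.ker_mk'] at h
      apply hne
      rw [Function.iterate_succ_apply']
      obtain ⟨k, hk⟩ := (Subgroup.isNilpotent_iff_lowerCentralSeries F).1 (inferInstance : Group.IsNilpotent F)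
      refine le_bot_iff.1 ((CfsgLib.SFTCor.nres_mono h).trans (le_of_eq ?_))
      refine CfsgLib.SFTCor.nres_eq_bot_of_lcs (k := k) ?_
      exact hk
    obtain ⟨Q, p, hQ, hQtop⟩ := ih (G ⧸ F)
      (hcop.coprime_dvd_right (by rw [← index_eq_card]; exact index_dvd_card F))
      (Group.isSolvable_of_surjective (QuotientGroup.mk'_surjective F)) hne'
    obtain ⟨P, H, -, -, hP⟩ := exists_lift hcop F fitting_invariant (N + 1) Q p hQ.prime hQ.pgroup
      (fun i hi a g hg => hQ.inv i hi a _ hg) hQ.norm (N + 1) le_rfl
    have hPQ : ∀ i, i < N + 1 → (P i).map (QuotientGroup.mk' F) = Q i := fun i hi =>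
      (hP i (by omega) hi).2.2.1
    set r := p N with hr
    haveI := Fact.mk (hQ.prime N (by omega))
    -- the candidate towers
    set Pq : ℕ → ℕ → Subgroup G := fun q => Function.update P (N + 1) (Cfsg.pCore q G) with hPq
    have hPqlt : ∀ q i, i < N + 1 → Pq q i = P i := fun q i hi => Function.update_of_ne (by omega) _ _
    have hPqtop : ∀ q, Pq q (N + 1) = Cfsg.pCore q G := fun q => Function.update_self _ _ _
    have hnorm : ∀ q i j, i < j → j < N + 2 → Pq q i ≤ normalizer (Pq q j : Set G) := by
      intro q i j hij hj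
      rw [hPqlt q i (by omega)]
      rcases Nat.lt_or_ge j (N + 1) with h | h
      · rw [hPqlt q j h]
        exact (hP j (by omega) h).2.2.2.2 i (by omega) hij
      · obtain rfl : j = N + 1 := by omega
        rw [hPqtop]
        exact le_normalizer_of_normal
    obtain ⟨q, hq, hqr, hbot⟩ : ∃ q : ℕ, q.Prime ∧ q ≠ r ∧ ¬ P 0 ≤ ker (N + 2) (Pq q) 0 := by
      by_contra hcon
      push Not at hcon
      have key : ∀ d i, i + d = N → ∀ x ∈ P i,
          (∀ q : ℕ, q.Prime → q ≠ r → x ∈ ker (N + 2) (Pq q) i) →
          (x : G ⧸ F) ∈ ker (N + 1) Q i := by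
        intro d
        induction d with
        | zero =>
          intro i hi x hx hxq
          obtain rfl : i = N := by omega
          rw [ker_top rfl, mem_bot, QuotientGroup.eq_one_iff]
          set H₁ := (Cfsg.pCore r (G ⧸ F)).comap (QuotientGroup.mk' F) with hH₁
          set C := ⨅ (q : ℕ) (_ : q.Prime) (_ : q ≠ r), centralizer (Cfsg.pCore q G : Set G) with hC
          haveI : C.Normal := normal_iInf_normal fun q => normal_iInf_normal fun _ =>
            normal_iInf_normal fun _ => inferInstance
          set M := H₁ ⊓ C with hM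
          haveI : M.Normal := inferInstance
          have hxM : x ∈ M := by
            refine ⟨hQtop (hPQ i (by omega) ▸ mem_map_of_mem _ hx), ?_⟩
            refine mem_iInf.2 fun q => mem_iInf.2 fun hq => mem_iInf.2 fun hqr => ?_
            refine mem_centralizer_iff.2 fun y hy => ?_
            have h1 := disp_mem_ker (N := i + 2) (P := Pq q) (by omega) (hxq q hq hqr)
              (y := y) (by rw [hPqtop]; exact hy)
            rw [ker_top rfl, mem_bot, disp, inv_mul_eq_one] at h1
            calc y * x = x * y * x⁻¹ * x := by rw [← h1]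
              _ = x * y := by group
          refine CfsgLib.Solvable.le_fittingSubgroup inferInstance (isNilpotent_of_central (r := r) ?_) hxM
          intro q hq hqr
          haveI := Fact.mk hq
          refine ⟨default, fun s hs => ?_⟩
          set S := ((default : Sylow q M) : Subgroup M).map M.subtype with hS
          have hSp : IsPGroup q S := (default : Sylow q M).2.map _
          have hSF : S ≤ F := by
            intro z hz
            obtain ⟨a, ha⟩ := hSp ⟨z, hz⟩
            obtain ⟨b, hb⟩ := CfsgLib.Solvable.isPGroup_pCore (G := G ⧸ F) r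
              ⟨(z : G ⧸ F), ((map_subtype_le _ : S ≤ M) hz).1⟩
            rw [← QuotientGroup.eq_one_iff]
            refine orderOf_eq_one_iff.1 (Nat.eq_one_of_dvd_coprimes
              (((Nat.coprime_primes hq Fact.out).2 hqr).pow a b) ?_ ?_)
            · refine orderOf_dvd_of_pow_eq_one ?_
              have := congrArg Subtype.val ha
              simp only [SubmonoidClass.coe_pow, OneMemClass.coe_one] at this
              rw [← QuotientGroup.mk_pow, this, QuotientGroup.mk_one]
            · exact orderOf_dvd_of_pow_eq_one (congrArg Subtype.val hb)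
          have hsO : (s : G) ∈ Cfsg.pCore q G :=
            le_pCore_of_isPGroup_le_fitting hSp hSF (mem_map_of_mem M.subtype hs)
          refine Subgroup.mem_center_iff.2 fun m => Subtype.ext ?_
          have hm : (m : G) ∈ C := m.2.2
          exact (mem_centralizer_iff.1 (mem_iInf.1 (mem_iInf.1 (mem_iInf.1 hm q) hq) hqr) (s : G) hsO).symm
        | succ d ihd =>
          intro i hi x hx hxq
          refine hQ.mem_ker (by omega) (hPQ i (by omega) ▸ mem_map_of_mem _ hx) fun y hy => ?_
          obtain ⟨z, hz, rfl⟩ := (hPQ (i + 1) (by omega)).ge hy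
          rw [show ((x : G ⧸ F)) = QuotientGroup.mk' F x from rfl, ← map_disp]
          refine ihd (i + 1) (by omega) _ ?_ fun q hq hqr => disp_mem_ker (by omega) (hxq q hq hqr)
            (by rw [hPqlt q _ (by omega)]; exact hz)
          have hxn : x ∈ normalizer (P (i + 1) : Set G) :=
            (hP (i + 1) (by omega) (by omega)).2.2.2.2 i (by omega) (by omega) hx
          exact mul_mem (inv_mem hz) ((mem_normalizer_iff.1 hxn z).1 hz)
      apply hQ.bot
      rw [← hPQ 0 (by omega)]
      rintro _ ⟨x, hx, rfl⟩
      exact key N 0 (by omega) x hx fun q hq hqr => hcon q hq hqr hx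
    refine ⟨Pq q, Function.update p (N + 1) q, ⟨fun i hi => ?_, fun i hi => ?_, fun i hi => ?_, hnorm q,
      fun i hi => ?_, ?_⟩, ?_⟩
    · rcases Nat.lt_or_ge i (N + 1) with h | h
      · rw [Function.update_of_ne (by omega)]; exact hQ.prime i h
      · obtain rfl : i = N + 1 := by omega
        rw [Function.update_self]; exact hq
    · rcases Nat.lt_or_ge i (N + 1) with h | h
      · rw [hPqlt q i h, Function.update_of_ne (by omega)]; exact (hP i (by omega) h).1
      · obtain rfl : i = N + 1 := by omega
        rw [hPqtop, Function.update_self]; exact CfsgLib.Solvable.isPGroup_pCore q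
    · rcases Nat.lt_or_ge i (N + 1) with h | h
      · rw [hPqlt q i h]; exact (hP i (by omega) h).2.1
      · obtain rfl : i = N + 1 := by omega
        rw [hPqtop]; exact pCore_invariant q
    · rcases Nat.lt_or_ge (i + 1) (N + 1) with h | h
      · rw [Function.update_of_ne (by omega), Function.update_of_ne (by omega)]; exact hQ.adj i h
      · obtain rfl : i = N := by omega
        rw [Function.update_self, Function.update_of_ne (by omega)]
        exact fun h' => hqr h'.symm
    · rw [hPqlt q 0 (by omega)]; exact hbot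
    · rw [hPqtop, Function.update_self]

end CfsgLib.Turull
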