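import Cfsg.Agent.Turull.CompHeis

/-!
A compatible operator fixing the averages of the moved elements acts on a live fixed part as one or as the
inversion.
-/

set_option autoImplicit false
set_option linter.style.haveILetI false
set_option linter.unusedSectionVars false

namespace CfsgLib.Turull

open scoped commutatorElement

variable {k : Type*} [Field k] [IsAlgClosed k] {T : Type*} [Group T] [Finite T] {X : Type*} [AddCommGroup X]
  [Module k X] [FiniteDimensional k X] {D : Sys k T X} {χ : T → k}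

namespace Sys.IsComp

theorem autV_pow_apply (h : D.IsComp χ) (hχ : ∀ t, χ (D.σ t) = χ t) {θ : MulAut T} (hθ : ∀ t, χ (θ t) = χ t)
    (hc : ∀ t, θ (D.σ t) = D.σ (θ t)) (j : ℕ) (v : h.mV hχ) :
    ((((h.autV hχ hθ hc) ^ j) v : h.mV hχ) : T ⧸ h.zsub) = ((θ ^ j) (h.rep hχ v) : T) := by
  induction j with
  | zero => rw [pow_zero, pow_zero, MulAut.one_apply, MulAut.one_apply, h.mk_rep]
  | succ j ih => rw [pow_succ', MulAut.mul_apply, autV_apply, ih, autBar_mk, pow_succ', MulAut.mul_apply]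

theorem autV_pow (h : D.IsComp χ) (hχ : ∀ t, χ (D.σ t) = χ t) {θ : MulAut T} (hθ : ∀ t, χ (θ t) = χ t)
    (hc : ∀ t, θ (D.σ t) = D.σ (θ t)) (j : ℕ) (hθj : ∀ t, χ ((θ ^ j) t) = χ t)
    (hcj : ∀ t, (θ ^ j) (D.σ t) = D.σ ((θ ^ j) t)) : h.autV hχ hθj hcj = (h.autV hχ hθ hc) ^ j := by
  refine MulEquiv.ext fun v => Subtype.ext ?_
  rw [autV_pow_apply, autV_apply, ← autBar_mk h (θ ^ j) hθj, h.mk_rep]

/-- The data an operator fixing the averages leaves on the moved part. -/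
theorem pin_core (h : D.IsComp χ) (hχ : ∀ t, χ (D.σ t) = χ t) (hl : D.Live χ) {B : Set X} (hB : D.Spans B)
    {θ : MulAut T} (hθ : ∀ t, χ (θ t) = χ t) (hc : ∀ t, θ (D.σ t) = D.σ (θ t)) {Y : Module.End k X}
    (hY : ∀ t v, Y (D.ρ t v) = D.ρ (θ t) (Y v)) (hYS : ∀ v, Y (D.S v) = D.S (Y v)) {N : ℕ} (hN : 0 < N)
    (hYN : Y ^ N = 1) (hθN : θ ^ N = 1) (hrN : D.r.Coprime N) (hNp : N.Coprime D.p)
    (hfix : ∀ g ∈ B, D.S g ≠ g → Y (D.av g) = D.av g) :
    (∀ o : ℕ, o.Prime → (h.autV hχ hθ hc) ^ o = 1 → h.autV hχ hθ hc ≠ 1 →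
      o = 2 ∧ ∀ v, h.autV hχ hθ hc v = v⁻¹) ∧
    (∀ o : ℕ, 2 ≤ o → Semireg (h.autV hχ hθ hc) o → D.r.Coprime o →
      ((o : k) ≠ 0 ∨ ∃ q e : ℕ, q.Prime ∧ CharP k q ∧ o = q ^ e) → o = 2) := by
  classical
  obtain ⟨g₁, hg₁, hg₁S, hge⟩ := D.exists_moved hB h hl
  haveI := h.nontrivial_mV hχ ((hl.resolve_left fun ⟨t, ht⟩ => ht (hχ t)).1)
  haveI := h.space_nontrivial
  haveI : NeZero D.r := ⟨D.hr.ne_zero⟩
  letI : Fintype (h.mV hχ) := Fintype.ofFinite _
  have hV := h.card_mV_ne hχ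
  obtain ⟨ζ, hζ⟩ := exists_primitive (k := k) (N := D.r) D.hkr
  have hσs := h.semireg_σV hχ
  -- the operator on the part
  let Ye : X ≃ₗ[k] X := LinearEquiv.ofLinearMap Y (Y ^ (N - 1))
    (by rw [← Module.End.mul_eq_comp, ← pow_succ', Nat.sub_add_cancel hN, hYN]; rfl)
    (by rw [← Module.End.mul_eq_comp, ← pow_succ, Nat.sub_add_cancel hN, hYN]; rfl)
  have hYπ : ∀ x, D.proj χ (Y x) = Y (D.proj χ x) := fun x => by
    have h1 := D.proj_transport θ Ye hY χ x
    rwa [show (fun t => χ (θ.symm t)) = χ from funext fun t => by rw [← hθ, MulEquiv.apply_symm_apply]] at h1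
  set YV : Module.End k (D.space χ) := Y.restrict fun _ hx => transport_mem_space hY hθ hx with hYVd
  have hYVi : Impl (h.M hχ) (h.autV hχ hθ hc) (h.scal hχ hθ hc) YV := h.impl_restrict hχ hθ hc hY
  have hYVN : YV ^ N = 1 := by
    refine LinearMap.ext fun x => Subtype.ext ?_
    rw [hYVd, Module.End.pow_restrict, LinearMap.coe_restrict_apply, hYN]
    rfl
  have hθVN : (h.autV hχ hθ hc) ^ N = 1 := MulEquiv.ext fun v => Subtype.ext (by
    rw [autV_pow_apply, hθN, MulAut.one_apply, h.mk_rep]; rfl)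
  have hcV : Commute (h.σV hχ) (h.autV hχ hθ hc) := MulEquiv.ext fun v => Subtype.ext
    (DFunLike.congr_fun (h.autBar_commute hχ hθ hc).symm.eq (v : T ⧸ h.zsub))
  have hSi := injective_of_pow_scalar D.hr.pos one_ne_zero ((h.SV_pow hχ).trans (one_smul k _).symm)
  have hYi := injective_of_pow_scalar hN one_ne_zero (hYVN.trans (one_smul k _).symm)
  -- an irreducible constituent
  obtain ⟨U, hUinv, hUnt, hU, hUirr⟩ := exists_irr (h.isRep_M hχ)
  haveI := hUnt
  set MU : h.mV hχ → Module.End k U := fun v => (h.M hχ v).restrict (hUinv v) with hMU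
  obtain ⟨F, hF, hFr⟩ := exists_impl hU hUirr hV (h.isRep_M hχ) (h.impl_SV hχ) D.hr.pos hσs.1 one_ne_zero
    ((h.SV_pow hχ).trans (one_smul k _).symm)
  obtain ⟨f, hf, hfN⟩ := exists_impl hU hUirr hV (h.isRep_M hχ) hYVi hN hθVN one_ne_zero
    (hYVN.trans (one_smul k _).symm)
  have hfF : f * F = F * f :=
    impl_commute hU hUirr (h.isRep_M hχ) (h.impl_SV hχ) hYVi hSi hYi
      (LinearMap.ext fun x => Subtype.ext (hYS x)) hcV hF hf D.hr.pos hN hFr hfN hrN
  have hds := (h.impl_SV hχ).d_ne_zero (h.isRep_M hχ) hSi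
  have hdy := hYVi.d_ne_zero (h.isRep_M hχ) hYi
  set TS := transOp hF (h.impl_SV hχ) D.hr.pos hds (h.SV_pow hχ) with hTS
  set TY := transOp hf hYVi hN hdy hYVN with hTY
  have happS : ∀ φ x, (TS φ).1 x = F (φ.1 ((h.SV hχ ^ (D.r - 1)) x)) := fun _ _ => rfl
  have happY : ∀ φ x, (TY φ).1 x = f (φ.1 ((YV ^ (N - 1)) x)) := fun _ _ => rfl
  have hTSpow : ∀ (j : ℕ) φ x, ((TS ^ j) φ).1 x = (F ^ j) (φ.1 (((h.SV hχ ^ (D.r - 1)) ^ j) x)) := by
    intro j
    induction j with
    | zero => intros; rfl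
    | succ j ih =>
      intro φ x
      rw [pow_succ' TS, Module.End.mul_apply, happS, ih, pow_succ' F, Module.End.mul_apply,
        pow_succ (h.SV hχ ^ (D.r - 1)), Module.End.mul_apply]
  have hTSr : TS ^ D.r = 1 := by
    refine LinearMap.ext fun φ => Subtype.ext (LinearMap.ext fun x => ?_)
    rw [hTSpow, hFr, ← pow_mul, Nat.mul_comm, pow_mul, h.SV_pow, one_pow]
    rfl
  -- a translate meeting the fixed vectors
  set w₁ : D.space χ := ⟨D.proj χ (D.av g₁), h.proj_mem _⟩ with hw₁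
  have hw₁0 : w₁ ≠ 0 := fun h0 => hge (congrArg Subtype.val h0)
  have hw₁S : h.SV hχ w₁ = w₁ := Subtype.ext (by rw [SV_apply, ← D.proj_S_fixed h hχ, D.S_av])
  letI : AddCommGroup (homs (h.M hχ) MU) := Submodule.addCommGroup (R := k) (M := D.space χ →ₗ[k] U) (homs (h.M hχ) MU)
  letI : Module k (homs (h.M hχ) MU) := Submodule.module (R := k) (M := D.space χ →ₗ[k] U) (homs (h.M hχ) MU)
  haveI : FiniteDimensional k (homs (h.M hχ) MU) := FiniteDimensional.finiteDimensional_submodule (K := k) (V := D.space χ →ₗ[k] U) (homs (h.M hχ) MU)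
  obtain ⟨ι, hιf, cI, φ, -, hspan, hφ⟩ := exists_eigenbasis (X := homs (h.M hχ) MU) D.hkr hTSr hζ
  obtain ⟨i, hi⟩ : ∃ i, (φ i).1 w₁ ≠ 0 := by
    by_contra hcon
    push Not at hcon
    obtain ⟨a₀, ha₀⟩ := avHom_separates (h.isRep_M hχ) hU hV hw₁0
    refine ha₀ ?_
    refine Submodule.span_induction (p := fun ψ _ => (ψ : homs (h.M hχ) MU).1 w₁ = 0) ?_ (by simp)
      (fun a b _ _ ha hb => by simp [ha, hb]) (fun c a _ ha => by simp [ha])
      (hspan (Submodule.mem_top : (⟨_, avHom_comm (h.isRep_M hχ) hU a₀⟩ : homs (h.M hχ) MU) ∈ ⊤))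
    rintro _ ⟨i, rfl⟩
    exact hcon i
  set a := ζ ^ (cI i : ℕ) with ha
  have ha0 : a ≠ 0 := pow_ne_zero _ (hζ.ne_zero D.hr.ne_zero)
  have hSS : ∀ x, (h.SV hχ ^ (D.r - 1)) (h.SV hχ x) = x := fun x => by
    rw [← Module.End.mul_apply, ← pow_succ, Nat.sub_add_cancel D.hr.pos, h.SV_pow]; rfl
  have hYY : ∀ x, (YV ^ (N - 1)) (YV x) = x := fun x => by
    rw [← Module.End.mul_apply, ← pow_succ, Nat.sub_add_cancel hN, hYVN]; rfl
  have hYSV : Commute YV (h.SV hχ) := LinearMap.ext fun x => Subtype.ext (hYS x)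
  have hTYE : ∀ ψ ∈ Turull.eig TS a, TY ψ ∈ Turull.eig TS a := by
    intro ψ hψ
    rw [mem_eig] at hψ ⊢
    refine Subtype.ext (LinearMap.ext fun x => ?_)
    have h1 := LinearMap.congr_fun (congrArg Subtype.val hψ) ((YV ^ (N - 1)) x)
    rw [happS, SetLike.val_smul, LinearMap.smul_apply] at h1
    rw [happS, happY, SetLike.val_smul, LinearMap.smul_apply, happY, ← map_smul, ← h1,
      show (YV ^ (N - 1)) ((h.SV hχ ^ (D.r - 1)) x) = (h.SV hχ ^ (D.r - 1)) ((YV ^ (N - 1)) x) from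
        LinearMap.congr_fun (hYSV.pow_pow _ _).eq x]
    exact (LinearMap.congr_fun hfF _).symm
  haveI : Nontrivial (Turull.eig TS a) :=
    ⟨⟨⟨φ i, mem_eig.2 (hφ i)⟩, 0, fun h0 => hi (by
      rw [show φ i = 0 from congrArg Subtype.val h0]; rfl)⟩⟩
  obtain ⟨b, hb⟩ := Module.End.exists_eigenvalue (TY.restrict hTYE)
  obtain ⟨Q', hQ'⟩ := hb.exists_hasEigenvector
  set Q := (Q'.1).1 with hQd
  have hQ0 : Q ≠ 0 := fun h0 => hQ'.2 (Subtype.ext (Subtype.ext h0))
  have hQM : ∀ v x, Q (h.M hχ v x) = MU v (Q x) := Q'.1.2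
  have hQsurj : Function.Surjective Q := hU.intertwiner_surjective hUirr hQM hQ0
  have hFQ : ∀ x, F (Q x) = a • Q (h.SV hχ x) := fun x => by
    have h1 := LinearMap.congr_fun (congrArg Subtype.val (mem_eig.1 Q'.2)) (h.SV hχ x)
    rw [happS, hSS] at h1
    exact h1
  have hfQ : ∀ x, f (Q x) = b • Q (YV x) := fun x => by
    have h1 := LinearMap.congr_fun (congrArg (fun z => z.1.1) hQ'.apply_eq_smul) (YV x)
    simp only [LinearMap.coe_restrict_apply] at h1
    rw [happY, hYY] at h1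
    exact h1
  have hb0 : b ≠ 0 := by
    intro h0
    refine hQ0 (LinearMap.ext fun x => ?_)
    have h1 := hfQ x
    rw [h0, zero_smul] at h1
    exact injective_of_pow_scalar hN one_ne_zero (hfN.trans (one_smul k _).symm) (h1.trans (map_zero f).symm)
  set F' := a⁻¹ • F with hF'd
  set f' := b⁻¹ • f with hf'd
  have hF'Q : ∀ x, F' (Q x) = Q (h.SV hχ x) := fun x => by
    rw [hF'd, LinearMap.smul_apply, hFQ, smul_smul, inv_mul_cancel₀ ha0, one_smul]
  have hf'Q : ∀ x, f' (Q x) = Q (YV x) := fun x => by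
    rw [hf'd, LinearMap.smul_apply, hfQ, smul_smul, inv_mul_cancel₀ hb0, one_smul]
  have hF'pow : ∀ (j : ℕ) x, (F' ^ j) (Q x) = Q ((h.SV hχ ^ j) x) := fun j x => by
    induction j with
    | zero => rfl
    | succ j ih => rw [pow_succ', Module.End.mul_apply, ih, hF'Q, pow_succ', Module.End.mul_apply]
  have hf'pow : ∀ (j : ℕ) x, (f' ^ j) (Q x) = Q ((YV ^ j) x) := fun j x => by
    induction j with
    | zero => rfl
    | succ j ih => rw [pow_succ', Module.End.mul_apply, ih, hf'Q, pow_succ', Module.End.mul_apply]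
  have hF'r : F' ^ D.r = 1 := LinearMap.ext fun y => by
    obtain ⟨x, rfl⟩ := hQsurj y
    rw [hF'pow, h.SV_pow]; rfl
  have hf'N : f' ^ N = 1 := LinearMap.ext fun y => by
    obtain ⟨x, rfl⟩ := hQsurj y
    rw [hf'pow, hYVN]; rfl
  have hF' : Impl MU (h.σV hχ) (h.scal hχ hχ fun _ => rfl) F' := fun v => by
    rw [hF'd, smul_mul_assoc, hF, mul_smul_comm, smul_comm]
  have hf' : Impl MU (h.autV hχ hθ hc) (h.scal hχ hθ hc) f' := fun v => by
    rw [hf'd, smul_mul_assoc, hf, mul_smul_comm, smul_comm]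
  have hf'F' : f' * F' = F' * f' := by
    rw [hf'd, hF'd, smul_mul_smul_comm, smul_mul_smul_comm, hfF, mul_comm b⁻¹]
  set E := Turull.eig F' (ζ ^ ((0 : Fin D.r) : ℕ)) with hE
  have hmemE : ∀ x, x ∈ E ↔ F' x = x := fun x => by rw [hE, mem_eig, Fin.val_zero, pow_zero, one_smul]
  -- fixed vectors
  have hos : ∀ x : D.space χ, orbitSum F' D.r (Q x) = Q (orbitSum (h.SV hχ) D.r x) := fun x => by
    simp [orbitSum, LinearMap.sum_apply, hF'pow]
  have hosv : ∀ x : X, orbitSum (h.SV hχ) D.r ⟨D.proj χ x, h.proj_mem x⟩ = ⟨D.proj χ (D.av x), h.proj_mem _⟩ :=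
    fun x => Subtype.ext (by
      show _ = D.proj χ (D.av x)
      rw [D.proj_av_fixed h hχ, D.av_apply, orbitSum, LinearMap.sum_apply, AddSubmonoidClass.coe_finsetSum]
      refine Finset.sum_congr rfl fun j _ => ?_
      rw [SV, Module.End.pow_restrict, LinearMap.coe_restrict_apply])
  have hosE : ∀ x ∈ E, orbitSum F' D.r x = (D.r : k) • x := fun x hx => by
    have hj : ∀ j : ℕ, (F' ^ j) x = x := fun j => by
      induction j with
      | zero => rfl
      | succ j ih => rw [pow_succ', Module.End.mul_apply, ih, (hmemE x).1 hx]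
    rw [orbitSum, LinearMap.sum_apply, Finset.sum_congr rfl fun j _ => hj j, Finset.sum_const, Finset.card_range,
      Nat.cast_smul_eq_nsmul]
  -- the translate is almost scalar
  have hd1 : 1 ≤ Module.finrank k E := by
    refine Submodule.one_le_finrank_iff.2 fun h0 => hi ?_
    have hφi : ∀ x, F ((φ i).1 x) = a • (φ i).1 (h.SV hχ x) := fun x => by
      have h1 := LinearMap.congr_fun (congrArg Subtype.val (hφ i)) (h.SV hχ x)
      rw [happS, hSS] at h1
      exact h1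
    refine (Submodule.eq_bot_iff _).1 h0 _ ((hmemE _).2 ?_)
    rw [hF'd, LinearMap.smul_apply, hφi, hw₁S, smul_smul, inv_mul_cancel₀ ha0, one_smul]
  set H : Submodule k U :=
    Submodule.span k {x | ∃ g ∈ B, D.S g ≠ g ∧ x = Q ⟨D.proj χ (D.av g), h.proj_mem _⟩} with hH
  have hHE : H ≤ E := Submodule.span_le.2 fun x ⟨g, _, _, hx⟩ => by
    rw [SetLike.mem_coe, hmemE, hx, hF'Q]
    exact congrArg Q (Subtype.ext (by rw [SV_apply, ← D.proj_S_fixed h hχ, D.S_av]))
  have hfH : ∀ x ∈ H, f' x = x := fun x hx => by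
    refine Submodule.span_induction (p := fun x _ => f' x = x) ?_ (map_zero _)
      (fun a b _ _ ha hb => by rw [map_add, ha, hb]) (fun c a _ ha => by rw [map_smul, ha]) hx
    rintro _ ⟨g, hg, hgS, rfl⟩
    rw [hf'Q]
    exact congrArg Q (Subtype.ext (show Y (D.proj χ (D.av g)) = _ by rw [← hYπ, hfix g hg hgS]))
  have hal : Almost D.r f' E := by
    by_cases hHeq : E ≤ H
    · exact Or.inl ⟨1, fun x hx => by rw [one_smul]; exact hfH x (hHeq hx)⟩
    obtain ⟨f₀, hf₀, hf₀S, hw⟩ : ∃ f₀ ∈ B, D.S f₀ = f₀ ∧ Q ⟨D.proj χ f₀, h.proj_mem _⟩ ∉ H := by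
      by_contra hcon
      push Not at hcon
      refine hHeq fun x hx => ?_
      obtain ⟨y, rfl⟩ := hQsurj x
      have hgen : ∀ g ∈ B, Q ⟨D.proj χ (D.av g), h.proj_mem _⟩ ∈ H := fun g hg => by
        by_cases hgS : D.S g = g
        · rw [show (⟨D.proj χ (D.av g), h.proj_mem _⟩ : D.space χ) = (D.r : k) • ⟨D.proj χ g, h.proj_mem _⟩ from
            Subtype.ext (show D.proj χ (D.av g) = (D.r : k) • D.proj χ g by
              rw [D.av_of_fixed hgS, map_smul]), map_smul]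
          exact H.smul_mem _ (hcon g hg hgS)
        · exact Submodule.subset_span ⟨g, hg, hgS, rfl⟩
      have hall : ∀ z : X, Q ⟨D.proj χ (D.av z), h.proj_mem _⟩ ∈ H := fun z => by
        refine Submodule.span_induction (p := fun z _ => Q ⟨D.proj χ (D.av z), h.proj_mem _⟩ ∈ H) hgen
          ?_ (fun a b _ _ ha hb => ?_) (fun c a _ ha => ?_)
          (show z ∈ Submodule.span k B by rw [hB.span]; trivial)
        · rw [show (⟨D.proj χ (D.av (0 : X)), h.proj_mem _⟩ : D.space χ) = 0 from Subtype.ext (by simp), map_zero]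
          exact H.zero_mem
        · rw [show (⟨D.proj χ (D.av (a + b)), h.proj_mem _⟩ : D.space χ) =
            ⟨D.proj χ (D.av a), h.proj_mem _⟩ + ⟨D.proj χ (D.av b), h.proj_mem _⟩ from
              Subtype.ext (by simp), map_add]
          exact H.add_mem ha hb
        · rw [show (⟨D.proj χ (D.av (c • a)), h.proj_mem _⟩ : D.space χ) =
            c • ⟨D.proj χ (D.av a), h.proj_mem _⟩ from Subtype.ext (by simp), map_smul]
          exact H.smul_mem c ha
      have hy : (⟨D.proj χ (y : X), h.proj_mem _⟩ : D.space χ) = y := Subtype.ext (h.proj_of_mem y.2)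
      have h2 := hall (y : X)
      rw [← hosv, hy, ← hos, hosE _ hx] at h2
      rw [← inv_smul_smul₀ D.hkr (Q y)]
      exact H.smul_mem _ h2
    set w := Q ⟨D.proj χ f₀, h.proj_mem _⟩ with hwd
    have hwE : F' w = w := by
      rw [hwd, hF'Q]
      exact congrArg Q (Subtype.ext (by rw [SV_apply, ← D.proj_S_fixed h hχ, hf₀S]))
    have hw0 : w ≠ 0 := fun h0 => hw (h0 ▸ H.zero_mem)
    set L : Set (h.mV hχ) := {v | ∃ c : k, MU v w = c • w} with hL
    have hL1 : (1 : h.mV hχ) ∈ L := ⟨1, by rw [hU.one, Module.End.one_apply, one_smul]⟩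
    have hLmul : ∀ x y, x ∈ L → y ∈ L → x * y ∈ L := by
      rintro x y ⟨c, hx⟩ ⟨d, hy⟩
      refine ⟨((h.factor hχ).c x y)⁻¹ * (d * c), ?_⟩
      have e := hU.mul_apply x y w
      rw [hy, map_smul, hx, smul_smul] at e
      rw [mul_smul, e, smul_smul, inv_mul_cancel₀ ((h.factor hχ).ne x y), one_smul]
    have hLinv : ∀ x, x ∈ L → x⁻¹ ∈ L := by
      intro x hx
      have hp : ∀ j : ℕ, x ^ j ∈ L := fun j => by
        induction j with
        | zero => rw [pow_zero]; exact hL1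
        | succ j ih => rw [pow_succ]; exact hLmul _ _ ih hx
      rw [show x⁻¹ = x ^ (orderOf x - 1) from inv_eq_of_mul_eq_one_right (by
        rw [← pow_succ', Nat.sub_add_cancel (orderOf_pos x), pow_orderOf_eq_one])]
      exact hp _
    have hdne := hF'.d_ne_zero hU (injective_of_pow_scalar D.hr.pos one_ne_zero (hF'r.trans (one_smul k _).symm))
    have hLσ : ∀ x, x ∈ L → h.σV hχ x ∈ L := by
      rintro x ⟨c, hx⟩
      have e := hF'.apply x w
      rw [hx, map_smul, hwE] at e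
      exact ⟨(h.scal hχ hχ (fun _ => rfl) x)⁻¹ * c, by rw [mul_smul, e, inv_smul_smul₀ (hdne x)]⟩
    have hLd : ∀ v, v⁻¹ * h.σV hχ v ∈ L → v ∈ L := by
      intro v hv
      let δ : L → L := fun x => ⟨(x : h.mV hχ)⁻¹ * h.σV hχ x, hLmul _ _ (hLinv _ x.2) (hLσ _ x.2)⟩
      have hδ : Function.Injective δ := by
        intro x y hxy
        have e : (x : h.mV hχ)⁻¹ * h.σV hχ x = (y : h.mV hχ)⁻¹ * h.σV hχ y := congrArg Subtype.val hxy
        refine Subtype.ext (div_eq_one.1 (hσs.eq_one_of_apply_eq D.hr.two_le ?_))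
        rw [map_div, div_eq_div_iff_mul_eq_mul]
        calc h.σV hχ (x : h.mV hχ) * y = (x : h.mV hχ) * y * ((x : h.mV hχ)⁻¹ * h.σV hχ x) := by
              rw [mul_comm (x : h.mV hχ) y, mul_assoc, mul_inv_cancel_left, mul_comm]
          _ = x * y * ((y : h.mV hχ)⁻¹ * h.σV hχ y) := by rw [e]
          _ = x * h.σV hχ y := by rw [mul_assoc, mul_inv_cancel_left]
      obtain ⟨l, hl'⟩ := (Finite.injective_iff_surjective.1 hδ) ⟨_, hv⟩
      have e : (l : h.mV hχ)⁻¹ * h.σV hχ l = v⁻¹ * h.σV hχ v := congrArg Subtype.val hl'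
      have h1 : v / l = 1 := hσs.eq_one_of_apply_eq D.hr.two_le (by
        rw [map_div, div_eq_div_iff_mul_eq_mul]
        calc h.σV hχ v * l = v * l * (v⁻¹ * h.σV hχ v) := by
              rw [mul_comm v (l : h.mV hχ), mul_assoc, mul_inv_cancel_left, mul_comm]
          _ = v * l * ((l : h.mV hχ)⁻¹ * h.σV hχ l) := by rw [e]
          _ = v * h.σV hχ l := by rw [mul_assoc, mul_inv_cancel_left])
      exact div_eq_one.1 h1 ▸ l.2
    have horb : ∀ v, v ∉ L → orbitSum F' D.r (MU v w) ∈ H := by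
      intro v hv
      set t := h.rep hχ v
      have hMv : MU v w = Q ⟨D.proj χ (D.ρ t f₀), h.proj_mem _⟩ := by
        rw [hwd, ← hQM]
        exact congrArg Q (Subtype.ext ((M_apply h hχ v _).trans (h.proj_ρ t f₀).symm))
      by_cases hS : D.S (D.ρ t f₀) = D.ρ t f₀
      · exfalso
        have e1 := hF'.apply v w
        rw [hwE] at e1
        have e2 : F' (MU v w) = MU v w := by
          rw [hMv, hF'Q]
          exact congrArg Q (Subtype.ext (by rw [SV_apply, ← D.proj_S_fixed h hχ, hS]))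
        rw [e2] at e1
        refine hv (hLd v ?_)
        refine ⟨((h.factor hχ).c v⁻¹ (h.σV hχ v))⁻¹ * ((h.scal hχ hχ (fun _ => rfl) v)⁻¹ *
          (h.factor hχ).c v⁻¹ v), ?_⟩
        have e3 : MU (h.σV hχ v) w = (h.scal hχ hχ (fun _ => rfl) v)⁻¹ • MU v w := by
          rw [e1, inv_smul_smul₀ (hdne v)]
        have e4 := hU.mul_apply v⁻¹ (h.σV hχ v) w
        rw [e3, map_smul, hU.mul_apply, inv_mul_cancel, hU.one, Module.End.one_apply, smul_smul] at e4
        rw [mul_smul, e4, inv_smul_smul₀ ((h.factor hχ).ne _ _)]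
      · rw [hMv, hos, hosv]
        exact Submodule.subset_span ⟨_, hB.inv t f₀ hf₀, hS, rfl⟩
    have hEle : ∀ x ∈ E, ∃ hh ∈ H, ∃ s : k, x = hh + s • w := by
      intro x hx
      have hm : ∀ y, ∃ hh ∈ H, ∃ s : k, orbitSum F' D.r y = hh + s • w := by
        intro y
        refine Submodule.span_induction (p := fun y _ => ∃ hh ∈ H, ∃ s : k, orbitSum F' D.r y = hh + s • w)
          ?_ ⟨0, H.zero_mem, 0, by simp⟩ ?_ ?_
          (show y ∈ Submodule.span k (Set.range fun v => MU v w) by rw [hU.span_orbit hUirr hw0]; trivial)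
        · rintro _ ⟨v, rfl⟩
          by_cases hv : v ∈ L
          · obtain ⟨c, hc'⟩ := hv
            exact ⟨0, H.zero_mem, c * D.r, by
              simp only [hc', map_smul, hosE _ ((hmemE w).2 hwE), smul_smul, zero_add]⟩
          · exact ⟨_, horb v hv, 0, by simp⟩
        · rintro y z _ _ ⟨h1, hh1, s1, e1⟩ ⟨h2, hh2, s2, e2⟩
          exact ⟨h1 + h2, H.add_mem hh1 hh2, s1 + s2, by rw [map_add, e1, e2, add_smul]; abel⟩
        · rintro c y _ ⟨h1, hh1, s1, e1⟩
          exact ⟨c • h1, H.smul_mem c hh1, c * s1, by rw [map_smul, e1, smul_add, smul_smul]⟩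
      obtain ⟨hh, hhH, s, e⟩ := hm x
      rw [hosE x hx] at e
      refine ⟨(D.r : k)⁻¹ • hh, H.smul_mem _ hhH, (D.r : k)⁻¹ * s, ?_⟩
      rw [mul_smul, ← smul_add, ← e, inv_smul_smul₀ D.hkr]
    have hx₀ : f' w - w ∈ E := by
      rw [hmemE, map_sub, hwE, ← Module.End.mul_apply, ← hf'F', Module.End.mul_apply, hwE]
    have hrank : RankOne f' E := ⟨1, f' w - w, hx₀, fun x hx => by
      obtain ⟨hh, hhH, s, rfl⟩ := hEle x hx
      refine ⟨s, ?_⟩
      rw [one_smul, map_add, map_smul, hfH hh hhH, smul_sub]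
      abel⟩
    rcases Nat.lt_or_ge (Module.finrank k E) 2 with hd | hd
    · obtain ⟨s, hs⟩ : ∃ s : k, f' w = s • w := by
        obtain ⟨hh, hhH, -⟩ := hEle w ((hmemE w).2 hwE)
        have h1 : Module.finrank k (k ∙ w) = 1 := finrank_span_singleton hw0
        have hle : (k ∙ w) ≤ E := (Submodule.span_singleton_le_iff_mem _ _).2 ((hmemE w).2 hwE)
        have h2 := Submodule.eq_of_le_of_finrank_le hle (by omega)
        have h3 : f' w ∈ E := by
          have := E.add_mem hx₀ ((hmemE w).2 hwE)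
          rwa [sub_add_cancel] at this
        rw [← h2, Submodule.mem_span_singleton] at h3
        obtain ⟨s, hs⟩ := h3
        exact ⟨s, hs.symm⟩
      refine Or.inl ⟨s, fun x hx => ?_⟩
      have h1 : Module.finrank k (k ∙ w) = 1 := finrank_span_singleton hw0
      have hle : (k ∙ w) ≤ E := (Submodule.span_singleton_le_iff_mem _ _).2 ((hmemE w).2 hwE)
      rw [← Submodule.eq_of_le_of_finrank_le hle (by omega), Submodule.mem_span_singleton] at hx
      obtain ⟨c, rfl⟩ := hx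
      rw [map_smul, hs, smul_comm]
    · refine Or.inr ⟨hd, hrank, ?_⟩
      have hbound := finrank_le_of_notMem hU hUirr hV hσs D.hr D.hkr hF' hF'r
        (by
          haveI := Fact.mk D.hp
          obtain ⟨l, hl'⟩ := IsPGroup.iff_card.1 (h.isPGroup_mV hχ)
          rw [hl']
          exact h.coprime_rp.pow_right l) hwE hw0
        (fun hm => hw ((Submodule.span_le.2 (by
          rintro x ⟨v, hv, rfl⟩
          exact horb v fun ⟨c, hc'⟩ => hv c hc') : _ ≤ H) hm))
      rw [hE, Fin.val_zero, pow_zero]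
      exact hbound
  refine ⟨fun o ho hθo hne => ?_, fun o ho hs hco hchar => ?_⟩
  · have hoN : o ∣ N := by
      by_contra hnd
      refine hne ?_
      have := pow_gcd_eq_one.2 ⟨hθo, hθVN⟩
      rwa [((ho.coprime_iff_not_dvd).2 hnd).gcd_eq_one, pow_one] at this
    exact pin hU hUirr hV hσs D.hr D.hkr hF' hF'r hζ D.hp D.hpr (h.isPGroup_mV hχ) ho
      (fun h' => (D.hp.coprime_iff_not_dvd.1 hNp.symm) (h' ▸ hoN))
      (fun h' => (D.hr.coprime_iff_not_dvd.1 hrN) (h' ▸ hoN)) hθo hne hcV hf' hN hf'N hθVN hrN hNp hf'F' 0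
      hd1 hal
  · exact semireg_two hU hUirr hV hσs D.hr D.hkr hF' hF'r hζ hs ho hcV hco hf' hN hf'N hf'F' hchar 0 hd1 hal

/-- **An operator fixing the averages is trivial or inverts on a live fixed part.** -/
theorem trivial_or_inverts (h : D.IsComp χ) (hχ : ∀ t, χ (D.σ t) = χ t) (hl : D.Live χ)
    (hfull : ∀ t, t⁻¹ * D.σ t ∈ h.zsub → t ∈ h.zsub) {B : Set X} (hB : D.Spans B)
    {θ : MulAut T} (hθ : ∀ t, χ (θ t) = χ t) (hc : ∀ t, θ (D.σ t) = D.σ (θ t)) {Y : Module.End k X}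
    (hY : ∀ t v, Y (D.ρ t v) = D.ρ (θ t) (Y v)) (hYS : ∀ v, Y (D.S v) = D.S (Y v)) {N : ℕ} (hN : 0 < N)
    (hYN : Y ^ N = 1) (hθN : θ ^ N = 1) (hrN : D.r.Coprime N) (hNp : N.Coprime D.p)
    (hfix : ∀ g ∈ B, D.S g ≠ g → Y (D.av g) = D.av g) :
    (∀ t, θ t * t⁻¹ ∈ h.zsub) ∨ (2 ∣ N ∧ ∀ t, θ t * t ∈ h.zsub) := by
  classical
  set θV := h.autV hχ hθ hc with hθV
  have hall : ∀ x : T ⧸ h.zsub, x ∈ h.mV hχ := fun x => by
    obtain ⟨a, ha, b, hb, rfl⟩ := exists_fix_mul_move (h.barσ_pow_r hχ) h.isPGroup_bar h.coprime_rp x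
    induction a using QuotientGroup.induction_on with
    | _ s =>
      have hs : s ∈ h.zsub := hfull s (QuotientGroup.eq.1 (mem_fixG.1 ha).symm)
      rw [(QuotientGroup.eq_one_iff s).2 hs, one_mul]
      exact hb
  have hθVN : θV ^ N = 1 := MulEquiv.ext fun v => Subtype.ext (by
    rw [hθV, autV_pow_apply, hθN, MulAut.one_apply, h.mk_rep]; rfl)
  have hcore : ∀ j : ℕ, (∀ o : ℕ, o.Prime → (θV ^ j) ^ o = 1 → θV ^ j ≠ 1 → o = 2 ∧ ∀ v, (θV ^ j) v = v⁻¹) ∧
      (∀ o : ℕ, 2 ≤ o → Semireg (θV ^ j) o → D.r.Coprime o →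
        ((o : k) ≠ 0 ∨ ∃ q e : ℕ, q.Prime ∧ CharP k q ∧ o = q ^ e) → o = 2) := by
    intro j
    have hθj : ∀ t, χ ((θ ^ j) t) = χ t := fun t => by
      induction j with
      | zero => rfl
      | succ j ih => rw [pow_succ', MulAut.mul_apply, hθ, ih]
    have hcj : ∀ t, (θ ^ j) (D.σ t) = D.σ ((θ ^ j) t) := fun t => by
      clear hθj
      induction j with
      | zero => rfl
      | succ j ih => rw [pow_succ', MulAut.mul_apply, ih, hc, MulAut.mul_apply]
    have hYj : ∀ t v, (Y ^ j) (D.ρ t v) = D.ρ ((θ ^ j) t) ((Y ^ j) v) := fun t v => by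
      clear hθj hcj
      induction j with
      | zero => rfl
      | succ j ih => rw [pow_succ', Module.End.mul_apply, ih, hY, pow_succ', MulAut.mul_apply, Module.End.mul_apply]
    have hYSj : ∀ v, (Y ^ j) (D.S v) = D.S ((Y ^ j) v) := fun v => by
      clear hθj hcj hYj
      induction j with
      | zero => rfl
      | succ j ih => rw [pow_succ', Module.End.mul_apply, ih, hYS, Module.End.mul_apply]
    have hfixj : ∀ g ∈ B, D.S g ≠ g → (Y ^ j) (D.av g) = D.av g := fun g hg hgS => by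
      clear hθj hcj hYj hYSj
      induction j with
      | zero => rfl
      | succ j ih => rw [pow_succ', Module.End.mul_apply, ih, hfix g hg hgS]
    have h1 := h.pin_core hχ hl hB hθj hcj hYj hYSj hN (by rw [← pow_mul, mul_comm, pow_mul, hYN, one_pow])
      (by rw [← pow_mul, mul_comm, pow_mul, hθN, one_pow]) hrN hNp hfixj
    rwa [h.autV_pow hχ hθ hc j hθj hcj] at h1
  have hpos : 0 < orderOf θV := orderOf_pos_iff.2 (isOfFinOrder_iff_pow_eq_one.2 ⟨N, hN, hθVN⟩)
  set e := orderOf θV with he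
  have heN : e ∣ N := orderOf_dvd_of_pow_eq_one hθVN
  rcases Nat.lt_or_ge e 2 with he2 | he2
  · left
    intro t
    have hone : θV = 1 := orderOf_eq_one_iff.1 (by omega)
    have h1 : θV ⟨(t : T ⧸ h.zsub), hall _⟩ = ⟨(t : T ⧸ h.zsub), hall _⟩ := by rw [hone]; rfl
    have h2 := congrArg Subtype.val h1
    rw [hθV, autV_apply, autBar_mk] at h2
    rw [← QuotientGroup.eq_one_iff, QuotientGroup.mk_mul, QuotientGroup.mk_inv, h2, mul_inv_cancel]
  right
  have hprime : ∀ o : ℕ, o.Prime → o ∣ e → o = 2 ∧ ∀ v, (θV ^ (e / o)) v = v⁻¹ := by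
    intro o ho hoe
    refine (hcore (e / o)).1 o ho ?_ ?_
    · rw [← pow_mul, Nat.div_mul_cancel hoe, he, pow_orderOf_eq_one]
    · refine pow_ne_one_of_lt_orderOf (Nat.pos_iff_ne_zero.1 (Nat.div_pos (Nat.le_of_dvd hpos hoe) ho.pos)) ?_
      exact Nat.div_lt_self hpos ho.one_lt
  have hpow2 : ∀ {q : ℕ}, q.Prime → q ∣ e → q = 2 := fun hq hqd => (hprime _ hq hqd).1
  have hek : e = 2 ^ e.primeFactorsList.length :=
    Nat.eq_prime_pow_of_unique_prime_dvd (by omega) hpow2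
  have h2e : 2 ∣ e := by
    obtain ⟨q, hq, hqd⟩ := Nat.exists_prime_and_dvd (show e ≠ 1 by omega)
    exact (hpow2 hq hqd) ▸ hqd
  have hp2 : D.p ≠ 2 := fun hp2 => by
    have h2 : Nat.Coprime 2 D.p := hNp.coprime_dvd_left (h2e.trans heN)
    rw [hp2] at h2
    norm_num at h2
  obtain ⟨-, hinv⟩ := hprime 2 Nat.prime_two h2e
  have he4 : ¬ 4 ∣ e := by
    intro h4
    have hsq : ∀ v, ((θV ^ (e / 4)) ^ 2) v = v⁻¹ := fun v => by
      rw [← pow_mul, show e / 4 * 2 = e / 2 by omega]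
      exact hinv v
    have hsemi : Semireg (θV ^ (e / 4)) 4 := by
      refine ⟨by rw [← pow_mul, Nat.div_mul_cancel h4, he, pow_orderOf_eq_one], fun i hi v hv => ?_⟩
      have h4e : (θV ^ (e / 4)) ^ 4 = 1 := by rw [← pow_mul, Nat.div_mul_cancel h4, he, pow_orderOf_eq_one]
      have hdouble : ((θV ^ (e / 4)) ^ (2 * i)) v = v := by
        rw [two_mul, pow_add, MulAut.mul_apply, hv, hv]
      have h2 : ((θV ^ (e / 4)) ^ 2) v = v := by
        rcases Nat.even_or_odd i with ⟨l, hl'⟩ | ⟨l, hl'⟩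
        · rw [pow_eq_pow_mod i h4e, show i % 4 = 2 by omega] at hv
          exact hv
        · rw [pow_eq_pow_mod (2 * i) h4e, show 2 * i % 4 = 2 by omega] at hdouble
          exact hdouble
      rw [hsq] at h2
      have hv2 : v ^ 2 = 1 := by rw [pow_two]; nth_rewrite 1 [← h2]; exact inv_mul_cancel v
      obtain ⟨l, hl'⟩ := h.isPGroup_mV hχ v
      have h3 := pow_gcd_eq_one.2 ⟨hv2, hl'⟩
      rwa [(((Nat.coprime_primes Nat.prime_two D.hp).2 (Ne.symm hp2)).pow_right l).gcd_eq_one, pow_one] at h3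
    have hco : D.r.Coprime 4 := hrN.coprime_dvd_right (h4.trans heN)
    have := (hcore (e / 4)).2 4 (by norm_num) hsemi hco (by
      by_cases h20 : (2 : k) = 0
      · exact Or.inr ⟨2, 2, Nat.prime_two, (CharP.charP_iff_prime_eq_zero Nat.prime_two).2 (by exact_mod_cast h20),
          rfl⟩
      · exact Or.inl (by
          rw [show ((4 : ℕ) : k) = 2 * 2 by push_cast; norm_num]
          exact mul_ne_zero h20 h20))
    omega
  have he2' : e / 2 = 1 := by
    rcases Nat.lt_or_ge e.primeFactorsList.length 2 with hl' | hl'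
    · have : 2 ^ e.primeFactorsList.length ≤ 2 ^ 1 := Nat.pow_le_pow_right (by norm_num) (by omega)
      omega
    · exact absurd (hek ▸ (pow_dvd_pow 2 hl' : 2 ^ 2 ∣ 2 ^ e.primeFactorsList.length)) he4
  refine ⟨h2e.trans heN, fun t => ?_⟩
  have h1 := hinv ⟨(t : T ⧸ h.zsub), hall _⟩
  rw [he2', pow_one] at h1
  have h2 := congrArg Subtype.val h1
  rw [hθV, autV_apply, autBar_mk, Subgroup.coe_inv] at h2
  rw [← QuotientGroup.eq_one_iff, QuotientGroup.mk_mul, h2, inv_mul_cancel]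

end Sys.IsComp

end CfsgLib.Turull
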