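import Cfsg.Agent.Turull.LevelKC
import Cfsg.Agent.Turull.CompPin

/-!
The first moved level of a minimal tower: one of the two levels below it sees the fixed points above it.
-/

set_option autoImplicit false
set_option linter.style.haveILetI false
set_option linter.unusedSectionVars false

namespace CfsgLib.Turull

open Subgroup
open scoped commutatorElement

variable {G : Type*} [Group G] [Finite G] {A : Type*} [Group A] [MulDistribMulAction A G]
variable {N : ℕ} {P : ℕ → Subgroup G} {p : ℕ → ℕ}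

namespace IsGood

variable (hP : IsGood A N P p) {a : A} {r : ℕ} (hA : CyclicOp G a r)
include hP hA

/-- The fixed points of the first moved level lie in its lower subgroup. -/
theorem fixed_mem_low {i : ℕ} (hi : i < N) (hc : ¬ Cen A N P i) (hbelow : ∀ k, k < i → P k ≤ fixBy a) {c : G}
    (hcP : c ∈ P i) (hca : a • c = c) : c ∈ low N P i := by
  let M : Subgroup G :=
    { carrier := {y | y ∈ P i ∧ y⁻¹ * a • y ∈ low N P i}
      one_mem' := ⟨one_mem _, by simp⟩
      mul_mem' := by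
        rintro x y ⟨hx, hx'⟩ ⟨hy, hy'⟩
        refine ⟨mul_mem hx hy, ?_⟩
        rw [smul_mul', show (x * y)⁻¹ * (a • x * a • y) = y⁻¹ * (x⁻¹ * a • x) * y * (y⁻¹ * a • y) by group]
        exact mul_mem ((mem_normalizer_iff''.1 (hP.self_le_normalizer_low hi hy) _).1 hx') hy'
      inv_mem' := by
        rintro x ⟨hx, hx'⟩
        refine ⟨inv_mem hx, ?_⟩
        rw [smul_inv', show x⁻¹⁻¹ * (a • x)⁻¹ = x * (x⁻¹ * a • x)⁻¹ * x⁻¹ by group]
        exact (mem_normalizer_iff.1 (hP.self_le_normalizer_low hi hx) _).1 (inv_mem hx') }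
  set Q := (P i ⊓ fixBy a) ⊔ low N P i with hQ
  have hQM : Q ≤ M := sup_le (fun y hy => ⟨hy.1, by rw [show a • y = y from hy.2, inv_mul_cancel]; exact one_mem _⟩)
    fun y hy => ⟨low_le hi hy, mul_mem (inv_mem hy) (hP.isInvariant_low hi a y hy)⟩
  by_cases hQe : Q = P i
  · exact absurd (hP.cen_of_displacement hA hi fun y hy => (hQM (hQe.ge hy)).2) hc
  refine hP.le_low hi (sup_le inf_le_left (low_le hi)) (fun b y hy => ?_) (fun k hk g hg => ?_) hQe
    (Subgroup.mem_sup_left ⟨hcP, hca⟩)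
  · have hle : Q ≤ Q.comap (MulDistribMulAction.toMulEquiv G b).toMonoidHom := by
      refine sup_le (fun x hx => Subgroup.mem_sup_left ⟨hP.tower.inv i hi b x hx.1, ?_⟩)
        fun x hx => Subgroup.mem_sup_right (hP.isInvariant_low hi b x hx)
      show a • b • x = b • x
      rw [smul_eq_of_fixed hA hx.2 b]
      exact hx.2
    exact hle hy
  · have key : ∀ g ∈ P k, ∀ x ∈ Q, g * x * g⁻¹ ∈ Q := by
      intro g hg x hx
      have hle : Q ≤ Q.comap (MulAut.conj g).toMonoidHom := by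
        refine sup_le (fun x hx => Subgroup.mem_sup_left ?_) fun x hx => Subgroup.mem_sup_right ?_
        · exact (mem_iff_conj_of_mem_normalizer
            (fixBy_le_normalizer (hbelow k hk hg) (hP.tower.norm k i hk hi hg)) x).1 hx
        · exact (mem_iff_conj_of_mem_normalizer (hP.le_normalizer_low hk hi hg) x).1 hx
      exact hle hx
    refine mem_normalizer_iff.2 fun x => ⟨key g hg x, fun hx => ?_⟩
    have := key g⁻¹ (inv_mem hg) _ hx
    rwa [show g⁻¹ * (g * x * g⁻¹) * g⁻¹⁻¹ = x by group] at this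

section Level

variable {K : Type} [Field K] [IsAlgClosed K] {i : ℕ} (hi : i + 1 < N) [CharP K (p (i + 1))]
  (hFL : ∀ c ∈ P i, a • c = c → c ∈ low N P i) {χ : P i → K} (h : (hP.sys K hA i hi).IsComp χ)
  (hχ : ∀ t, χ ((hP.sys K hA i hi).σ t) = χ t)

include hFL h hχ

theorem comp_full (t : P i) (ht : t⁻¹ * (hP.sys K hA i hi).σ t ∈ h.zsub) : t ∈ h.zsub := by
  obtain ⟨c, hc, hc'⟩ := (hP.sys K hA i hi).exists_fixed h.zsub (fun x hx => (h.mem_zsub_fixed hχ).2 hx) ht
  have hcl : c ∈ h.zsub := h.hA c (hFL c c.2 (congrArg Subtype.val hc))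
  have := mul_mem hcl (inv_mem hc')
  rwa [mul_inv_rev, inv_inv, mul_inv_cancel_left] at this

theorem comp_eq_of_eq_on_low {ψ : P i → K} (h' : (hP.sys K hA i hi).IsComp ψ)
    (hψ : ∀ t, ψ ((hP.sys K hA i hi).σ t) = ψ t) (heq : ∀ b ∈ (hP.sys K hA i hi).A, ψ b = χ b) : ψ = χ := by
  set D := hP.sys K hA i hi with hD
  have hsupp : ∀ z, ψ z ≠ 0 ↔ χ z ≠ 0 := fun z => by
    rw [h'.supp, h.supp]
    exact forall_congr' fun t => by rw [heq _ (D.hTA z t)]
  let L : Subgroup (P i) :=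
    { carrier := {z | χ z ≠ 0 ∧ ψ z = χ z}
      one_mem' := ⟨by rw [h.one]; exact one_ne_zero, by rw [h.one, h'.one]⟩
      mul_mem' := fun {x y} hx hy => ⟨h.mul_right_supp _ _ hx.1 hy.1, by
        rw [h.mul _ _ hx.1, h'.mul _ _ ((hsupp x).2 hx.1), hx.2, hy.2]⟩
      inv_mem' := fun {x} hx => ⟨(h.inv_supp x hx.1).1, by
        rw [(h.inv_supp x hx.1).2, (h'.inv_supp x ((hsupp x).2 hx.1)).2, hx.2]⟩ }
  funext z
  by_cases hz : χ z = 0
  · rw [hz]
    by_contra hne
    exact (hsupp z).1 hne hz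
  have hσz : χ (D.σ z) ≠ 0 := by rw [hχ]; exact hz
  have hd : z⁻¹ * D.σ z ∈ L := by
    refine ⟨h.mul_right_supp _ _ (h.inv_supp z hz).1 hσz, ?_⟩
    rw [h.mul _ _ (h.inv_supp z hz).1, h'.mul _ _ ((hsupp _).2 (h.inv_supp z hz).1), hχ, hψ,
      (h.inv_supp z hz).2, (h'.inv_supp z ((hsupp z).2 hz)).2, inv_mul_cancel₀ ((hsupp z).2 hz),
      inv_mul_cancel₀ hz]
  obtain ⟨c, hc, hc'⟩ := D.exists_fixed L
    (fun x hx => ⟨by rw [hχ]; exact hx.1, by rw [hχ, hψ]; exact hx.2⟩) hd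
  have hcA : c ∈ D.A := hFL c c.2 (congrArg Subtype.val hc)
  have hzL := mul_mem (show c ∈ L from ⟨h.hA c hcA, heq c hcA⟩) (inv_mem hc')
  rw [mul_inv_rev, inv_inv, mul_inv_cancel_left] at hzL
  exact hzL.2

end Level

/-- The conjugation by a fixed element of a lower level, on a level. -/
def conjLev {k i : ℕ} (hki : k ≤ i) (hi : i < N) {u : G} (hu : u ∈ P k) : MulAut (P i) :=
  restrictAut (P i) (MulAut.conj u) (hP.pres_conj hki hu i le_rfl hi)

omit hA in
theorem conjLev_apply {k i : ℕ} (hki : k ≤ i) (hi : i < N) {u : G} (hu : u ∈ P k) (t : P i) :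
    ((hP.conjLev hki hi hu t : P i) : G) = u * t * u⁻¹ := rfl

omit hA in
theorem conjLev_pow {k i : ℕ} (hki : k ≤ i) (hi : i < N) {u : G} (hu : u ∈ P k) (n : ℕ) (t : P i) :
    (((hP.conjLev hki hi hu ^ n) t : P i) : G) = u ^ n * t * (u ^ n)⁻¹ := by
  induction n with
  | zero => simp
  | succ n ih => rw [pow_succ', MulAut.mul_apply, conjLev_apply, ih, pow_succ']; group

/-- **The junction.** -/
theorem junction {m : ℕ} (hi : m + 1 + 1 + 1 < N) (hbelow : ∀ k, k ≤ m + 1 → P k ≤ fixBy a)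
    (hc : ¬ Cen A N P (m + 1 + 1)) :
    (¬ P (m + 1) ≤ actKer (P (m + 1 + 1 + 1) ⊓ fixBy a) (kc N P a (m + 1 + 1 + 1)) ∧
        p (m + 1) ≠ p (m + 1 + 1 + 1)) ∨
      (¬ P m ≤ actKer (P (m + 1 + 1 + 1) ⊓ fixBy a) (kc N P a (m + 1 + 1 + 1)) ∧ p m ≠ p (m + 1 + 1 + 1)) ∨
      (¬ P m ≤ actKer (low N P (m + 1 + 1) ⊓ fixBy a) (low N P (m + 1 + 1) ⊓ fixBy a ⊓
          actKer (P (m + 1 + 1 + 1) ⊓ fixBy a) (kc N P a (m + 1 + 1 + 1))) ∧ p m ≠ p (m + 1 + 1)) := by
  classical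
  set KD := actKer (P (m + 1 + 1 + 1) ⊓ fixBy a) (kc N P a (m + 1 + 1 + 1)) with hKD
  by_cases hU : P (m + 1) ≤ KD
  swap
  · by_cases hpne : p (m + 1) ≠ p (m + 1 + 1 + 1)
    · exact Or.inl ⟨hU, hpne⟩
    push Not at hpne
    refine Or.inr (Or.inl ⟨fun hY => hU ?_, fun h => hP.tower.adj m (by omega) (h.trans hpne.symm)⟩)
    rw [← hP.comm (show m + 1 < N by omega)]
    refine commutator_le.2 fun u hu y hy => ?_
    have hn : u ∈ normalizer (KD : Set G) := by
      rw [hKD]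
      exact normalizer_actKer
        (fixBy_le_normalizer (hbelow (m + 1) le_rfl hu) (hP.tower.norm (m + 1) _ (by omega) hi hu))
        (hP.normalizer_kc (k := m + 1) (by omega) hi hu (hbelow (m + 1) le_rfl hu))
    exact mul_mem ((mem_normalizer_iff.1 hn y).1 (hY hy)) (inv_mem (hY hy))
  -- the middle level kills the fixed points above
  right
  haveI : Fact (p (m + 1 + 1 + 1)).Prime := ⟨hP.tower.prime _ hi⟩
  set K := AlgebraicClosure (ZMod (p (m + 1 + 1 + 1))) with hK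
  set D := hP.sys K hA (m + 1 + 1) hi with hD
  obtain ⟨B, hB, hkill⟩ := hP.exists_B' hA (K := K) hi
  have hi2 : m + 1 + 1 < N := by omega
  have hFL : ∀ c ∈ P (m + 1 + 1), a • c = c → c ∈ low N P (m + 1 + 1) := fun c hcP hca =>
    hP.fixed_mem_low hA hi2 hc (fun k hk => hbelow k (by omega)) hcP hca
  have hlowA : ∀ {k : ℕ} (_ : k < m + 1 + 1) {u : G} (_ : u ∈ P k) (x : G),
      x ∈ low N P (m + 1 + 1) ↔ MulAut.conj u x ∈ low N P (m + 1 + 1) := fun hk _ hu x =>
    mem_iff_conj_of_mem_normalizer (hP.le_normalizer_low hk hi2 hu) x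
  have hθσ : ∀ {k : ℕ} (hki : k ≤ m + 1 + 1) {u : G} (hu : u ∈ P k) (_ : a • u = u) (t : P (m + 1 + 1)),
      hP.conjLev hki hi2 hu (D.σ t) = D.σ (hP.conjLev hki hi2 hu t) := fun hki u hu hua t => Subtype.ext (by
    rw [conjLev_apply, sys_σ_apply, sys_σ_apply, conjLev_apply, smul_mul', smul_mul', smul_inv', hua])
  have hYS : ∀ {k : ℕ} (hki : k ≤ m + 1 + 1) {u : G} (hu : u ∈ P k) (_ : a • u = u) (v : levMod N P K (m + 1 + 1)),
      levOp hi (MulAut.conj u) (hP.pres_conj hki hu) (D.S v) =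
        D.S (levOp hi (MulAut.conj u) (hP.pres_conj hki hu) v) := by
    intro k hki u hu hua v
    have h1 : Pres N P ((MulAut.conj u).trans (MulDistribMulAction.toMulEquiv G a)) (m + 1 + 1) :=
      fun j hj hjN x => (hP.pres_conj hki hu j hj hjN x).trans (hP.pres_act a (m + 1 + 1) j hj hjN _)
    refine Eq.symm ?_
    rw [← Module.End.mul_apply, ← Module.End.mul_apply]
    refine LinearMap.congr_fun ?_ v
    exact (levOp_mul hi (hP.pres_act a _) (hP.pres_conj hki hu) h1 fun y _ => rfl).trans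
      (levOp_mul hi (hP.pres_conj hki hu) (hP.pres_act a _) h1 fun y _ => by simp [smul_mul', hua]).symm
  have hYfix : ∀ {k : ℕ} (hki : k ≤ m + 1 + 1) {u : G} (hu : u ∈ P k) (_ : a • u = u) (_ : u ∈ KD),
      ∀ g ∈ B, D.S g ≠ g →
        levOp hi (MulAut.conj u) (hP.pres_conj hki hu) (D.av g) = D.av g :=
    fun hki u hu hua huK g hg hgS => hP.conj_av hA hi hki hu hua huK (hkill g hg hgS)
  -- a part fixed by an element fixing its values on the lower subgroup
  have hinv : ∀ {k : ℕ} (hk : k < m + 1 + 1) {u : G} (hu : u ∈ P k) (_ : a • u = u) {χ : P (m + 1 + 1) → K}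
      (_ : D.IsComp χ) (_ : ∀ t, χ (D.σ t) = χ t) (_ : ∀ b ∈ D.A, χ (hP.conjLev hk.le hi2 hu b) = χ b),
      ∀ t, χ (hP.conjLev hk.le hi2 hu t) = χ t := by
    intro k hk u hu hua χ hχ hχσ hA' t
    have h1 := hP.isComp_transport hA hi (η := MulAut.conj u⁻¹) (hP.pres_conj hk.le (inv_mem hu))
      (fun x => hlowA hk (inv_mem hu) x) hχ
    have e : (fun t => χ ((restrictAut (P (m + 1 + 1)) (MulAut.conj u⁻¹)
        (hP.pres_conj hk.le (inv_mem hu) _ le_rfl hi2)).symm t)) = fun t => χ (hP.conjLev hk.le hi2 hu t) :=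
      funext fun t => congrArg χ (Subtype.ext (by
        rw [restrictAut_symm_apply, conjLev_apply, MulEquiv.symm_apply_eq, MulAut.conj_apply]
        group))
    rw [e] at h1
    exact congrFun (hP.comp_eq_of_eq_on_low hA hi hFL hχ hχσ h1
      (fun t => by rw [hθσ hk.le hu hua, hχσ]) hA') t
  have hinvU : ∀ {u : G} (hu : u ∈ P (m + 1)) {χ : P (m + 1 + 1) → K} (_ : D.IsComp χ)
      (_ : ∀ b ∈ D.A, True), ∀ b ∈ D.A, χ (hP.conjLev (Nat.le_succ (m + 1)) hi2 hu b) = χ b :=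
    fun hu χ hχ _ b hb => hP.comp_conj_low hA hi hχ hu hb (hP.conjLev_apply (Nat.le_succ (m + 1)) hi2 hu b)
  -- moved parts are fixed pointwise
  have hmoved : ∀ {u : G} (hu : u ∈ P (m + 1)) {χ : P (m + 1 + 1) → K} (_ : D.IsComp χ)
      (_ : ∃ t, χ (D.σ t) ≠ χ t) (t : P (m + 1 + 1)),
      hP.conjLev (Nat.le_succ (m + 1)) hi2 hu t * t⁻¹ ∈ D.fixK χ := by
    intro u hu χ hχ hmv t v hv
    have hua : a • u = u := hbelow _ le_rfl hu
    have hki : m + 1 ≤ m + 1 + 1 := Nat.le_succ _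
    have hres : ∀ w ∈ D.space χ, levEquiv hi (MulAut.conj u) (hP.pres_conj hki hu) w = w := fun w hw => by
      refine Sys.moved_fixed_pointwise hB hχ hmv (hP.conjLev hki hi2 hu) (fun b hb => ?_) (fun b hb => ?_)
        (hθσ hki hu hua) _ (fun t v => hP.levOp_comm_ρ hA hi _ (hP.pres_conj hki hu) t v) (hYS hki hu hua)
        (hYfix hki hu hua (hU hu)) (hinvU hu hχ fun _ _ => trivial) (m := orderOf u) ?_ ?_ hw
      · exact (hlowA (show m + 1 < m + 1 + 1 by omega) hu _).1 hb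
      · rw [sys_A_apply] at hb ⊢
        rw [hlowA (show m + 1 < m + 1 + 1 by omega) hu]
        show MulAut.conj u (((hP.conjLev hki hi2 hu).symm b : P (m + 1 + 1)) : G) ∈ _
        rwa [MulAut.conj_apply, ← conjLev_apply hP hki hi2 hu, MulEquiv.apply_symm_apply]
      · exact MulEquiv.ext fun t => Subtype.ext (by rw [conjLev_pow, pow_orderOf_eq_one]; simp)
      · exact Nat.Coprime.symm ((hA.prime.coprime_iff_not_dvd).2 fun hd => hA.cop (hd.trans (orderOf_dvd_natCard u)))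
    have h1 : D.ρ (hP.conjLev hki hi2 hu t) (D.ρ t⁻¹ v) = v := by
      set w := D.ρ t⁻¹ v
      have hw : w ∈ D.space χ := hχ.ρ_mem_space _ hv
      have e := hP.levOp_comm_ρ hA hi (MulAut.conj u) (hP.pres_conj hki hu) t w
      rw [← levEquiv_apply, ← levEquiv_apply, hres w hw, hres _ (hχ.ρ_mem_space t hw)] at e
      refine e.symm.trans ?_
      show D.ρ t (D.ρ t⁻¹ v) = v
      rw [← D.ρ_mul, mul_inv_cancel, D.ρ_one]
    rw [D.ρ_mul]
    exact h1
  -- displaced fixed parts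
  have hdisp : ∀ {u : G} (hu : u ∈ P (m + 1)) {χ : P (m + 1 + 1) → K} (hχ : D.IsComp χ)
      (hχσ : ∀ t, χ (D.σ t) = χ t) (_ : ∃ t, ∃ v ∈ D.space χ, D.ρ (t⁻¹ * D.σ t) v ≠ v),
      (∀ t, hP.conjLev (Nat.le_succ (m + 1)) hi2 hu t * t⁻¹ ∈ hχ.zsub) ∨
        (2 ∣ orderOf u ∧ ∀ t, hP.conjLev (Nat.le_succ (m + 1)) hi2 hu t * t ∈ hχ.zsub) := by
    intro u hu χ hχ hχσ hR
    have hua : a • u = u := hbelow _ le_rfl hu
    have hki : m + 1 ≤ m + 1 + 1 := Nat.le_succ _
    refine hχ.trivial_or_inverts hχσ (hP.live_of_displaced hA hi hχ hR) (hP.comp_full hA hi hFL hχ hχσ) hB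
      (hinv (show m + 1 < m + 1 + 1 by omega) hu hua hχ hχσ (hinvU hu hχ fun _ _ => trivial)) (hθσ hki hu hua)
      (Y := levOp hi (MulAut.conj u) (hP.pres_conj hki hu))
      (fun t v => hP.levOp_comm_ρ hA hi _ (hP.pres_conj hki hu) t v) (hYS hki hu hua) (orderOf_pos u) ?_ ?_ ?_ ?_
      (hYfix hki hu hua (hU hu))
    · have key : ∀ n : ℕ, (levOp hi (MulAut.conj u) (hP.pres_conj hki hu) : Module.End K _) ^ n =
          levOp hi (MulAut.conj (u ^ n)) (hP.pres_conj hki (pow_mem hu n)) := by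
        intro n
        induction n with
        | zero => rw [pow_zero, eq_comm]; exact levOp_refl hi _ fun y _ => by simp
        | succ n ih =>
          rw [pow_succ', ih]
          exact levOp_mul hi _ _ _ fun y _ => by simp [pow_succ', mul_assoc]
      rw [key]
      exact levOp_refl hi _ fun y _ => by simp [pow_orderOf_eq_one]
    · exact MulEquiv.ext fun t => Subtype.ext (by rw [conjLev_pow, pow_orderOf_eq_one]; simp)
    · exact (hA.prime.coprime_iff_not_dvd).2 fun hd => hA.cop (hd.trans (orderOf_dvd_natCard u))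
    · have h1 : orderOf u ∣ Nat.card (P (m + 1)) := by
        rw [← Subgroup.orderOf_mk _ hu]; exact orderOf_dvd_natCard _
      have hne := hP.tower.adj (m + 1) hi2
      haveI := Fact.mk (hP.tower.prime (m + 1) (by omega))
      obtain ⟨e, he⟩ := IsPGroup.iff_card.1 (hP.tower.pgroup (m + 1) (by omega))
      exact Nat.Coprime.coprime_dvd_left (he ▸ h1)
        ((((Nat.coprime_primes (hP.tower.prime (m + 1) (by omega)) (hP.tower.prime (m + 1 + 1) hi2)).2 hne).pow_left e))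
  -- the elements acting trivially on every displaced fixed part form the whole middle level, unless `Y` moves one
  have hcontra : (∀ (u : G) (hu : u ∈ P (m + 1)) (χ : P (m + 1 + 1) → K) (hχ : D.IsComp χ),
      (∀ t, χ (D.σ t) = χ t) → (∃ t, ∃ v ∈ D.space χ, D.ρ (t⁻¹ * D.σ t) v ≠ v) →
        ∀ t, hP.conjLev (Nat.le_succ (m + 1)) hi2 hu t * t⁻¹ ∈ hχ.zsub) → False := by
    intro hall
    obtain ⟨χ, hχ, hR⟩ := hP.exists_displaced hA (K := K) hi hc
    let M : Subgroup (P (m + 1 + 1)) :=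
      { carrier := {t | ∀ (χ : P (m + 1 + 1) → K) (hχ : D.IsComp χ),
          ((∃ t, χ (D.σ t) ≠ χ t) → t ∈ D.fixK χ) ∧
          ((∀ t, χ (D.σ t) = χ t) → (∃ t, ∃ v ∈ D.space χ, D.ρ (t⁻¹ * D.σ t) v ≠ v) → t ∈ hχ.zsub)}
        one_mem' := fun χ hχ => ⟨fun _ => one_mem _, fun _ _ => one_mem _⟩
        mul_mem' := fun hx hy χ hχ => ⟨fun h => mul_mem ((hx χ hχ).1 h) ((hy χ hχ).1 h),
          fun h h' => mul_mem ((hx χ hχ).2 h h') ((hy χ hχ).2 h h')⟩
        inv_mem' := fun hx χ hχ => ⟨fun h => inv_mem ((hx χ hχ).1 h), fun h h' => inv_mem ((hx χ hχ).2 h h')⟩ }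
    have htop : ∀ t, t ∈ M := by
      have hle : P (m + 1 + 1) ≤ M.map (P (m + 1 + 1)).subtype := by
        refine (hP.comm hi2).symm.le.trans (commutator_le.2 fun z hz x hx => ?_)
        refine ⟨(hP.conjLev (Nat.le_succ (m + 1)) hi2 hx ⟨z, hz⟩ * (⟨z, hz⟩ : P (m + 1 + 1))⁻¹)⁻¹,
          inv_mem (fun χ hχ => ⟨fun h => hmoved hx hχ h _, fun h h' => hall x hx χ hχ h h' _⟩), ?_⟩
        simp [conjLev_apply, commutatorElement_def, mul_assoc]
      intro t
      obtain ⟨w, hw, hwt⟩ := hle t.2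
      exact (Subtype.ext hwt : w = t) ▸ hw
    by_cases hmv : ∃ t, χ (D.σ t) ≠ χ t
    · have hfx : ∀ t, ∀ v ∈ D.space χ, D.ρ t v = v := fun t => ((htop t) χ hχ).1 hmv
      obtain ⟨v, hv, hv'⟩ := hχ.eig
      have hval : ∀ z, χ z ≠ 0 → χ z = 1 := fun z hz => by
        refine smul_left_injective K hv ?_
        show χ z • v = (1 : K) • v
        rw [one_smul, ← hv' z hz, hfx z v hv']
      have hall1 : ∀ z, χ z = 1 := fun z => hval z ((hχ.supp z).2 fun s => hval _ (hχ.comm_supp z s))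
      obtain ⟨t, ht⟩ := hmv
      exact ht (by rw [hall1, hall1])
    · push Not at hmv
      haveI := hχ.nontrivial_mV hmv hR
      obtain ⟨v, hv⟩ := exists_ne (1 : hχ.mV hmv)
      refine hv (Subtype.ext ?_)
      rw [← hχ.mk_rep hmv v]
      exact (QuotientGroup.eq_one_iff _).2 ((htop _ χ hχ).2 hmv hR)
  by_cases hY : ∀ (y : G) (hy : y ∈ P m) (χ : P (m + 1 + 1) → K), D.IsComp χ → (∀ t, χ (D.σ t) = χ t) →
      (∃ t, ∃ v ∈ D.space χ, D.ρ (t⁻¹ * D.σ t) v ≠ v) →
        ∀ b ∈ D.A, χ (hP.conjLev (show m ≤ m + 1 + 1 by omega) hi2 hy b) = χ b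
  · -- then the middle level acts trivially on the displaced fixed parts
    exfalso
    refine hcontra fun u hu χ hχ hχσ hR t => ?_
    have hki : m + 1 ≤ m + 1 + 1 := Nat.le_succ _
    let M : Subgroup G :=
      { carrier := {u | ∃ hu : u ∈ P (m + 1), ∀ t, hP.conjLev hki hi2 hu t * t⁻¹ ∈ hχ.zsub}
        one_mem' := ⟨one_mem _, fun t => by
          rw [show hP.conjLev hki hi2 (one_mem (P (m + 1))) t = t from Subtype.ext (by simp [conjLev_apply]),
            mul_inv_cancel]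
          exact one_mem _⟩
        mul_mem' := by
          rintro x y ⟨hx, hx'⟩ ⟨hy, hy'⟩
          refine ⟨mul_mem hx hy, fun t => ?_⟩
          rw [show hP.conjLev hki hi2 (mul_mem hx hy) t * t⁻¹ =
              (hP.conjLev hki hi2 hx (hP.conjLev hki hi2 hy t) * (hP.conjLev hki hi2 hy t)⁻¹) *
                (hP.conjLev hki hi2 hy t * t⁻¹) from Subtype.ext (by simp [conjLev_apply, mul_assoc])]
          exact mul_mem (hx' _) (hy' t)
        inv_mem' := by
          rintro x ⟨hx, hx'⟩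
          refine ⟨inv_mem hx, fun t => ?_⟩
          rw [show hP.conjLev hki hi2 (inv_mem hx) t * t⁻¹ =
              (hP.conjLev hki hi2 hx (hP.conjLev hki hi2 (inv_mem hx) t) *
                (hP.conjLev hki hi2 (inv_mem hx) t)⁻¹)⁻¹ from Subtype.ext (by simp [conjLev_apply, mul_assoc])]
          exact inv_mem (hx' _) }
    have hle : P (m + 1) ≤ M := by
      refine (hP.comm (show m + 1 < N by omega)).symm.le.trans (commutator_le.2 fun u hu y hy => ?_)
      have hyu : y * u⁻¹ * y⁻¹ ∈ P (m + 1) :=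
        (mem_normalizer_iff.1 (hP.tower.norm m (m + 1) (by omega) (by omega) hy) _).1 (inv_mem hu)
      have hcu : ⁅u, y⁆ ∈ P (m + 1) := by
        rw [show ⁅u, y⁆ = u * (y * u⁻¹ * y⁻¹) by simp [commutatorElement_def, mul_assoc]]
        exact mul_mem hu hyu
      refine ⟨hcu, fun t => ?_⟩
      have hkm : m ≤ m + 1 + 1 := by omega
      have hθy : ∀ s, χ (hP.conjLev hkm hi2 hy s) = χ s :=
        hinv (show m < m + 1 + 1 by omega) hy (hbelow m (by omega) hy) hχ hχσ (hY y hy χ hχ hχσ hR)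
      have hyz : ∀ {s : P (m + 1 + 1)}, s ∈ hχ.zsub → hP.conjLev hkm hi2 hy s ∈ hχ.zsub := fun hs =>
        (hχ.mem_zsub_fixed hθy).2 hs
      have huz : ∀ {s : P (m + 1 + 1)}, s ∈ hχ.zsub → hP.conjLev hki hi2 hu s ∈ hχ.zsub := fun hs =>
        (hχ.mem_zsub_fixed (hinv (show m + 1 < m + 1 + 1 by omega) hu (hbelow _ le_rfl hu) hχ hχσ
          (hinvU hu hχ fun _ _ => trivial))).2 hs
      set w := hP.conjLev hki hi2 hcu t
      -- on the quotient the image of `u` is central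
      have hq : ∀ s, (((hP.conjLev hki hi2 hu (hP.conjLev hkm hi2 hy s)) : P (m + 1 + 1)) : P (m + 1 + 1) ⧸ hχ.zsub)
          = ((hP.conjLev hkm hi2 hy (hP.conjLev hki hi2 hu s)) : P (m + 1 + 1)) := by
        intro s
        rcases hdisp hu hχ hχσ hR with h1 | ⟨-, h1⟩
        · have e : ∀ x, ((hP.conjLev hki hi2 hu x : P (m + 1 + 1)) : P (m + 1 + 1) ⧸ hχ.zsub) = x := fun x => by
            rw [← mul_inv_eq_one, ← QuotientGroup.mk_inv, ← QuotientGroup.mk_mul]
            exact (QuotientGroup.eq_one_iff _).2 (h1 x)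
          have e2 := hyz (h1 s)
          rw [e]
          rw [map_mul, map_inv] at e2
          rw [eq_comm, ← mul_inv_eq_one, ← QuotientGroup.mk_inv, ← QuotientGroup.mk_mul]
          exact (QuotientGroup.eq_one_iff _).2 e2
        · have e : ∀ x, ((hP.conjLev hki hi2 hu x : P (m + 1 + 1)) : P (m + 1 + 1) ⧸ hχ.zsub) = (x : _)⁻¹ :=
            fun x => by
              rw [QuotientGroup.mk_inv, eq_inv_iff_mul_eq_one, ← QuotientGroup.mk_mul]
              exact (QuotientGroup.eq_one_iff _).2 (h1 x)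
          have e2 := hyz (h1 s)
          rw [e]
          rw [map_mul] at e2
          rw [eq_comm, QuotientGroup.mk_inv, eq_inv_iff_mul_eq_one, ← QuotientGroup.mk_mul]
          exact (QuotientGroup.eq_one_iff _).2 e2
      set s := hP.conjLev hkm hi2 (inv_mem hy) (hP.conjLev hki hi2 (inv_mem hu) t) with hs
      have e1 : hP.conjLev hki hi2 hu (hP.conjLev hkm hi2 hy s) = t := by
        rw [hs]; exact Subtype.ext (by simp [conjLev_apply, mul_assoc])
      set s' := hP.conjLev hki hi2 (inv_mem hu) (hP.conjLev hkm hi2 (inv_mem hy) t) with hs'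
      have e2 : hP.conjLev hkm hi2 hy (hP.conjLev hki hi2 hu s') = t := by
        rw [hs']; exact Subtype.ext (by simp [conjLev_apply, mul_assoc])
      have e3 : w = hP.conjLev hki hi2 hu (hP.conjLev hkm hi2 hy s') :=
        Subtype.ext (by simp [w, hs', conjLev_apply, commutatorElement_def, mul_assoc])
      rw [e3, ← QuotientGroup.eq_one_iff, QuotientGroup.mk_mul, QuotientGroup.mk_inv, hq, e2, mul_inv_cancel]
    obtain ⟨hu', h'⟩ := hle hu
    exact h' t
  push Not at hY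
  obtain ⟨y, hy, χ, hχ, hχσ, hR, b, hb, hne⟩ := hY
  have hya : a • y = y := hbelow m (by omega) hy
  have hkm : m ≤ m + 1 + 1 := by omega
  have hlive := hP.live_of_displaced hA hi hχ hR
  have hθA : ∀ b ∈ D.A, hP.conjLev hkm hi2 hy b ∈ D.A := fun b hb =>
    (hlowA (show m < m + 1 + 1 by omega) hy _).1 hb
  have hyK : y ∉ KD := fun hyK => hne (Sys.char_eq_of_fixes hB hχ hlive hχσ (hP.conjLev hkm hi2 hy) hθA
    (hθσ hkm hy hya) (levEquiv hi (MulAut.conj y) (hP.pres_conj hkm hy))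
    (fun t v => hP.levOp_comm_ρ hA hi _ (hP.pres_conj hkm hy) t v) (hYfix hkm hy hya hyK) hb)
  by_cases hpm : p m ≠ p (m + 1 + 1 + 1)
  · exact Or.inl ⟨fun h => hyK (h hy), hpm⟩
  push Not at hpm
  refine Or.inr ⟨fun h => ?_, fun h' => hP.tower.adj (m + 1 + 1) hi (h'.symm.trans hpm)⟩
  -- a fixed element of the lower subgroup seen by `y`
  let N₀ : Subgroup (P (m + 1 + 1)) :=
    { carrier := {x | x ∈ D.A ∧ χ x = 1 ∧ χ (hP.conjLev hkm hi2 hy x) = 1}
      one_mem' := ⟨one_mem _, hχ.one, by rw [map_one, hχ.one]⟩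
      mul_mem' := fun {x z} hx hz => ⟨mul_mem hx.1 hz.1,
        by rw [hχ.mul _ _ (hχ.hA _ hx.1), hx.2.1, hz.2.1, mul_one],
        by rw [map_mul, hχ.mul _ _ (hχ.hA _ (hθA _ hx.1)), hx.2.2, hz.2.2, mul_one]⟩
      inv_mem' := fun {x} hx => ⟨inv_mem hx.1, by rw [(hχ.inv_supp x (hχ.hA _ hx.1)).2, hx.2.1, inv_one],
        by rw [map_inv, (hχ.inv_supp _ (hχ.hA _ (hθA _ hx.1))).2, hx.2.2, inv_one]⟩ }
  have hd : b⁻¹ * D.σ b ∈ N₀ := by
    refine ⟨mul_mem (inv_mem hb) (D.hσA b hb), ?_, ?_⟩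
    · rw [hχ.mul _ _ (hχ.hA _ (inv_mem hb)), hχσ, ← hχ.mul _ _ (hχ.hA _ (inv_mem hb)), inv_mul_cancel, hχ.one]
    · rw [map_mul, hχ.mul _ _ (hχ.hA _ (hθA _ (inv_mem hb))), hθσ hkm hy hya, hχσ,
        ← hχ.mul _ _ (hχ.hA _ (hθA _ (inv_mem hb))), ← map_mul, inv_mul_cancel, map_one, hχ.one]
  obtain ⟨c, hc', hcA, h1, h2⟩ := D.exists_fixed N₀ (fun x hx => ⟨D.hσA x hx.1, by rw [hχσ]; exact hx.2.1,
    by rw [hθσ hkm hy hya, hχσ]; exact hx.2.2⟩) hd
  have hcA' : c ∈ D.A := by have := mul_mem hb hcA; rwa [mul_inv_cancel_left] at this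
  have e1 : χ c = χ b := by
    have := hχ.mul b (b⁻¹ * c) (hχ.hA b hb)
    rwa [mul_inv_cancel_left, h1, mul_one] at this
  have e2 : χ (hP.conjLev hkm hi2 hy c) = χ (hP.conjLev hkm hi2 hy b) := by
    have := hχ.mul (hP.conjLev hkm hi2 hy b) (hP.conjLev hkm hi2 hy (b⁻¹ * c)) (hχ.hA _ (hθA b hb))
    rwa [← map_mul, mul_inv_cancel_left, h2, mul_one] at this
  set x := c⁻¹ * hP.conjLev hkm hi2 hy c with hx
  have hxA : x ∈ D.A := mul_mem (inv_mem hcA') (hθA c hcA')
  have hxkc : (x : G) ∈ kc N P a (m + 1 + 1) := by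
    have hd' := (mem_actKer.1 (h hy)).2 (c : G) ⟨hcA', congrArg Subtype.val hc'⟩
    have hxv : disp y (c : G) = (x : G) := by simp [hx, disp, conjLev_apply, mul_assoc]
    rw [hxv] at hd'
    rw [kc_succ hi]
    exact ⟨⟨x.2, hd'.1.2⟩, hd'.2⟩
  obtain ⟨v, hv, hv'⟩ := hχ.eig
  have hx1 : χ x = 1 := by
    refine smul_left_injective K hv ?_
    show χ x • v = (1 : K) • v
    rw [one_smul, ← hv' x (hχ.hA x hxA), hP.triv hA hi K hi χ hχ hlive x hxkc v hv']
  apply hne
  rw [← e1, ← e2, show hP.conjLev hkm hi2 hy c = c * x by rw [hx, mul_inv_cancel_left],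
    hχ.mul _ _ (hχ.hA c hcA'), hx1, mul_one]

end IsGood

end CfsgLib.Turull
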