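import Cfsg.Agent.Turull.Glue
import Cfsg.Agent.Turull.Junction

/-!
A minimal tower leaves all but two of its levels in the fixed points of an operator of prime order.
-/

set_option autoImplicit false
set_option linter.style.haveILetI false
set_option linter.unusedSectionVars false

namespace CfsgLib.Turull

open Subgroup
open scoped commutatorElement

theorem iter_ne_bot_of_le {H : Type*} [Group H] {i j : ℕ} (hij : i ≤ j)
    (h : CfsgLib.SFTCor.nres^[j] (⊤ : Subgroup H) ≠ ⊥) : CfsgLib.SFTCor.nres^[i] (⊤ : Subgroup H) ≠ ⊥ := by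
  intro h0
  refine h (le_bot_iff.1 ?_)
  rw [show j = (j - i) + i by omega, Function.iterate_add_apply, h0]
  exact CfsgLib.SFTCor.iter_le _ _

theorem mem_normalizer_inf {G : Type*} [Group G] {H K : Subgroup G} {g : G} (hH : g ∈ normalizer (H : Set G))
    (hK : g ∈ normalizer (K : Set G)) : g ∈ normalizer ((H ⊓ K : Subgroup G) : Set G) :=
  mem_normalizer_of_conj_iff fun x => by
    rw [Subgroup.mem_inf, Subgroup.mem_inf, ← mem_iff_conj_of_mem_normalizer hH,
      ← mem_iff_conj_of_mem_normalizer hK]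

variable {G : Type*} [Group G] [Finite G] {A : Type*} [Group A] [Finite A] [Group.IsSolvable A]
  [MulDistribMulAction A G]
variable {N : ℕ} {P : ℕ → Subgroup G} {p : ℕ → ℕ}

/-- **The fixed points of a minimal tower.** -/
theorem IsGood.height_fixed (hP : IsGood A N P p) {a : A} {r : ℕ} (hA : CyclicOp G a r)
    (hcop : (Nat.card A).Coprime (Nat.card G)) (hN : 3 ≤ N) :
    CfsgLib.SFTCor.nres^[N - 3] (⊤ : Subgroup (fixBy a : Subgroup G)) ≠ ⊥ := by
  classical
  have hfix : ∀ i, i < N → Cen A N P i → P i ≤ fixBy a := fun i hi h y hy => hP.fixed_of_cen hcop hi h a hy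
  by_cases hall : ∀ i, i < N - 2 → Cen A N P i
  · have h := (hP.lower_chain (a := a) (show N - 2 ≤ N by omega)
      fun i hi => hfix i (by omega) (hall i hi)).nres_ne_bot (by omega) hP.tower.bot
    rwa [show N - 2 - 1 = N - 3 by omega] at h
  push Not at hall
  obtain ⟨t, ⟨ht, htc⟩, hmin⟩ : ∃ t, (t < N - 2 ∧ ¬ Cen A N P t) ∧
      ∀ i, i < t → ¬ (i < N - 2 ∧ ¬ Cen A N P i) :=
    ⟨Nat.find hall, Nat.find_spec hall, fun i hi => Nat.find_min hall hi⟩
  have hlow : ∀ i, i < t → P i ≤ fixBy a := fun i hi =>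
    hfix i (by omega) (by_contra fun h => hmin i hi ⟨by omega, h⟩)
  rcases Nat.lt_or_ge t 2 with ht2 | ht2
  · -- the fixed points of the levels from the third one
    have hc1 : ¬ Cen A N P 1 := fun h => htc (hP.cen_of_le (show t ≤ 1 by omega) (by omega) h)
    haveI : Fact (p 2).Prime := ⟨hP.tower.prime 2 (by omega)⟩
    obtain ⟨χ, hχ, hl⟩ := hP.exists_live hA (K := AlgebraicClosure (ZMod (p 2))) (i := 0) (show 0 + 1 + 1 < N by omega) hc1
    have hbot := hP.exists_fixed_not_kc hA (show 0 + 1 + 1 < N by omega) hχ hl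
    have h := (hP.upper_chain (a := a) (show 2 + (N - 2) = N by omega)).nres_ne_bot (by omega) hbot
    rwa [show N - 2 - 1 = N - 3 by omega] at h
  obtain ⟨m, rfl⟩ : ∃ m, t = m + 1 + 1 := ⟨t - 2, by omega⟩
  have hbelow : ∀ k, k ≤ m + 1 → P k ≤ fixBy a := fun k hk => hlow k (by omega)
  have hup := hP.upper_chain (a := a) (show m + 1 + 1 + 1 + (N - (m + 1 + 1 + 1)) = N by omega)
  have hnD : ∀ {k}, k ≤ m + 1 → P k ≤ normalizer ((P (m + 1 + 1 + 1) ⊓ fixBy a : Subgroup G) : Set G) :=
    fun hk g hg => fixBy_le_normalizer (hbelow _ hk hg) (hP.tower.le_normalizer (by omega) (by omega) hg)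
  have hnK : ∀ {k}, k ≤ m + 1 → P k ≤ normalizer (kc N P a (m + 1 + 1 + 1) : Set G) :=
    fun hk g hg => hP.normalizer_kc (by omega) (by omega) hg (hbelow _ hk hg)
  have hl1 : 1 ≤ N - (m + 1 + 1 + 1) := by omega
  rcases hP.junction hA (show m + 1 + 1 + 1 < N by omega) hbelow htc with ⟨hnot, hne⟩ | ⟨hnot, hne⟩ | ⟨hnot, hne⟩
  · have hch := hup.glue hl1 (b := m + 2) (R := P) (pr := p) (fun i hi => hP.tower.prime i (by omega))
      (fun i hi => hP.tower.pgroup i (by omega)) (fun i hi => hbelow i (by omega))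
      (fun i hi => hP.tower.adj i (by omega)) hne (fun i j hij hj => hP.tower.le_normalizer hij (by omega))
      (fun i hi => hnD (by omega)) (fun i hi => hnK (by omega))
    have h := hch.nres_ne_bot (by omega)
      (glue_bot (by omega) (fun i hi => hP.comm (by omega)) hnot)
    exact iter_ne_bot_of_le (by omega) h
  · have hch := hup.glue hl1 (b := m + 1) (R := P) (pr := p) (fun i hi => hP.tower.prime i (by omega))
      (fun i hi => hP.tower.pgroup i (by omega)) (fun i hi => hbelow i (by omega))
      (fun i hi => hP.tower.adj i (by omega)) hne (fun i j hij hj => hP.tower.le_normalizer hij (by omega))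
      (fun i hi => hnD (by omega)) (fun i hi => hnK (by omega))
    have h := hch.nres_ne_bot (by omega)
      (glue_bot (by omega) (fun i hi => hP.comm (by omega)) hnot)
    exact iter_ne_bot_of_le (by omega) h
  set Z : Subgroup G := low N P (m + 1 + 1) ⊓ fixBy a with hZ
  have hi2 : m + 1 + 1 < N := by omega
  have hmid := hup.glue hl1 (b := 1) (R := fun _ => Z) (pr := fun _ => p (m + 1 + 1))
    (fun _ _ => hP.tower.prime _ hi2)
    (fun _ _ => (hP.tower.pgroup _ hi2).to_le (inf_le_left.trans (low_le hi2)))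
    (fun _ _ => inf_le_right) (fun i hi => absurd hi (by omega)) (hP.tower.adj _ (by omega))
    (fun _ _ _ _ => Subgroup.le_normalizer)
    (fun _ _ g hg => fixBy_le_normalizer hg.2
      (hP.tower.le_normalizer (Nat.le_succ (m + 1 + 1)) (by omega) (low_le hi2 hg.1)))
    (fun _ _ g hg => hP.normalizer_kc (Nat.le_succ (m + 1 + 1)) (by omega) (low_le hi2 hg.1) hg.2)
  have hnZ : ∀ {k}, k ≤ m → P k ≤ normalizer (Z : Set G) := fun hk g hg =>
    fixBy_le_normalizer (hbelow _ (by omega) hg) (hP.le_normalizer_low' (by omega) hi2 hg)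
  have hch := hmid.glue (show 1 ≤ 1 + (N - (m + 1 + 1 + 1)) by omega) (b := m + 1) (R := P) (pr := p)
    (fun i hi => hP.tower.prime i (by omega))
    (fun i hi => hP.tower.pgroup i (by omega)) (fun i hi => hbelow i (by omega))
    (fun i hi => hP.tower.adj i (by omega))
    (by simpa [glueP] using hne) (fun i j hij hj => hP.tower.le_normalizer hij (by omega))
    (fun i hi => by rw [glueQ_zero le_rfl]; exact hnZ (by omega))
    (fun i hi g hg => by
      rw [glueK_one_zero]
      exact mem_normalizer_inf (hnZ (show i ≤ m by omega) hg)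
        (normalizer_actKer (hnD (show i ≤ m + 1 by omega) hg) (hnK (show i ≤ m + 1 by omega) hg)))
  have h := hch.nres_ne_bot (by omega)
    (glue_bot (by omega) (fun i hi => hP.comm (by omega)) (by
      rw [glueQ_zero le_rfl, glueK_one_zero]
      exact hnot))
  exact iter_ne_bot_of_le (by omega) h

end CfsgLib.Turull
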