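import Mathlib.Algebra.Order.Chebyshev
import Mathlib.Algebra.BigOperators.Fin
import Mathlib.Tactic.Linarith
import Mathlib.Tactic.Ring

/-!
The inequalities that pin down an operator fixing an eigenspace almost pointwise.
-/

set_option autoImplicit false
set_option linter.unusedSectionVars false

namespace CfsgLib.Turull

open Finset

/-- The bookkeeping common to both cases: the excess over a block of dimension `d₀`. -/
theorem excess_bound {r : ℕ} (d s : Fin r → ℤ) (a : Fin r) (hs : ∀ b, b ≠ a → 0 ≤ s b) (hr : 2 ≤ r) (B : ℤ)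
    (hB : (r : ℤ) * ∑ b, d b ^ 2 - (∑ b, d b) ^ 2 + r * ∑ b, s b ≤ B)
    (hnz : ∀ b, b ≠ a → s b = 0 → d b ≠ d a) (hBs : B - r * s a ≤ (r : ℤ) - 1) :
    (∀ b, b ≠ a → s b = 0 ∧ (d b - d a) ^ 2 = 1) ∧
      ((r : ℤ) - 1) ^ 2 ≤ (∑ b ∈ univ.erase a, (d b - d a)) ^ 2 := by
  set y : Fin r → ℤ := fun b => d b - d a with hy
  have hcard : (((univ.erase a).card : ℕ) : ℤ) = (r : ℤ) - 1 := by
    rw [card_erase_of_mem (mem_univ a), card_univ, Fintype.card_fin]
    omega
  have hid : (r : ℤ) * ∑ b, d b ^ 2 - (∑ b, d b) ^ 2 = (r : ℤ) * ∑ b, y b ^ 2 - (∑ b, y b) ^ 2 := by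
    have e1 : ∑ b, y b = ∑ b, d b - r * d a := by
      simp [hy, sum_sub_distrib]
    have e2 : ∑ b, y b ^ 2 = ∑ b, d b ^ 2 - 2 * d a * ∑ b, d b + r * d a ^ 2 := by
      rw [hy, Finset.mul_sum, ← sum_sub_distrib,
        show (r : ℤ) * d a ^ 2 = ∑ _b : Fin r, d a ^ 2 by simp, ← sum_add_distrib]
      exact sum_congr rfl fun b _ => by ring
    rw [e1, e2]; ring
  have hya : y a = 0 := sub_self _
  rw [hid, ← add_sum_erase _ _ (mem_univ a), ← add_sum_erase _ (fun b => y b) (mem_univ a),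
    ← add_sum_erase _ s (mem_univ a), hya] at hB
  simp only [ne_eq, OfNat.ofNat_ne_zero, not_false_eq_true, zero_pow, zero_add] at hB
  set P := ∑ b ∈ univ.erase a, y b ^ 2 with hP
  set Q := ∑ b ∈ univ.erase a, y b with hQ
  set R := ∑ b ∈ univ.erase a, s b with hR
  have hcs : Q ^ 2 ≤ ((r : ℤ) - 1) * P := by
    have := sq_sum_le_card_mul_sum_sq (s := univ.erase a) (f := y)
    rwa [hcard] at this
  have hmain : (r : ℤ) * P - Q ^ 2 + r * R ≤ (r : ℤ) - 1 := by linarith [hB, hBs]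
  have hP0 : 0 ≤ P := sum_nonneg fun b _ => sq_nonneg _
  have hR0 : 0 ≤ R := sum_nonneg fun b hb => hs b (ne_of_mem_erase hb)
  have hR : R = 0 := by
    by_contra hne
    have h1 : 1 ≤ R := by omega
    have h2 : (r : ℤ) * 1 ≤ r * R := mul_le_mul_of_nonneg_left h1 (by positivity)
    linarith
  have hs0 : ∀ b, b ≠ a → s b = 0 := fun b hb =>
    (sum_eq_zero_iff_of_nonneg fun c hc => hs c (ne_of_mem_erase hc)).1 hR b (mem_erase.2 ⟨hb, mem_univ b⟩)
  have hy1 : ∀ b ∈ univ.erase a, 1 ≤ y b ^ 2 := by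
    intro b hb
    have hne : y b ≠ 0 := sub_ne_zero.2 (hnz b (ne_of_mem_erase hb) (hs0 b (ne_of_mem_erase hb)))
    have h := sq_pos_of_ne_zero hne
    omega
  have hP1 : (r : ℤ) - 1 ≤ P := by
    have := card_nsmul_le_sum (univ.erase a) (fun b => y b ^ 2) 1 hy1
    rw [nsmul_one, hcard] at this
    exact this
  rw [hR, mul_zero, add_zero] at hmain
  have hPe : P = (r : ℤ) - 1 := by nlinarith
  refine ⟨fun b hb => ⟨hs0 b hb, ?_⟩, by rw [hPe] at hmain; nlinarith⟩
  refine le_antisymm ?_ (hy1 b (mem_erase.2 ⟨hb, mem_univ b⟩))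
  by_contra hgt
  have hlt : ∑ _c ∈ univ.erase a, (1 : ℤ) < P :=
    sum_lt_sum hy1 ⟨b, mem_erase.2 ⟨hb, mem_univ b⟩, not_le.1 hgt⟩
  rw [sum_const, nsmul_one, hcard, hPe] at hlt
  exact lt_irrefl _ hlt

variable {r o n : ℕ} {d f : Fin r → ℕ} {a : Fin r}

theorem slack_eq (hn : ∑ b, d b = n) (hub : r * o * ∑ b, f b ≤ n * n + (r * o - 1)) (hr : 2 ≤ r) (ho : 2 ≤ o) :
    (r : ℤ) * ∑ b, (d b : ℤ) ^ 2 - (∑ b, (d b : ℤ)) ^ 2 +
      r * ∑ b, ((o : ℤ) * f b - (d b : ℤ) ^ 2) ≤ r * o - 1 := by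
  have h1 : (1 : ℕ) ≤ r * o := Nat.one_le_iff_ne_zero.2 (by positivity)
  have h2 : ((r * o * ∑ b, f b : ℕ) : ℤ) ≤ ((n * n + (r * o - 1) : ℕ) : ℤ) := by exact_mod_cast hub
  push_cast [Nat.cast_sub h1] at h2
  have hn' : (∑ b, (d b : ℤ)) = n := by exact_mod_cast hn
  rw [hn', sum_sub_distrib, ← mul_sum]
  nlinarith [h2]

/-- A block on which the operator is scalar. -/
theorem scalar_block (hn : ∑ b, d b = n) (hub : r * o * ∑ b, f b ≤ n * n + (r * o - 1)) (hr : 2 ≤ r) (ho : 2 ≤ o)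
    (hn2 : 2 ≤ n) (hgen : ∀ b, d b * d b ≤ o * f b) (hpos : ∀ b, 0 < d b → 0 < f b)
    (htwo : ∀ b, 2 ≤ d b → 2 ≤ f b) (ha : d a * d a ≤ f a) (hda : 1 ≤ d a) :
    o = 2 ∧ d a = 1 ∧ (∀ b, b ≠ a → d b = 2) ∧ n + 1 = 2 * r := by
  have hmain := slack_eq hn hub hr ho
  set s : Fin r → ℤ := fun b => (o : ℤ) * f b - (d b : ℤ) ^ 2 with hs
  have hs0 : ∀ b, 0 ≤ s b := fun b => by
    have : ((d b * d b : ℕ) : ℤ) ≤ ((o * f b : ℕ) : ℤ) := by exact_mod_cast hgen b
    push_cast at this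
    simp only [hs]; nlinarith
  have hsa : ((o : ℤ) - 1) * (d a : ℤ) ^ 2 ≤ s a := by
    have : ((d a * d a : ℕ) : ℤ) ≤ (f a : ℤ) := by exact_mod_cast ha
    push_cast at this
    simp only [hs]; nlinarith
  have hcs : (∑ b, (d b : ℤ)) ^ 2 ≤ (r : ℤ) * ∑ b, (d b : ℤ) ^ 2 := by
    have := sq_sum_le_card_mul_sum_sq (s := (univ : Finset (Fin r))) (f := fun b => (d b : ℤ))
    simpa using this
  have hsum : s a ≤ ∑ b, s b := single_le_sum (fun b _ => hs0 b) (mem_univ a)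
  have hda1 : d a = 1 := by
    by_contra hne
    have h4 : (4 : ℤ) ≤ (d a : ℤ) ^ 2 := by
      have : (2 : ℤ) ≤ d a := by exact_mod_cast (show 2 ≤ d a by omega)
      nlinarith
    have h5 : (r : ℤ) * (((o : ℤ) - 1) * 4) ≤ (r : ℤ) * s a := by
      refine mul_le_mul_of_nonneg_left (le_trans ?_ hsa) (by positivity)
      exact mul_le_mul_of_nonneg_left h4 (by omega)
    have h6 : (r : ℤ) * s a ≤ r * ∑ b, s b := mul_le_mul_of_nonneg_left hsum (by positivity)
    have : (2 : ℤ) ≤ r := by exact_mod_cast hr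
    have : (2 : ℤ) ≤ o := by exact_mod_cast ho
    nlinarith
  obtain ⟨hall, hQ⟩ := excess_bound (fun b => (d b : ℤ)) s a (fun b _ => hs0 b) hr _ hmain
    (fun b hb hsb hdb => by
      have hb1 : d b = 1 := by
        have : (d b : ℤ) = (d a : ℤ) := hdb
        omega
      have := hpos b (by omega)
      simp only [hs, hb1, Nat.cast_one, one_pow] at hsb
      have h7 : (2 : ℤ) ≤ (o : ℤ) * f b :=
        le_trans (by exact_mod_cast ho : (2 : ℤ) ≤ (o : ℤ))
          (le_mul_of_one_le_right (by positivity) (by exact_mod_cast this))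
      linarith)
    (by
      have h5 : (r : ℤ) * (((o : ℤ) - 1) * 1) ≤ (r : ℤ) * s a := by
        refine mul_le_mul_of_nonneg_left (le_trans (le_of_eq ?_) hsa) (by positivity)
        rw [hda1]; simp
      nlinarith)
  have hd02 : ∀ b, b ≠ a → d b = 0 ∨ d b = 2 := fun b hb => by
    have h := (hall b hb).2
    rw [hda1, Nat.cast_one, sq_eq_one_iff] at h
    omega
  have hsum1 : ∑ b ∈ univ.erase a, d b + 1 = n := by
    rw [← hn, ← sum_erase_add _ _ (mem_univ a), hda1]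
  obtain ⟨b, hb, hb2⟩ : ∃ b, b ≠ a ∧ d b = 2 := by
    by_contra hcon
    push Not at hcon
    rw [sum_eq_zero fun b hb => (hd02 b (ne_of_mem_erase hb)).resolve_right (hcon b (ne_of_mem_erase hb))]
      at hsum1
    omega
  have ho2 : o = 2 := by
    have h := (hall b hb).1
    have h2 := htwo b (by omega)
    simp only [hs, hb2, Nat.cast_ofNat] at h
    have h3 : (o : ℤ) * 2 ≤ (o : ℤ) * f b := mul_le_mul_of_nonneg_left (by exact_mod_cast h2) (by positivity)
    omega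
  have hall2 : ∀ b, b ≠ a → d b = 2 := by
    by_contra hcon
    push Not at hcon
    obtain ⟨c, hc, hc2⟩ := hcon
    have hy : ∀ e ∈ univ.erase a, -1 ≤ (d e : ℤ) - 1 ∧ (d e : ℤ) - 1 ≤ 1 := fun e he => by
      rcases hd02 e (ne_of_mem_erase he) with h | h <;> simp [h]
    have hup : ∑ e ∈ univ.erase a, ((d e : ℤ) - 1) < ∑ _e ∈ univ.erase a, (1 : ℤ) :=
      sum_lt_sum (fun e he => (hy e he).2)
        ⟨c, mem_erase.2 ⟨hc, mem_univ c⟩, by rw [(hd02 c hc).resolve_right hc2]; norm_num⟩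
    have hdn : ∑ _e ∈ univ.erase a, (-1 : ℤ) < ∑ e ∈ univ.erase a, ((d e : ℤ) - 1) :=
      sum_lt_sum (fun e he => (hy e he).1) ⟨b, mem_erase.2 ⟨hb, mem_univ b⟩, by rw [hb2]; norm_num⟩
    have hc' : (((univ.erase a).card : ℕ) : ℤ) = (r : ℤ) - 1 := by
      rw [card_erase_of_mem (mem_univ a), card_univ, Fintype.card_fin]; omega
    simp only [sum_const, nsmul_eq_mul, hc', mul_one] at hup hdn
    simp only [hda1, Nat.cast_one] at hQ
    have hp : 0 < ((r : ℤ) - 1 - ∑ e ∈ univ.erase a, ((d e : ℤ) - 1)) *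
        ((r : ℤ) - 1 + ∑ e ∈ univ.erase a, ((d e : ℤ) - 1)) := mul_pos (by linarith) (by linarith)
    nlinarith
  refine ⟨ho2, hda1, hall2, ?_⟩
  rw [sum_congr rfl fun e he => hall2 e (ne_of_mem_erase he), sum_const, card_erase_of_mem (mem_univ a),
    card_univ, Fintype.card_fin, smul_eq_mul] at hsum1
  omega

/-- A block on which the operator is a scalar plus a map of rank one. -/
theorem rank_block (hn : ∑ b, d b = n) (hub : r * o * ∑ b, f b ≤ n * n + (r * o - 1)) (hr : 2 ≤ r) (ho : 2 ≤ o)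
    (hgen : ∀ b, d b * d b ≤ o * f b) (hpos : ∀ b, 0 < d b → 0 < f b)
    (htwo : ∀ b, 2 ≤ d b → 2 ≤ f b) (ha : d a * d a + 2 ≤ f a + 2 * d a) (hda : 2 ≤ d a) :
    (o = 2 ∧ d a ≤ 3) ∨ (o = 3 ∧ d a = 2 ∧ n + 1 = 3 * r) := by
  have hmain := slack_eq hn hub hr ho
  set s : Fin r → ℤ := fun b => (o : ℤ) * f b - (d b : ℤ) ^ 2 with hs
  have hs0 : ∀ b, 0 ≤ s b := fun b => by
    have : ((d b * d b : ℕ) : ℤ) ≤ ((o * f b : ℕ) : ℤ) := by exact_mod_cast hgen b
    push_cast at this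
    simp only [hs]; nlinarith
  have hsa : (o : ℤ) * (((d a : ℤ) - 1) ^ 2 + 1) - (d a : ℤ) ^ 2 ≤ s a := by
    have : ((d a : ℤ) - 1) ^ 2 + 1 ≤ (f a : ℤ) := by
      have h : ((d a * d a + 2 : ℕ) : ℤ) ≤ ((f a + 2 * d a : ℕ) : ℤ) := by exact_mod_cast ha
      push_cast at h
      linarith [show ((d a : ℤ) - 1) ^ 2 = (d a : ℤ) * d a - 2 * d a + 1 by ring]
    simp only [hs]; nlinarith
  have hcs : (∑ b, (d b : ℤ)) ^ 2 ≤ (r : ℤ) * ∑ b, (d b : ℤ) ^ 2 := by
    have := sq_sum_le_card_mul_sum_sq (s := (univ : Finset (Fin r))) (f := fun b => (d b : ℤ))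
    simpa using this
  have hsum : s a ≤ ∑ b, s b := single_le_sum (fun b _ => hs0 b) (mem_univ a)
  have hkey : (o : ℤ) * ((d a : ℤ) - 1) ^ 2 < (d a : ℤ) ^ 2 := by
    by_contra hge
    push Not at hge
    have h1 : (r : ℤ) * o ≤ r * s a := mul_le_mul_of_nonneg_left (by linarith) (by positivity)
    have h2 : (r : ℤ) * s a ≤ r * ∑ b, s b := mul_le_mul_of_nonneg_left hsum (by positivity)
    linarith
  obtain ⟨D, hD⟩ : ∃ D, d a = D + 2 := ⟨d a - 2, by omega⟩
  rw [hD] at hkey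
  push_cast at hkey
  rcases Nat.lt_or_ge o 3 with ho3 | ho3
  · refine Or.inl ⟨by omega, ?_⟩
    have : o = 2 := by omega
    subst this
    push_cast at hkey
    by_contra h4
    have : (2 : ℤ) ≤ D := by exact_mod_cast (show 2 ≤ D by omega)
    nlinarith
  · have hd2 : d a = 2 := by
      by_contra h3
      have h1 : (1 : ℤ) ≤ D := by exact_mod_cast (show 1 ≤ D by omega)
      have h2 : (3 : ℤ) * ((D : ℤ) + 2 - 1) ^ 2 ≤ (o : ℤ) * ((D : ℤ) + 2 - 1) ^ 2 :=
        mul_le_mul_of_nonneg_right (by exact_mod_cast ho3) (sq_nonneg _)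
      nlinarith
    have ho3' : o = 3 := by
      have : D = 0 := by omega
      subst this
      norm_num at hkey
      omega
    subst ho3'
    refine Or.inr ⟨rfl, hd2, ?_⟩
    obtain ⟨hall, -⟩ := excess_bound (fun b => (d b : ℤ)) s a (fun b _ => hs0 b) hr _ hmain
      (fun b hb hsb hdb => by
        have hb2 : d b = 2 := by
          have : (d b : ℤ) = (d a : ℤ) := hdb
          omega
        have := htwo b (by omega)
        simp only [hs, hb2, Nat.cast_ofNat] at hsb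
        omega)
      (by
        simp only [hd2, Nat.cast_ofNat] at hsa
        norm_num at hsa
        have h5 : (r : ℤ) * 2 ≤ r * s a := mul_le_mul_of_nonneg_left hsa (by positivity)
        push_cast
        linarith)
    have hb3 : ∀ b, b ≠ a → d b = 3 := by
      intro b hb
      obtain ⟨h1, h2⟩ := hall b hb
      rw [hd2, sq_eq_one_iff] at h2
      push_cast at h2
      have : d b = 3 ∨ d b = 1 := by omega
      refine this.resolve_right fun hb1 => ?_
      have := hpos b (by omega)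
      simp only [hs, hb1, Nat.cast_ofNat, Nat.cast_one] at h1
      omega
    rw [← hn, ← sum_erase_add _ _ (mem_univ a), hd2, sum_congr rfl fun e he => hb3 e (ne_of_mem_erase he),
      sum_const, card_erase_of_mem (mem_univ a), card_univ, Fintype.card_fin, smul_eq_mul]
    omega

end CfsgLib.Turull
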