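import Cfsg.Agent.SFTCor.NilResidual
import Cfsg.Agent.Solvable.CoprimeAct
import Mathlib.GroupTheory.PGroup

/-!
Chains of subgroups of prime power order, each acting non-trivially on the next one, bound the nilpotent length
from below.
-/

set_option autoImplicit false
set_option linter.style.haveILetI false
set_option linter.unusedSectionVars false

namespace CfsgLib.Turull

open Subgroup
open scoped commutatorElement

variable {G : Type*} [Group G]

/-- The displacement of `y` by `x`. -/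
def disp (x y : G) : G := y⁻¹ * (x * y * x⁻¹)

theorem disp_eq_commutator (x y : G) : disp x y = ⁅y⁻¹, x⁆ := by
  simp [disp, commutatorElement_def, mul_assoc]

theorem disp_mul_left (x₁ x₂ y : G) : disp (x₁ * x₂) y = disp x₁ y * (x₁ * disp x₂ y * x₁⁻¹) := by
  simp [disp, mul_assoc]

theorem disp_mul_right (x y₁ y₂ : G) : disp x (y₁ * y₂) = y₂⁻¹ * disp x y₁ * y₂ * disp x y₂ := by
  simp [disp, mul_assoc]

@[simp] theorem disp_one_left (y : G) : disp 1 y = 1 := by simp [disp]

@[simp] theorem disp_one_right (x : G) : disp x 1 = 1 := by simp [disp]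

theorem conj_disp (g x y : G) : g * disp x y * g⁻¹ = disp (g * x * g⁻¹) (g * y * g⁻¹) := by
  simp [disp, mul_assoc]

theorem map_disp {H : Type*} [Group H] (f : G →* H) (x y : G) : f (disp x y) = disp (f x) (f y) := by
  simp [disp]

/-- The elements normalizing `K` that move no element of `Q` out of its coset of `K`. -/
def actKer (Q K : Subgroup G) : Subgroup G where
  carrier := {x | x ∈ normalizer (K : Set G) ∧ ∀ y ∈ Q, disp x y ∈ K}
  one_mem' := ⟨one_mem _, fun y _ => by simp⟩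
  mul_mem' := by
    rintro a b ⟨ha, ha'⟩ ⟨hb, hb'⟩
    refine ⟨mul_mem ha hb, fun y hy => ?_⟩
    rw [disp_mul_left]
    exact mul_mem (ha' y hy) ((mem_normalizer_iff.1 ha _).1 (hb' y hy))
  inv_mem' := by
    rintro a ⟨ha, ha'⟩
    refine ⟨inv_mem ha, fun y hy => ?_⟩
    have h := disp_mul_left a a⁻¹ y
    rw [mul_inv_cancel, disp_one_left] at h
    have h1 : a * disp a⁻¹ y * a⁻¹ = (disp a y)⁻¹ := eq_inv_of_mul_eq_one_right h.symm
    exact (mem_normalizer_iff.1 ha _).2 (h1 ▸ inv_mem (ha' y hy))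

theorem mem_actKer {Q K : Subgroup G} {x : G} :
    x ∈ actKer Q K ↔ x ∈ normalizer (K : Set G) ∧ ∀ y ∈ Q, disp x y ∈ K := Iff.rfl

/-- The elements normalizing `K` whose coset of `K` is moved by no element of `P`. -/
def fixer (P K : Subgroup G) : Subgroup G where
  carrier := {y | y ∈ normalizer (K : Set G) ∧ ∀ x ∈ P, disp x y ∈ K}
  one_mem' := ⟨one_mem _, fun y _ => by simp⟩
  mul_mem' := by
    rintro a b ⟨ha, ha'⟩ ⟨hb, hb'⟩
    refine ⟨mul_mem ha hb, fun x hx => ?_⟩
    rw [disp_mul_right]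
    exact mul_mem ((mem_normalizer_iff''.1 hb _).1 (ha' x hx)) (hb' x hx)
  inv_mem' := by
    rintro a ⟨ha, ha'⟩
    refine ⟨inv_mem ha, fun x hx => ?_⟩
    have h : a * (disp x a)⁻¹ * a⁻¹ = disp x a⁻¹ := by simp [disp, mul_assoc]
    exact h ▸ (mem_normalizer_iff.1 ha _).1 (inv_mem (ha' x hx))

theorem mem_fixer {P K : Subgroup G} {y : G} :
    y ∈ fixer P K ↔ y ∈ normalizer (K : Set G) ∧ ∀ x ∈ P, disp x y ∈ K := Iff.rfl

theorem commutator_le_of_le_actKer {Q E K : Subgroup G} (h : E ≤ actKer Q K) : ⁅Q, E⁆ ≤ K := by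
  rw [commutator_le]
  intro y hy x hx
  have := (mem_actKer.1 (h hx)).2 y⁻¹ (inv_mem hy)
  rwa [disp_eq_commutator, inv_inv] at this

theorem disp_mem_commutator {Q E : Subgroup G} {x y : G} (hx : x ∈ E) (hy : y ∈ Q) :
    disp x y ∈ ⁅Q, E⁆ := by
  rw [disp_eq_commutator]
  exact commutator_mem_commutator (inv_mem hy) hx

theorem coprime_card_of_isPGroup [Finite G] {p q : ℕ} (hp : p.Prime) (hq : q.Prime) (hne : p ≠ q)
    {P Q : Subgroup G} (hP : IsPGroup p P) (hQ : IsPGroup q Q) :
    (Nat.card P).Coprime (Nat.card Q) := by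
  haveI := Fact.mk hp
  haveI := Fact.mk hq
  obtain ⟨a, ha⟩ := IsPGroup.iff_card.1 hP
  obtain ⟨b, hb⟩ := IsPGroup.iff_card.1 hQ
  rw [ha, hb]
  exact ((Nat.coprime_primes hp hq).2 hne).pow a b

/-- **Chain lemma.** -/
theorem nres_ne_bot_of_chain [Finite G] {l : ℕ} (hl : 1 ≤ l) (Q K : ℕ → Subgroup G) (p : ℕ → ℕ)
    (hp : ∀ i, i < l → (p i).Prime) (hQ : ∀ i, i < l → IsPGroup (p i) (Q i))
    (hne : ∀ i, i + 1 < l → p i ≠ p (i + 1))
    (hnorm : ∀ i, i + 1 < l → Q i ≤ normalizer (Q (i + 1) : Set G))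
    (hker : ∀ i, i + 1 < l → ∀ x ∈ Q i, (∀ y ∈ Q (i + 1), disp x y ∈ K (i + 1)) → x ∈ K i)
    (hbot : ¬ Q 0 ≤ K 0) :
    CfsgLib.SFTCor.nres^[l - 1] (⊤ : Subgroup G) ≠ ⊥ := by
  have key : ∀ i, i < l → ∃ E : Subgroup G, E ≤ Q i ∧
      E ≤ CfsgLib.SFTCor.nres^[i] (⊤ : Subgroup G) ∧ ¬ E ≤ K i := by
    intro i
    induction i with
    | zero => exact fun _ => ⟨Q 0, le_rfl, le_top, hbot⟩
    | succ i ih =>
      intro hi
      obtain ⟨E, hEQ, hEN, hEK⟩ := ih (by omega)
      set M := CfsgLib.SFTCor.nres^[i] (⊤ : Subgroup G) with hM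
      haveI : M.Normal := CfsgLib.SFTCor.iter_normal _ _
      have hEn : E ≤ normalizer (Q (i + 1) : Set G) := hEQ.trans (hnorm i hi)
      refine ⟨⁅Q (i + 1), E⁆, ?_, ?_, ?_⟩
      · rw [commutator_comm]
        exact commutator_le.2 fun x hx y hy => by
          rw [commutatorElement_def]
          exact mul_mem ((mem_normalizer_iff.1 (hEn hx) _).1 hy) (inv_mem hy)
      · have hEp : IsPGroup (p i) E := (hQ i (by omega)).to_le hEQ
        haveI := Fact.mk (hp i (by omega))
        haveI : Group.IsNilpotent E := hEp.isNilpotent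
        have hcc : ⁅⁅Q (i + 1), E⁆, E⁆ = ⁅Q (i + 1), E⁆ :=
          CfsgLib.CoprimeAct.commutator_commutator hEn
            (coprime_card_of_isPGroup (hp i (by omega)) (hp (i + 1) hi) (hne i hi) hEp (hQ (i + 1) hi))
            (Or.inl inferInstance)
        rw [Function.iterate_succ_apply', ← hM]
        refine le_iInf fun k => ?_
        induction k with
        | zero =>
          rw [Subgroup.lowerCentralSeries_zero]
          exact (commutator_mono le_top hEN).trans (commutator_le_right _ _)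
        | succ k ihk =>
          rw [Subgroup.lowerCentralSeries_succ, ← hcc]
          exact commutator_mono ihk hEN
      · intro h
        refine hEK fun x hx => hker i hi x (hEQ hx) fun y hy => h (disp_mem_commutator hx hy)
  obtain ⟨E, _, hEN, hEK⟩ := key (l - 1) (by omega)
  intro h
  rw [h] at hEN
  exact hEK ((le_bot_iff.1 hEN) ▸ bot_le)

end CfsgLib.Turull
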