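import Mathlib.Algebra.BigOperators.GroupWithZero.Action
import Mathlib.Algebra.Group.Subgroup.Finite
import Mathlib.Algebra.Field.Basic
import Mathlib.Algebra.Module.BigOperators
import Mathlib.GroupTheory.PGroup

/-!
A combination of distinct characters, grouped in orbits of prime length, that vanishes outside a subgroup on which
every orbit is constant vanishes identically.
-/

set_option autoImplicit false
set_option linter.style.haveILetI false
set_option linter.unusedSectionVars false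

namespace CfsgLib.Turull

variable {k : Type*} [Field k] {A : Type*} [Group A]

theorem sum_char_inv_mul [Fintype A] {φ ψ : A →* kˣ} (h : φ ≠ ψ) :
    ∑ w : A, ((φ w)⁻¹ : kˣ) * ((ψ w : kˣ) : k) = 0 := by
  classical
  obtain ⟨a, ha⟩ : ∃ a, φ a ≠ ψ a := by
    by_contra h'
    push Not at h'
    exact h (MonoidHom.ext h')
  set s := ∑ w : A, (((φ w)⁻¹ : kˣ) : k) * ((ψ w : kˣ) : k) with hs
  have h1 : (((φ a)⁻¹ : kˣ) : k) * ((ψ a : kˣ) : k) * s = s := by
    rw [hs, Finset.mul_sum]
    refine Fintype.sum_equiv (Equiv.mulLeft a) _ _ fun w => ?_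
    simp only [Equiv.coe_mulLeft, map_mul, mul_inv, Units.val_mul]
    ring
  have h2 : (((φ a)⁻¹ : kˣ) : k) * ((ψ a : kˣ) : k) ≠ 1 := by
    rw [← Units.val_mul, Ne, Units.val_eq_one, inv_mul_eq_one]
    exact ha
  by_contra hne
  exact h2 (mul_right_cancel₀ hne (h1.trans (one_mul s).symm))

theorem mul_card_ne {p r m : ℕ} (hp : p.Prime) (hr : r.Prime) (hpr : p ≠ r) (hm : m = 1 ∨ m = 2) (e : ℕ) :
    m * r ≠ p ^ e := by
  intro h
  have hd : r ∣ p ^ e := h ▸ dvd_mul_left r m
  exact hpr ((Nat.prime_dvd_prime_iff_eq hr hp).1 (hr.dvd_of_dvd_pow hd)).symm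

/-- The separation lemma. -/
theorem coeff_eq_zero_of_supported [Finite A] {p r : ℕ} (hp : p.Prime) (hr : r.Prime) (hpr : p ≠ r)
    (hA : IsPGroup p A) (hkp : (p : k) ≠ 0) {V : Type*} [AddCommGroup V] [Module k V]
    {ι₀ : Type*} [Fintype ι₀] (χ : ι₀ × Fin r → (A →* kˣ)) (hinj : Function.Injective χ)
    (A₀ : Subgroup A) (hA₀ : ∀ o j j', ∀ w ∈ A₀, χ (o, j) w = χ (o, j') w) (g : ι₀ × Fin r → V)
    (h0 : ∀ w, w ∉ A₀ → ∑ i, ((χ i w : kˣ) : k) • g i = 0) (hι : Fintype.card ι₀ ≤ 2) : g = 0 := by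
  classical
  letI := Fintype.ofFinite A
  funext i
  obtain ⟨o, j⟩ := i
  let M : Subgroup (A →* kˣ) :=
    { carrier := {δ | ∀ w ∈ A₀, δ w = 1}
      mul_mem' := fun {a b} ha hb w hw => by rw [MonoidHom.mul_apply, ha w hw, hb w hw, one_mul]
      one_mem' := fun w _ => rfl
      inv_mem' := fun {a} ha w hw => by rw [MonoidHom.inv_apply, ha w hw, inv_one] }
  -- some character with the same restriction is missing from the family
  obtain ⟨δ, hδ, hψ⟩ : ∃ δ ∈ M, ∀ i, χ i ≠ δ * χ (o, j) := by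
    by_contra hcon
    push Not at hcon
    set C := {o' : ι₀ | ∀ w ∈ A₀, χ (o', j) w = χ (o, j) w} with hC
    choose f hf using hcon
    let F : M → C × Fin r := fun δ => (⟨(f δ.1 δ.2).1, fun w hw => by
      rw [hA₀ _ j (f δ.1 δ.2).2 w hw, Prod.mk.eta, hf δ.1 δ.2, MonoidHom.mul_apply, δ.2 w hw, one_mul]⟩,
      (f δ.1 δ.2).2)
    have hF : Function.Bijective F := by
      refine ⟨fun a b hab => ?_, fun x => ?_⟩
      · have : f a.1 a.2 = f b.1 b.2 := by
          have h1 := congrArg (fun x : C × Fin r => ((x.1 : ι₀), x.2)) hab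
          simpa [F] using h1
        have h2 := (hf a.1 a.2).symm.trans ((congrArg χ this).trans (hf b.1 b.2))
        exact Subtype.ext (mul_right_cancel h2)
      · obtain ⟨⟨o', ho'⟩, j'⟩ := x
        have hd : χ (o', j') * (χ (o, j))⁻¹ ∈ M := fun w hw => by
          rw [MonoidHom.mul_apply, MonoidHom.inv_apply, hA₀ o' j' j w hw, ho' w hw, mul_inv_cancel]
        refine ⟨⟨_, hd⟩, ?_⟩
        have := hinj (((hf _ hd).trans (MonoidHom.ext fun w => by simp)) : χ (f _ hd) = χ (o', j'))
        exact Prod.ext (Subtype.ext (congrArg Prod.fst this)) (congrArg Prod.snd this :)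
    haveI : Finite M := Finite.of_injective F hF.1
    haveI := Fact.mk hp
    have hM : IsPGroup p M := fun δ => by
      obtain ⟨n, hn⟩ := IsPGroup.iff_card.1 hA
      refine ⟨n, Subtype.ext (MonoidHom.ext fun w => ?_)⟩
      show ((δ : A →* kˣ) ^ p ^ n) w = 1
      rw [MonoidHom.pow_apply, ← map_pow, ← hn, pow_card_eq_one', map_one]
    obtain ⟨e, he⟩ := IsPGroup.iff_card.1 hM
    rw [Nat.card_eq_of_bijective F hF, Nat.card_prod, Nat.card_eq_fintype_card (α := Fin r),
      Fintype.card_fin] at he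
    refine mul_card_ne hp hr hpr ?_ e he
    have h1 : Nat.card C ≤ 2 := by
      refine le_trans ?_ hι
      rw [← Nat.card_eq_fintype_card]
      exact Nat.card_le_card_of_injective _ Subtype.val_injective
    have h2 : 0 < Nat.card C := by
      haveI : Nonempty C := ⟨⟨o, fun w _ => rfl⟩⟩
      exact Nat.card_pos
    omega
  have hA' : (Fintype.card A : k) ≠ 0 := by
    haveI := Fact.mk hp
    obtain ⟨n, hn⟩ := IsPGroup.iff_card.1 hA
    rw [← Nat.card_eq_fintype_card, hn, Nat.cast_pow]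
    exact pow_ne_zero _ hkp
  have key : ∀ φ : A →* kˣ, ∑ w : A, (((φ w)⁻¹ : kˣ) : k) • ∑ i, ((χ i w : kˣ) : k) • g i =
      ∑ i, if φ = χ i then (Fintype.card A : k) • g i else 0 := by
    intro φ
    simp only [Finset.smul_sum, smul_smul]
    rw [Finset.sum_comm]
    refine Finset.sum_congr rfl fun i _ => ?_
    rw [← Finset.sum_smul]
    split
    next h => subst h; simp [← Units.val_mul]
    next h => rw [sum_char_inv_mul h, zero_smul]
  have h1 := key (χ (o, j))
  have h2 := key (δ * χ (o, j))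
  rw [Finset.sum_eq_single (o, j) (fun i _ hne => if_neg fun h => hne (hinj h).symm)
    (fun h => absurd (Finset.mem_univ _) h), if_pos rfl] at h1
  rw [Finset.sum_eq_zero (fun i _ => if_neg fun h => hψ i h.symm) (s := Finset.univ)] at h2
  have h3 : (Fintype.card A : k) • g (o, j) = 0 := by
    rw [← h1, ← h2]
    refine Finset.sum_congr rfl fun w _ => ?_
    by_cases hw : w ∈ A₀
    · rw [MonoidHom.mul_apply, hδ w hw, one_mul]
    · rw [h0 w hw, smul_zero, smul_zero]
  rw [← inv_smul_smul₀ hA' (g (o, j)), h3, smul_zero]; rfl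

end CfsgLib.Turull
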