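import Cfsg.Agent.Turull.Step

/-!
The fixed parts with a fixed vector are seen by the averages of the moved elements, and elements fixing all these
averages act trivially on every live part.
-/

set_option autoImplicit false
set_option linter.style.haveILetI false
set_option linter.unusedSectionVars false

namespace CfsgLib.Turull

open scoped commutatorElement

variable {k : Type*} [Field k] {T : Type*} [Group T] [Finite T] {X : Type*} [AddCommGroup X] [Module k X]

namespace Sys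

variable {D : Sys k T X} {χ : T → k} {B : Set X}

variable (D) in
/-- A part is moved, or it is fixed, is moved inside by the operator and has a fixed vector. -/
def Live (χ : T → k) : Prop :=
  (∃ t, χ (D.σ t) ≠ χ t) ∨
    ((∃ t, ∃ v ∈ D.space χ, D.ρ (t⁻¹ * D.σ t) v ≠ v) ∧ ∃ v ∈ D.space χ, v ≠ 0 ∧ D.S v = v)

theorem σ_step (N : Subgroup T) (hN : ∀ x ∈ N, D.σ x ∈ N) {t : T} (h : t⁻¹ * D.σ t ∈ N) (j : ℕ) :
    t⁻¹ * (D.σ ^ j) t ∈ N := by
  induction j with
  | zero => simp
  | succ j ih =>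
    rw [show j + 1 = 1 + j by omega, D.σ_pow_add, pow_one,
      show t⁻¹ * D.σ ((D.σ ^ j) t) = (t⁻¹ * D.σ t) * D.σ (t⁻¹ * (D.σ ^ j) t) by
        rw [map_mul, map_inv]; group]
    exact N.mul_mem h (hN _ ih)

/-- In a quotient by an invariant subgroup containing the commutators, a twice displaced element is displaced. -/
theorem mem_of_displaced (N : Subgroup T) (hA : D.A ≤ N) (hN : ∀ x ∈ N, D.σ x ∈ N) {t : T} {j : ℕ}
    (hj : ¬ D.r ∣ j)
    (h : (t⁻¹ * (D.σ ^ j) t)⁻¹ * D.σ (t⁻¹ * (D.σ ^ j) t) ∈ N) : t⁻¹ * D.σ t ∈ N := by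
  haveI : N.Normal := ⟨fun n hn g => by
    rw [show g * n * g⁻¹ = ⁅g, n⁆ * n by simp [commutatorElement_def]]
    exact N.mul_mem (hA (D.hTA g n)) hn⟩
  set q := QuotientGroup.mk' N with hq
  set z := t⁻¹ * (D.σ ^ j) t with hz
  have heq : ∀ {a b : T}, a⁻¹ * b ∈ N → q a = q b := fun {a b} hab => QuotientGroup.eq.2 hab
  have hσq : ∀ {a b : T}, q a = q b → ∀ i : ℕ, q ((D.σ ^ i) a) = q ((D.σ ^ i) b) := by
    intro a b hab i
    refine heq ?_
    rw [← map_inv, ← map_mul]
    have h1 : a⁻¹ * b ∈ N := QuotientGroup.eq.1 hab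
    induction i with
    | zero => exact h1
    | succ i ih => rw [show i + 1 = 1 + i by omega, D.σ_pow_add, pow_one]; exact hN _ ih
  have hzfix : ∀ i, q ((D.σ ^ i) z) = q z := fun i => (heq (D.σ_step N hN h i)).symm
  have hm : ∀ m : ℕ, q ((D.σ ^ (j * m)) t) = q t * q z ^ m := by
    intro m
    induction m with
    | zero => simp
    | succ m ih =>
      rw [Nat.mul_succ, D.σ_pow_add, show (D.σ ^ j) t = t * z by rw [hz]; group, map_mul, map_mul, ih,
        hzfix, pow_succ, mul_assoc]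
  have hzr : q z ^ D.r = 1 := by
    have := hm D.r
    rw [Nat.mul_comm, D.σ_pow_r] at this
    exact mul_left_cancel (this.symm.trans (mul_one _).symm)
  have hz1 : q z = 1 := by
    haveI := Fact.mk D.hp
    obtain ⟨n, hn⟩ := IsPGroup.iff_card.1 D.hT
    have h2 : q z ^ D.p ^ n = 1 := by rw [← map_pow, ← hn, pow_card_eq_one', map_one]
    have h3 := pow_gcd_eq_one.2 ⟨hzr, h2⟩
    rwa [Nat.Coprime.gcd_eq_one (((Nat.coprime_primes D.hr D.hp).2 (Ne.symm D.hpr)).pow_right n),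
      pow_one] at h3
  have hstep : q ((D.σ ^ j) t) = q t := by
    have := hm 1
    rwa [Nat.mul_one, pow_one, hz1, mul_one] at this
  have := D.eq_of_pow_eq (fun i => q ((D.σ ^ i) t)) hj
    (fun i => by rw [D.σ_pow_add]; exact hσq hstep i)
    (fun i m => by rw [D.σ_pow_add, D.σ_pow_r])
  simp only [pow_one, pow_zero, MulAut.one_apply] at this
  exact QuotientGroup.eq.1 this.symm

theorem S_ρ_eq_iff_of_fixed {e : X} (he : D.S e = e) (t : T) :
    D.S (D.ρ t e) = D.ρ t e ↔ D.ρ (t⁻¹ * D.σ t) e = e := by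
  rw [D.S_ρ, he, D.ρ_mul]
  refine ⟨fun h => by rw [h, D.ρ_inv], fun h => ?_⟩
  have := congrArg (D.ρ t) h
  rwa [← D.ρ_mul, mul_inv_cancel, D.ρ_one] at this

/-- The elements of which a vector is a common eigenvector. -/
def lineStab (D : Sys k T X) (e : X) : Subgroup T where
  carrier := {t | ∃ c : k, D.ρ t e = c • e}
  one_mem' := ⟨1, by rw [D.ρ_one, one_smul]⟩
  mul_mem' := by
    rintro a b ⟨c, hc⟩ ⟨d, hd⟩
    exact ⟨c * d, by rw [D.ρ_mul, hd, map_smul, hc, smul_smul, mul_comm]⟩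
  inv_mem' := by
    rintro a ⟨c, hc⟩
    by_cases hc0 : c = 0
    · refine ⟨1, ?_⟩
      have he : e = 0 := D.ρ_inj a (by rw [hc, hc0, zero_smul])
      simp [he]
    · refine ⟨c⁻¹, ?_⟩
      have := congrArg (D.ρ a⁻¹) hc
      rw [D.ρ_inv, map_smul] at this
      rw [← inv_smul_smul₀ hc0 (D.ρ a⁻¹ e), ← this]

theorem σ_pow_fixed {c : T} (hc : D.σ c = c) (j : ℕ) : (D.σ ^ j) c = c := by
  induction j with
  | zero => rfl
  | succ j ih => rw [show j + 1 = 1 + j by omega, D.σ_pow_add, pow_one, ih, hc]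

theorem av_ρ_fixed {c : T} (hc : D.σ c = c) (g : X) : D.av (D.ρ c g) = D.ρ c (D.av g) := by
  rw [D.av_apply, D.av_apply, map_sum]
  refine Finset.sum_congr rfl fun j _ => ?_
  rw [D.compat_pow, D.σ_pow_fixed hc]

/-- A fixed part moved inside with a fixed vector is seen by some moved element. -/
theorem fixed_exists_moved (hB : D.Spans B) (h : D.IsComp χ) (hχ : ∀ t, χ (D.σ t) = χ t)
    (hmv : ∃ t, ∃ v ∈ D.space χ, D.ρ (t⁻¹ * D.σ t) v ≠ v) (hE : ∃ v ∈ D.space χ, v ≠ 0 ∧ D.S v = v) :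
    ∃ g ∈ B, D.S g ≠ g ∧ D.proj χ (D.av g) ≠ 0 := by
  by_contra hcon
  push Not at hcon
  obtain ⟨v, hv, hv0, hvS⟩ := hE
  suffices hkey : ∀ f ∈ B, D.proj χ (D.av f) = 0 by
    have h1 : D.proj χ (D.av v) = 0 := by
      refine Submodule.span_induction (p := fun v _ => D.proj χ (D.av v) = 0) hkey (by simp)
        (fun a b _ _ ha hb => by rw [map_add, map_add, ha, hb, add_zero])
        (fun c a _ ha => by rw [map_smul, map_smul, ha, smul_zero])
        (show v ∈ Submodule.span k B by rw [hB.span]; trivial)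
    rw [D.av_of_fixed hvS, map_smul, h.proj_of_mem hv] at h1
    exact hv0 ((smul_eq_zero.1 h1).resolve_left D.hkr)
  intro f hf
  by_cases hfS : D.S f = f
  swap
  · exact hcon f hf hfS
  rw [D.proj_av_fixed h hχ]
  set e := D.proj χ f with he
  have hes : e ∈ D.space χ := h.proj_mem f
  have heS : D.S e = e := by rw [he, ← D.proj_S_fixed h hχ, hfS]
  suffices e0 : e = 0 by rw [e0, map_zero]
  by_contra he0
  set L := D.lineStab e
  have hzL : ∀ z, χ z ≠ 0 → z ∈ L := fun z hz => ⟨χ z, hes z hz⟩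
  have hAL : D.A ≤ L := fun a ha => hzL a (h.hA a ha)
  have hLσ : ∀ x ∈ L, D.σ x ∈ L := by
    rintro x ⟨c, hc⟩
    refine ⟨c, ?_⟩
    have := congrArg D.S hc
    rwa [D.S_ρ, map_smul, heS] at this
  obtain ⟨t, ht⟩ : ∃ t, t⁻¹ * D.σ t ∉ L := by
    by_contra hall
    push Not at hall
    -- all displacements fix the vector
    have hfixe : ∀ t, D.ρ (t⁻¹ * D.σ t) e = e := by
      intro t
      obtain ⟨c, hc⟩ := hall t
      have hpow : ∀ j : ℕ, D.ρ (t⁻¹ * (D.σ ^ j) t) e = c ^ j • e := by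
        intro j
        induction j with
        | zero => simp
        | succ j ih =>
          rw [show j + 1 = 1 + j by omega, D.σ_pow_add, pow_one,
            show t⁻¹ * D.σ ((D.σ ^ j) t) = (t⁻¹ * D.σ t) * D.σ (t⁻¹ * (D.σ ^ j) t) by
              rw [map_mul, map_inv]; group, D.ρ_mul]
          have h1 := congrArg D.S ih
          rw [D.S_ρ, map_smul, heS] at h1
          rw [h1, map_smul, hc, smul_smul, pow_add, pow_one, mul_comm]
      have hcr : c ^ D.r = 1 := by
        have := hpow D.r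
        rw [D.hσ, MulAut.one_apply, inv_mul_cancel, D.ρ_one] at this
        exact (smul_left_injective k he0 (by simpa using this.symm))
      have hcp : ∀ n : ℕ, D.ρ ((t⁻¹ * D.σ t) ^ n) e = c ^ n • e := by
        intro n
        induction n with
        | zero => simp
        | succ n ih => rw [pow_succ', D.ρ_mul, ih, map_smul, hc, smul_smul, pow_succ]
      haveI := Fact.mk D.hp
      obtain ⟨n, hn⟩ := IsPGroup.iff_card.1 D.hT
      have hcn : c ^ D.p ^ n = 1 := by
        have := hcp (Nat.card T)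
        rw [pow_card_eq_one', D.ρ_one, hn] at this
        exact (smul_left_injective k he0 (by simpa using this.symm))
      have h3 := pow_gcd_eq_one.2 ⟨hcr, hcn⟩
      rw [Nat.Coprime.gcd_eq_one (((Nat.coprime_primes D.hr D.hp).2 (Ne.symm D.hpr)).pow_right n),
        pow_one] at h3
      rw [hc, h3, one_smul]
    have horb : ∀ t s, D.ρ (t⁻¹ * D.σ t) (D.ρ s e) = D.ρ s e := by
      intro t s
      rw [← D.ρ_mul, show t⁻¹ * D.σ t * s =
        s * (((t * s)⁻¹ * D.σ (t * s)) * (s⁻¹ * D.σ s)⁻¹) by rw [map_mul]; group, D.ρ_mul, D.ρ_mul]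
      congr 1
      have h2 : D.ρ (s⁻¹ * D.σ s)⁻¹ e = e := by
        conv_lhs => rw [← hfixe s]
        rw [D.ρ_inv]
      rw [h2, hfixe]
    obtain ⟨t, w, hw, hne⟩ := hmv
    set z := t⁻¹ * D.σ t with hz
    have hzc : ∀ s, χ ⁅z, s⁆ = 1 := by
      intro s
      have h1 := h.smul_of_mem_space z s hes
      rw [horb, hfixe] at h1
      have h2 : (χ ⁅z, s⁆ - 1) • D.ρ s e = 0 := by rw [sub_smul, one_smul, ← h1]; exact sub_self _
      exact sub_eq_zero.1 ((smul_eq_zero.1 h2).resolve_right fun h0 => he0 (D.ρ_inj s h0))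
    have hz0 : χ z ≠ 0 := (h.supp z).2 hzc
    apply hne
    rw [hw z hz0, show χ z = 1 from ?_, one_smul]
    exact smul_left_injective k he0 (((hes z hz0).symm.trans (hfixe t)).trans (one_smul k e).symm)
  have hnf : ∀ s, D.ρ (s⁻¹ * D.σ s) e ≠ e → D.av (D.ρ s e) = 0 := by
    intro s hs
    rw [he, ← h.proj_ρ, ← D.proj_av_fixed h hχ]
    refine hcon _ (hB.inv s f hf) fun hfix => hs ((S_ρ_eq_iff_of_fixed heS s).1 ?_)
    rw [he, ← h.proj_ρ, ← D.proj_S_fixed h hχ, hfix]
  have h0 : D.av (D.ρ t e) = 0 := hnf t fun h1 => ht ⟨1, by rw [h1, one_smul]⟩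
  have h1 := congrArg (fun x => D.av (D.ρ t⁻¹ x)) h0
  simp only [map_zero] at h1
  rw [D.av_apply (D.ρ t e), map_sum, map_sum,
    Finset.sum_eq_single_of_mem 0 (Finset.mem_range.2 D.hr.pos)] at h1
  · rw [pow_zero, Module.End.one_apply, D.ρ_inv, D.av_of_fixed heS] at h1
    exact he0 ((smul_eq_zero.1 h1).resolve_left D.hkr)
  · intro j hj hj0
    rw [D.compat_pow, D.pow_S_of_fixed heS, ← D.ρ_mul]
    refine hnf _ fun h2 => ht (mem_of_displaced L hAL hLσ (j := j) (fun hd => hj0 ?_) ⟨1, by rw [h2, one_smul]⟩)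
    exact Nat.eq_zero_of_dvd_of_lt hd (Finset.mem_range.1 hj)

theorem exists_moved (hB : D.Spans B) (h : D.IsComp χ) (hl : D.Live χ) :
    ∃ g ∈ B, D.S g ≠ g ∧ D.proj χ (D.av g) ≠ 0 := by
  by_cases hmv : ∃ t, χ (D.σ t) ≠ χ t
  · by_contra hcon
    push Not at hcon
    obtain ⟨v, hv, hv'⟩ := h.eig
    exact hv (D.moved_eq_zero hB h hmv LinearMap.id (fun g hg hgS => hcon g hg hgS)
      (show v ∈ D.space χ from hv'))
  · obtain ⟨h1, h2⟩ := hl.resolve_left hmv
    push Not at hmv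
    exact fixed_exists_moved hB h hmv h1 h2

/-- A fixed element fixing the averages of the moved elements is trivial on the live parts. -/
theorem trivial_of_fixes (hB : D.Spans B) (h : D.IsComp χ) (hl : D.Live χ) {u : T} (hu : D.σ u = u)
    (hfix : ∀ g ∈ B, D.S g ≠ g → D.ρ u (D.av g) = D.av g) {v : X} (hv : v ∈ D.space χ) : D.ρ u v = v := by
  by_cases hmv : ∃ t, χ (D.σ t) ≠ χ t
  · refine sub_eq_zero.1 (D.moved_eq_zero hB h hmv (D.ρ u - 1) (fun g hg hgS => ?_) hv)
    rw [LinearMap.sub_apply, Module.End.one_apply, ← h.proj_ρ, hfix g hg hgS, sub_self]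
  push Not at hmv
  obtain ⟨g, hg, hgS, hge⟩ := exists_moved hB h hl
  set e := D.proj χ (D.av g) with he
  have hes : e ∈ D.space χ := h.proj_mem _
  have heu : D.ρ u e = e := by rw [he, ← h.proj_ρ, hfix g hg hgS]
  have hcomm : ∀ t, χ ⁅u, t⁆ = 1 := by
    have hfc : ∀ c, D.σ c = c → χ ⁅u, c⁆ = 1 := by
      intro c hc
      have hg' : D.S (D.ρ c g) ≠ D.ρ c g := by
        rw [D.S_ρ, hc]
        exact fun h' => hgS (by simpa [D.ρ_inv] using congrArg (D.ρ c⁻¹) h')
      have hav : D.av (D.ρ c g) = D.ρ c (D.av g) := D.av_ρ_fixed hc g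
      have h1 := congrArg (D.proj χ) (hfix _ (hB.inv c g hg) hg')
      rw [hav, h.proj_ρ, h.proj_ρ, ← he, h.smul_of_mem_space u c hes, heu] at h1
      have h2 : (χ ⁅u, c⁆ - 1) • D.ρ c e = 0 := by rw [sub_smul, one_smul, h1]; exact sub_self _
      exact sub_eq_zero.1 ((smul_eq_zero.1 h2).resolve_right fun h0 => hge (D.ρ_inj c h0))
    let N : Subgroup T :=
      { carrier := {t | χ ⁅u, t⁆ = 1}
        one_mem' := by simp [h.one]
        mul_mem' := fun {a b} ha hb => by
          show χ ⁅u, a * b⁆ = 1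
          rw [h.comm_mul_right, ha, hb, mul_one]
        inv_mem' := fun {a} ha => by
          show χ ⁅u, a⁻¹⁆ = 1
          have h3 := h.comm_mul_right u a a⁻¹
          rwa [mul_inv_cancel, commutatorElement_one_right, h.one, ha, one_mul, eq_comm] at h3 }
    have hinv : ∀ t, χ ⁅u, D.σ t⁆ = χ ⁅u, t⁆ := fun t => by
      conv_lhs => rw [← hu, ← map_commutatorElement, hmv]
    intro t
    obtain ⟨c, hc, hc'⟩ := D.exists_fixed N (fun x hx => by
      show χ ⁅u, D.σ x⁆ = 1
      rw [hinv]; exact hx) (t := t) (by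
      show χ ⁅u, t⁻¹ * D.σ t⁆ = 1
      rw [h.comm_mul_right, hinv, ← h.comm_mul_right, inv_mul_cancel, commutatorElement_one_right, h.one])
    have h3 := h.comm_mul_right u t (t⁻¹ * c)
    rwa [mul_inv_cancel_left, hfc c hc, show χ ⁅u, t⁻¹ * c⁆ = 1 from hc', mul_one, eq_comm] at h3
  have hu0 : χ u ≠ 0 := (h.supp u).2 hcomm
  have h1 : χ u = 1 :=
    smul_left_injective k hge (((hes u hu0).symm.trans heu).trans (one_smul k e).symm)
  rw [hv u hu0, h1, one_smul]

/-- A compatible operator fixing the averages of the moved elements fixes the central character of a live fixed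
part. -/
theorem char_eq_of_fixes (hB : D.Spans B) (h : D.IsComp χ) (hl : D.Live χ) (hχ : ∀ t, χ (D.σ t) = χ t)
    (θ : MulAut T) (hθA : ∀ a ∈ D.A, θ a ∈ D.A) (hθσ : ∀ t, θ (D.σ t) = D.σ (θ t))
    (Y : X ≃ₗ[k] X) (hY : ∀ t v, Y (D.ρ t v) = D.ρ (θ t) (Y v))
    (hfix : ∀ g ∈ B, D.S g ≠ g → Y (D.av g) = D.av g) {a : T} (ha : a ∈ D.A) : χ (θ a) = χ a := by
  obtain ⟨g, hg, hgS, hge⟩ := exists_moved hB h hl
  have hfc : ∀ c ∈ D.A, D.σ c = c → χ (θ c) = χ c := by
    intro c hcA hc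
    have hg' : D.S (D.ρ c g) ≠ D.ρ c g := by
      rw [D.S_ρ, hc]
      exact fun h' => hgS (by simpa [D.ρ_inv] using congrArg (D.ρ c⁻¹) h')
    have hav : D.av (D.ρ c g) = D.ρ c (D.av g) := D.av_ρ_fixed hc g
    have h1 := hfix _ (hB.inv c g hg) hg'
    rw [hav, hY, hfix g hg hgS] at h1
    have h2 := congrArg (D.proj χ) h1
    rw [h.proj_ρ, h.proj_ρ, h.proj_mem _ _ (h.hA _ (hθA c hcA)), h.proj_mem _ _ (h.hA c hcA)] at h2
    exact smul_left_injective k hge h2
  let N : Subgroup T :=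
    { carrier := {x | x ∈ D.A ∧ χ x = 1 ∧ χ (θ x) = 1}
      one_mem' := ⟨one_mem _, h.one, by rw [map_one, h.one]⟩
      mul_mem' := fun {x y} hx hy => ⟨mul_mem hx.1 hy.1, by rw [h.mul _ _ (h.hA _ hx.1), hx.2.1, hy.2.1, mul_one],
        by rw [map_mul, h.mul _ _ (h.hA _ (hθA _ hx.1)), hx.2.2, hy.2.2, mul_one]⟩
      inv_mem' := fun {x} hx => ⟨inv_mem hx.1, by rw [(h.inv_supp x (h.hA _ hx.1)).2, hx.2.1, inv_one],
        by rw [map_inv, (h.inv_supp _ (h.hA _ (hθA _ hx.1))).2, hx.2.2, inv_one]⟩ }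
  have hd : a⁻¹ * D.σ a ∈ N := by
    refine ⟨mul_mem (inv_mem ha) (D.hσA a ha), ?_, ?_⟩
    · rw [h.mul _ _ (h.hA _ (inv_mem ha)), hχ, ← h.mul _ _ (h.hA _ (inv_mem ha)), inv_mul_cancel, h.one]
    · rw [map_mul, h.mul _ _ (h.hA _ (hθA _ (inv_mem ha))), hθσ, hχ,
        ← h.mul _ _ (h.hA _ (hθA _ (inv_mem ha))), ← map_mul, inv_mul_cancel, map_one, h.one]
  obtain ⟨c, hc, hcA, h1, h2⟩ := D.exists_fixed N (fun x hx => ⟨D.hσA x hx.1, by rw [hχ]; exact hx.2.1,
    by rw [hθσ, hχ]; exact hx.2.2⟩) hd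
  have hcA' : c ∈ D.A := by have := mul_mem ha hcA; rwa [mul_inv_cancel_left] at this
  have e1 : χ c = χ a := by
    have := h.mul a (a⁻¹ * c) (h.hA a ha)
    rwa [mul_inv_cancel_left, h1, mul_one] at this
  have e2 : χ (θ c) = χ (θ a) := by
    have := h.mul (θ a) (θ (a⁻¹ * c)) (h.hA _ (hθA a ha))
    rwa [← map_mul, mul_inv_cancel_left, h2, mul_one] at this
  rw [← e1, ← e2, hfc c hcA' hc]

/-- A compatible operator of order prime to `r` that fixes the averages of the moved elements and the central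
character of a moved part fixes that part pointwise. -/
theorem moved_fixed_pointwise (hB : D.Spans B) (h : D.IsComp χ) (hmv : ∃ t, χ (D.σ t) ≠ χ t)
    (θ : MulAut T) (hθA : ∀ a ∈ D.A, θ a ∈ D.A) (hθA' : ∀ a ∈ D.A, θ.symm a ∈ D.A)
    (hθσ : ∀ t, θ (D.σ t) = D.σ (θ t))
    (Y : X ≃ₗ[k] X) (hY : ∀ t v, Y (D.ρ t v) = D.ρ (θ t) (Y v)) (hYS : ∀ v, Y (D.S v) = D.S (Y v))
    (hfix : ∀ g ∈ B, D.S g ≠ g → Y (D.av g) = D.av g) (hχA : ∀ a ∈ D.A, χ (θ a) = χ a)
    {m : ℕ} (hθm : θ ^ m = 1) (hm : m.Coprime D.r) {v : X} (hv : v ∈ D.space χ) : Y v = v := by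
  have hθσj : ∀ (j : ℕ) t, θ ((D.σ ^ j) t) = (D.σ ^ j) (θ t) := by
    intro j t
    induction j with
    | zero => rfl
    | succ j ih => rw [show j + 1 = 1 + j by omega, D.σ_pow_add, D.σ_pow_add, pow_one, hθσ, ih]
  set ψ : T → k := fun t => χ (θ t) with hψ
  have h' : D.IsComp ψ := by
    have := h.transport θ.symm (fun a ha => by simpa using hθA a ha) Y.symm (fun t x => by
      apply Y.injective; simp [hY])
    simpa [hψ] using this
  have hYπ : ∀ x, D.proj χ (Y x) = Y (D.proj ψ x) := fun x => by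
    have := D.proj_transport θ Y hY ψ x
    simpa [hψ] using this
  have hsupp : ∀ z, ψ z ≠ 0 ↔ χ z ≠ 0 := fun z => by
    rw [h'.supp, h.supp]
    exact forall_congr' fun t => by simp only [hψ]; rw [hχA _ (D.hTA z t)]
  have hz0 : ∀ w ∈ h.z0, ∀ i : ℕ, ψ ((D.σ ^ i) w) ≠ 0 := fun w hw i => (hsupp _).2 (h.mem_z0.1 hw i)
  have hψz : h'.z0 = h.z0 := le_antisymm (fun w hw => h.mem_z0.2 fun i => (hsupp _).1 (h'.mem_z0.1 hw i))
    fun w hw => h'.mem_z0.2 (hz0 w hw)
  have hψmv : ∃ t, ψ (D.σ t) ≠ ψ t := by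
    obtain ⟨t, ht⟩ := hmv
    refine ⟨θ.symm t, ?_⟩
    simpa [hψ, hθσ] using ht
  -- the translated part lies in the same orbit
  obtain ⟨e, he⟩ : ∃ e : ℕ, ∀ w ∈ h.z0, ψ w = χ ((D.σ ^ e) w) := by
    by_contra hcon
    push Not at hcon
    have hkey := key hB h.z0 (fun w hw i => h.z0_pow_mem hw i) (ι₀ := Bool) (by simp)
      (fun o => bif o then
        { toFun := fun w => Units.mk0 (ψ (w : T)) (hz0 w w.2 0)
          map_one' := Units.ext (by simp [h'.one])
          map_mul' := fun a b => Units.ext (h'.mul _ _ (hz0 a a.2 0)) }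
        else h.hom 0)
      (fun a b hab => ?_)
      (fun o => bif o then Y.toLinearMap.comp (D.proj ψ) else -D.proj χ)
      (fun o w x => ?_) (fun g hg hgS => ?_) false
    · obtain ⟨w, hw, hw'⟩ := h.eig
      have := LinearMap.congr_fun hkey w
      simp only [cond_false, LinearMap.neg_apply, LinearMap.zero_apply, neg_eq_zero,
        h.proj_of_mem (show w ∈ D.space χ from hw')] at this
      exact hw this
    · obtain ⟨o, i⟩ := a
      obtain ⟨o', i'⟩ := b
      have hev : ∀ w : h.z0, (bif o then ψ ((D.σ ^ (i : ℕ)) w) else χ ((D.σ ^ (i : ℕ)) (w : T))) =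
          (bif o' then ψ ((D.σ ^ (i' : ℕ)) w) else χ ((D.σ ^ (i' : ℕ)) (w : T))) := fun w => by
        have := congrArg Units.val (congrFun hab w)
        cases o <;> cases o' <;> exact this
      have hmix : ∀ i i' : ℕ, i < D.r → ¬ ∀ w : h.z0, ψ ((D.σ ^ i) w) = χ ((D.σ ^ i') (w : T)) := by
        intro i i' hi hall
        obtain ⟨w, hw, hne⟩ := hcon (i' + (D.r - i))
        apply hne
        have := hall ⟨_, h.z0_pow_mem hw (D.r - i)⟩
        rwa [← D.σ_pow_add, show i + (D.r - i) = D.r * 1 by omega, D.σ_pow_r, ← D.σ_pow_add] at this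
      cases o <;> cases o'
      · refine Prod.ext rfl (h.hom_injective hmv (MonoidHom.ext fun w => Units.ext ?_))
        simpa [IsComp.hom] using hev w
      · exact absurd (fun w => (hev w).symm) (hmix i' i i'.2)
      · exact absurd hev (hmix i i' i.2)
      · refine Prod.ext rfl (h'.hom_injective hψmv (MonoidHom.ext fun w => Units.ext ?_))
        simpa [IsComp.hom] using hev ⟨(w : T), hψz.le w.2⟩
    · cases o
      · simp only [cond_false, LinearMap.neg_apply, h.proj_ρ, h.proj_mem x (w : T) (h.mem_z0.1 w.2 0), smul_neg]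
        rfl
      · simp only [cond_true, LinearMap.comp_apply, h'.proj_ρ, h'.proj_mem x (w : T) (hz0 w w.2 0), map_smul]
        rfl
    · simp only [Fintype.sum_bool, cond_true, cond_false, LinearMap.comp_apply, LinearEquiv.coe_coe,
        LinearMap.neg_apply]
      rw [← hYπ, hfix g hg hgS, add_neg_cancel]
  have heq : ∀ t, ψ t = χ ((D.σ ^ e) t) := by
    set m' := D.r * e - e with hm'
    have hcancel : ∀ w, (D.σ ^ e) ((D.σ ^ m') w) = w := fun w => by
      rw [← D.σ_pow_add, show e + m' = D.r * e by have := Nat.le_mul_of_pos_left e D.hr.pos; omega,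
        D.σ_pow_r]
    have hkey := key hB h.z0 (fun w hw i => h.z0_pow_mem hw i) (ι₀ := Unit) (by simp) (fun _ => h.hom 0)
      (fun a b hab => Prod.ext rfl (h.hom_injective hmv (MonoidHom.ext fun w => congrFun hab w)))
      (fun _ => (Y.toLinearMap.comp (D.proj ψ)).comp (D.S ^ m') - D.proj χ)
      (fun o w x => ?_) (fun g hg hgS => ?_) ()
    · obtain ⟨v₀, hv₀, hv₀'⟩ := h.eig
      have h1 := LinearMap.congr_fun hkey v₀
      simp only [LinearMap.sub_apply, LinearMap.comp_apply, LinearMap.zero_apply, sub_eq_zero,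
        LinearEquiv.coe_coe, h.proj_of_mem (show v₀ ∈ D.space χ from hv₀')] at h1
      rw [D.proj_pow h'] at h1
      intro t
      by_contra hne
      apply hv₀
      rw [← h1, (h'.comp_pow m').proj_eq_zero h (fun hf => hne ?_) (show v₀ ∈ D.space χ from hv₀'), map_zero,
        map_zero]
      have := congrFun hf ((D.σ ^ e) t)
      rwa [← D.σ_pow_add, Nat.add_comm, D.σ_pow_add, ← D.σ_pow_add, Nat.add_comm,
        show m' + e = D.r * e by have := Nat.le_mul_of_pos_left e D.hr.pos; omega, D.σ_pow_r] at this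
    · simp only [LinearMap.sub_apply, LinearMap.comp_apply, LinearEquiv.coe_coe, D.compat_pow, h'.proj_ρ,
        h'.proj_mem _ _ (hz0 w w.2 m'), map_smul, h.proj_ρ, h.proj_mem x (w : T) (h.mem_z0.1 w.2 0), smul_sub]
      rw [he _ (h.z0_pow_mem w.2 m'), hcancel]
      rfl
    · simp only [Fintype.sum_unique, LinearMap.sub_apply, LinearMap.comp_apply, LinearEquiv.coe_coe]
      rw [D.pow_S_of_fixed (D.S_av g), ← hYπ, hfix g hg hgS, sub_self]
  have hiter : ∀ i : ℕ, ∀ t, χ ((θ ^ i) t) = χ ((D.σ ^ (e * i)) t) := by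
    intro i
    induction i with
    | zero => intro t; simp
    | succ i ih =>
      intro t
      rw [pow_succ', MulAut.mul_apply]
      show ψ ((θ ^ i) t) = _
      rw [heq, Nat.mul_succ, D.σ_pow_add, ← ih]
      congr 1
      clear ih
      induction i with
      | zero => rfl
      | succ i ihi =>
        rw [pow_succ', MulAut.mul_apply, MulAut.mul_apply, ← hθσj, ihi]
  have hre : D.r ∣ e := by
    refine ((Nat.Coprime.symm hm).dvd_mul_right).1 ?_
    by_contra hnd
    obtain ⟨t, ht⟩ := hmv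
    refine ht ?_
    have := D.eq_of_pow_eq (fun i => χ ((D.σ ^ i) t)) hnd (fun i => by
      rw [Nat.add_comm, D.σ_pow_add, ← hiter, hθm, MulAut.one_apply])
      (fun i l => by rw [D.σ_pow_add, D.σ_pow_r])
    simpa using this
  have hψχ : ψ = χ := funext fun t => by
    obtain ⟨l, rfl⟩ := hre
    rw [heq, D.σ_pow_r]
  refine sub_eq_zero.1 (D.moved_eq_zero hB h hmv (Y.toLinearMap - 1) (fun g hg hgS => ?_) hv)
  rw [LinearMap.sub_apply, Module.End.one_apply, LinearEquiv.coe_coe]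
  conv_lhs => arg 1; rw [show D.proj χ = D.proj ψ by rw [hψχ]]
  rw [← hYπ, hfix g hg hgS, sub_self]

end Sys

end CfsgLib.Turull
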