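import Cfsg.Agent.Turull.PinSplit
import Cfsg.Agent.Turull.StepFixed

/-!
The projective representation carried by a fixed part, and the shape of a fixed part without fixed vectors.
-/

set_option autoImplicit false
set_option linter.style.haveILetI false
set_option linter.unusedSectionVars false

namespace CfsgLib.Turull

open scoped commutatorElement

variable {k : Type*} [Field k] {T : Type*} [Group T] [Finite T] {X : Type*} [AddCommGroup X] [Module k X]

namespace Sys.IsComp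

variable {D : Sys k T X} {χ : T → k} (h : D.IsComp χ)

theorem A_le_zsub : D.A ≤ h.zsub := fun a ha => h.hA a ha

instance zsub_normal : h.zsub.Normal :=
  ⟨fun n hn g => by
    rw [show g * n * g⁻¹ = ⁅g, n⁆ * n by simp [commutatorElement_def]]
    exact h.zsub.mul_mem (h.A_le_zsub (D.hTA g n)) hn⟩

instance barComm : CommGroup (T ⧸ h.zsub) :=
  { (inferInstance : Group (T ⧸ h.zsub)) with
    mul_comm := fun a b => by
      induction a using QuotientGroup.induction_on with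
      | _ s =>
        induction b using QuotientGroup.induction_on with
        | _ t =>
          rw [← QuotientGroup.mk_mul, ← QuotientGroup.mk_mul, QuotientGroup.eq]
          rw [show (s * t)⁻¹ * (t * s) = ⁅t⁻¹, s⁻¹⁆ by simp [commutatorElement_def, mul_assoc]]
          exact h.A_le_zsub (D.hTA _ _) }

theorem comm_congr {s s' : T} (e : (s : T ⧸ h.zsub) = s') (t : T) : χ ⁅s, t⁆ = χ ⁅s', t⁆ := by
  have hz : s⁻¹ * s' ∈ h.zsub := QuotientGroup.eq.1 e
  conv_rhs => rw [show s' = s * (s⁻¹ * s') by group, h.comm_mul_left]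
  rw [h.comm_of_supp _ hz t, mul_one]

theorem mem_zsub_fixed {θ : MulAut T} (hθ : ∀ t, χ (θ t) = χ t) {z : T} : θ z ∈ h.zsub ↔ z ∈ h.zsub := by
  rw [h.mem_zsub, h.mem_zsub, hθ]

/-- An automorphism fixing the character, on the quotient by its centre. -/
noncomputable def autBar (θ : MulAut T) (hθ : ∀ t, χ (θ t) = χ t) : MulAut (T ⧸ h.zsub) :=
  QuotientGroup.congr h.zsub h.zsub θ (by
    ext x
    rw [Subgroup.map_equiv_eq_comap_symm, Subgroup.mem_comap]
    show θ.symm x ∈ h.zsub ↔ _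
    rw [← h.mem_zsub_fixed hθ, MulEquiv.apply_symm_apply])

theorem autBar_mk (θ : MulAut T) (hθ : ∀ t, χ (θ t) = χ t) (t : T) :
    h.autBar θ hθ (t : T ⧸ h.zsub) = (θ t : T) := rfl

variable (hχ : ∀ t, χ (D.σ t) = χ t)

/-- The moved part of the quotient by the centre. -/
noncomputable def mV : Subgroup (T ⧸ h.zsub) := moveG (h.autBar D.σ hχ)

theorem barσ_pow_r : h.autBar D.σ hχ ^ D.r = 1 := by
  refine MulEquiv.ext fun x => ?_
  induction x using QuotientGroup.induction_on with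
  | _ t =>
    have : ∀ j : ℕ, (h.autBar D.σ hχ ^ j) (t : T ⧸ h.zsub) = ((D.σ ^ j) t : T) := fun j => by
      induction j with
      | zero => rfl
      | succ j ih => rw [pow_succ', MulAut.mul_apply, ih, autBar_mk, pow_succ', MulAut.mul_apply]
    rw [this, D.hσ]
    rfl

theorem isPGroup_bar : IsPGroup D.p (T ⧸ h.zsub) := D.hT.to_quotient _

theorem isPGroup_mV : IsPGroup D.p (h.mV hχ) := h.isPGroup_bar.to_subgroup _

variable {θ : MulAut T}

theorem autBar_commute (hθ : ∀ t, χ (θ t) = χ t) (hc : ∀ t, θ (D.σ t) = D.σ (θ t)) : Commute (h.autBar θ hθ) (h.autBar D.σ hχ) := by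
  refine MulEquiv.ext fun x => ?_
  induction x using QuotientGroup.induction_on with
  | _ t => rw [MulAut.mul_apply, MulAut.mul_apply, autBar_mk, autBar_mk, autBar_mk, autBar_mk, hc]

/-- An automorphism commuting with the operator, on the moved part. -/
noncomputable def autV (hθ : ∀ t, χ (θ t) = χ t) (hc : ∀ t, θ (D.σ t) = D.σ (θ t)) : MulAut (h.mV hχ) :=
  autOn (h.mV hχ) (h.autBar θ hθ) fun _ hx => apply_mem_moveG (h.autBar_commute hχ hθ hc) hx

theorem autV_apply (hθ : ∀ t, χ (θ t) = χ t) (hc : ∀ t, θ (D.σ t) = D.σ (θ t)) (v : h.mV hχ) : ((h.autV hχ hθ hc v : h.mV hχ) : T ⧸ h.zsub) = h.autBar θ hθ v := rfl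

/-- The operator on the moved part. -/
noncomputable def σV : MulAut (h.mV hχ) := h.autV hχ hχ fun _ => rfl

include h in
theorem coprime_rp : D.r.Coprime D.p := (Nat.coprime_primes D.hr D.hp).2 (Ne.symm D.hpr)

theorem semireg_σV : Semireg (h.σV hχ) D.r := by
  refine Semireg.of_prime D.hr (MulEquiv.ext fun x => Subtype.ext ?_) fun v hv => Subtype.ext ?_
  · refine (autOn_pow_apply (h.mV hχ) (h.autBar D.σ hχ)
      (fun _ hx => apply_mem_moveG (h.autBar_commute hχ hχ fun _ => rfl) hx) D.r x).trans ?_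
    rw [h.barσ_pow_r hχ]
    rfl
  · exact eq_one_of_mem_fixG_moveG (h.barσ_pow_r hχ) h.isPGroup_bar h.coprime_rp
      (show (v : T ⧸ h.zsub) ∈ fixG (h.autBar D.σ hχ) from congrArg Subtype.val hv) v.2

/-- A representative. -/
noncomputable def rep (v : h.mV hχ) : T :=
  haveI := Classical.propDecidable (v = 1)
  if v = 1 then 1 else (v : T ⧸ h.zsub).out

theorem mk_rep (v : h.mV hχ) : ((h.rep hχ v : T) : T ⧸ h.zsub) = v := by
  unfold rep
  split
  next hv => subst hv; rfl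
  next => exact QuotientGroup.out_eq' _

theorem rep_one : h.rep hχ 1 = 1 := by simp [rep]

theorem rep_mul_mem (v w : h.mV hχ) : χ (h.rep hχ v * h.rep hχ w * (h.rep hχ (v * w))⁻¹) ≠ 0 := by
  rw [← h.mem_zsub, ← QuotientGroup.eq_one_iff, QuotientGroup.mk_mul, QuotientGroup.mk_mul, QuotientGroup.mk_inv,
    h.mk_rep, h.mk_rep, h.mk_rep, Subgroup.coe_mul, mul_inv_cancel]

theorem comm_fixed_move {a : T} (ha : h.autBar D.σ hχ (a : T ⧸ h.zsub) = (a : T ⧸ h.zsub)) {s : T}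
    (hs : (s : T ⧸ h.zsub) ∈ h.mV hχ) : χ ⁅a, s⁆ = 1 := by
  obtain ⟨w, hw⟩ := mem_moveG.1 hs
  induction w using QuotientGroup.induction_on with
  | _ w =>
    rw [autBar_mk, ← QuotientGroup.mk_div] at hw
    have e1 : χ ⁅a, s⁆ = χ ⁅a, D.σ w * w⁻¹⁆ := by
      rw [h.comm_inv s a, h.comm_congr (s' := D.σ w * w⁻¹) (by rw [← hw, div_eq_mul_inv]) a, ← h.comm_inv]
    have e2 : χ ⁅a, D.σ w⁆ = χ ⁅a, w⁆ := by
      have h2 := h.comm_congr (s := D.σ a) (s' := a) (by rw [← ha, autBar_mk]) (D.σ w)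
      rw [← h2, ← map_commutatorElement, hχ]
    rw [e1, h.comm_mul_right, e2, ← h.comm_mul_right, mul_inv_cancel, commutatorElement_one_right, h.one]

/-- The factor set of a fixed part. -/
noncomputable def factor : Factor k (h.mV hχ) where
  c v w := χ (h.rep hχ v * h.rep hχ w * (h.rep hχ (v * w))⁻¹)
  ne v w := h.rep_mul_mem hχ v w
  nondeg v hv := by
    by_contra hcon
    push Not at hcon
    have hall : ∀ t, χ ⁅h.rep hχ v, t⁆ = 1 := by
      intro t
      obtain ⟨a, ha, b, hb, hab⟩ :=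
        exists_fix_mul_move (h.barσ_pow_r hχ) h.isPGroup_bar h.coprime_rp (t : T ⧸ h.zsub)
      obtain ⟨a', rfl⟩ := QuotientGroup.mk_surjective a
      rw [h.comm_inv t, h.comm_congr (s := t) (s' := a' * h.rep hχ ⟨b, hb⟩)
        (by rw [QuotientGroup.mk_mul, h.mk_rep]; exact hab.symm), h.comm_mul_left,
        h.comm_fixed_move hχ (mem_fixG.1 ha) (by rw [h.mk_rep]; exact v.2), one_mul, ← h.comm_inv]
      set z := h.rep hχ v * h.rep hχ ⟨b, hb⟩ * (h.rep hχ (v * ⟨b, hb⟩))⁻¹ with hz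
      set z' := h.rep hχ ⟨b, hb⟩ * h.rep hχ v * (h.rep hχ (⟨b, hb⟩ * v))⁻¹ with hz'
      have e : z = ⁅h.rep hχ v, h.rep hχ ⟨b, hb⟩⁆ * z' := by
        rw [hz, hz', mul_comm v ⟨b, hb⟩]
        simp [commutatorElement_def, mul_assoc]
      have h1 : χ z = χ z' := hcon ⟨b, hb⟩
      rw [e, h.mul _ _ (h.comm_supp _ _)] at h1
      exact (mul_eq_right₀ (h.rep_mul_mem hχ ⟨b, hb⟩ v)).1 h1
    refine hv (Subtype.ext ?_)
    rw [← h.mk_rep hχ v]
    exact (QuotientGroup.eq_one_iff _).2 ((h.supp _).2 hall)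

/-- The operators of a fixed part. -/
noncomputable def M (v : h.mV hχ) : Module.End k (D.space χ) :=
  (D.ρ (h.rep hχ v)).restrict fun _ hx => h.ρ_mem_space _ hx

theorem M_apply (v : h.mV hχ) (x : D.space χ) : ((h.M hχ v x : D.space χ) : X) = D.ρ (h.rep hχ v) x := rfl

theorem isRep_M : IsRep (h.factor hχ) (h.M hχ) := by
  refine ⟨LinearMap.ext fun x => Subtype.ext ?_, fun v w => LinearMap.ext fun x => Subtype.ext ?_⟩
  · rw [M_apply, rep_one, D.ρ_one]; rfl
  · show D.ρ (h.rep hχ v) (D.ρ (h.rep hχ w) x) = (h.factor hχ).c v w • D.ρ (h.rep hχ (v * w)) x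
    rw [← D.ρ_mul, show h.rep hχ v * h.rep hχ w =
      h.rep hχ v * h.rep hχ w * (h.rep hχ (v * w))⁻¹ * h.rep hχ (v * w) by group, D.ρ_mul]
    exact h.ρ_mem_space _ x.2 _ (h.rep_mul_mem hχ v w)

theorem transport_mem_space {Y : Module.End k X} (hY : ∀ t v, Y (D.ρ t v) = D.ρ (θ t) (Y v)) {x : X}
    (hθ : ∀ t, χ (θ t) = χ t) (hx : x ∈ D.space χ) : Y x ∈ D.space χ := by
  intro z hz
  obtain ⟨z', rfl⟩ := θ.surjective z
  rw [← hY, hx z' (by rwa [hθ] at hz), map_smul, hθ]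

theorem autV_mem (hθ : ∀ t, χ (θ t) = χ t) (hc : ∀ t, θ (D.σ t) = D.σ (θ t)) (v : h.mV hχ) : χ (θ (h.rep hχ v) * (h.rep hχ (h.autV hχ hθ hc v))⁻¹) ≠ 0 := by
  rw [← h.mem_zsub, ← QuotientGroup.eq_one_iff, QuotientGroup.mk_mul, QuotientGroup.mk_inv, h.mk_rep,
    autV_apply, ← h.mk_rep hχ v, autBar_mk, mul_inv_cancel]

/-- The scalars of an operator on a fixed part. -/
noncomputable def scal (hθ : ∀ t, χ (θ t) = χ t) (hc : ∀ t, θ (D.σ t) = D.σ (θ t)) (v : h.mV hχ) : k := χ (θ (h.rep hχ v) * (h.rep hχ (h.autV hχ hθ hc v))⁻¹)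

theorem impl_restrict (hθ : ∀ t, χ (θ t) = χ t) (hc : ∀ t, θ (D.σ t) = D.σ (θ t)) {Y : Module.End k X} (hY : ∀ t v, Y (D.ρ t v) = D.ρ (θ t) (Y v)) :
    Impl (h.M hχ) (h.autV hχ hθ hc) (h.scal hχ hθ hc)
      (Y.restrict fun _ hx => transport_mem_space hY hθ hx) := by
  intro v
  refine LinearMap.ext fun x => Subtype.ext ?_
  show Y (D.ρ (h.rep hχ v) x) = h.scal hχ hθ hc v • D.ρ (h.rep hχ (h.autV hχ hθ hc v)) (Y x)
  rw [hY, show θ (h.rep hχ v) = θ (h.rep hχ v) * (h.rep hχ (h.autV hχ hθ hc v))⁻¹ *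
    h.rep hχ (h.autV hχ hθ hc v) by group, D.ρ_mul]
  exact h.ρ_mem_space _ (transport_mem_space hY hθ x.2) _ (h.autV_mem hχ hθ hc v)

/-- The operator restricted to a fixed part. -/
def SV (_h : D.IsComp χ) (hχ : ∀ t, χ (D.σ t) = χ t) : Module.End k (D.space χ) := D.S.restrict fun _ hx => transport_mem_space D.S_ρ hχ hx

theorem impl_SV : Impl (h.M hχ) (h.σV hχ) (h.scal hχ hχ fun _ => rfl) (h.SV hχ) :=
  h.impl_restrict hχ hχ (fun _ => rfl) D.S_ρ

theorem SV_apply (x : D.space χ) : ((h.SV hχ x : D.space χ) : X) = D.S x := rfl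

theorem SV_pow : (h.SV hχ) ^ D.r = 1 := by
  refine LinearMap.ext fun x => Subtype.ext ?_
  rw [SV, Module.End.pow_restrict, LinearMap.coe_restrict_apply, D.hS]
  rfl

theorem card_mV_ne [Fintype (h.mV hχ)] : (Fintype.card (h.mV hχ) : k) ≠ 0 := by
  rw [← Nat.card_eq_fintype_card]
  refine D.dvd_card_ne_zero ((Subgroup.card_subgroup_dvd_card (h.mV hχ)).trans ?_)
  exact Subgroup.card_quotient_dvd_card _

include h in
theorem nontrivial_mV (hχ : ∀ t, χ (D.σ t) = χ t)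
    (hR : ∃ t, ∃ v ∈ D.space χ, D.ρ (t⁻¹ * D.σ t) v ≠ v) : Nontrivial (h.mV hχ) := by
  obtain ⟨t, v, hv, hne⟩ := hR
  by_contra hnt
  rw [not_nontrivial_iff_subsingleton] at hnt
  have hz : ∀ s, s⁻¹ * D.σ s ∈ h.zsub := fun s => by
    have h1 : h.autBar D.σ hχ (s : T ⧸ h.zsub) / (s : T ⧸ h.zsub) ∈ h.mV hχ := mem_moveG.2 ⟨_, rfl⟩
    have h2 := congrArg Subtype.val (hnt.elim ⟨_, h1⟩ 1)
    rw [Subgroup.coe_one, div_eq_one, autBar_mk] at h2
    exact QuotientGroup.eq.1 h2.symm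
  set z := t⁻¹ * D.σ t with hzd
  have hj : ∀ j : ℕ, χ (t⁻¹ * (D.σ ^ j) t) = χ z ^ j := by
    intro j
    induction j with
    | zero => simp [h.one]
    | succ j ih =>
      rw [show j + 1 = 1 + j by omega, D.σ_pow_add, pow_one,
        show t⁻¹ * D.σ ((D.σ ^ j) t) = z * D.σ (t⁻¹ * (D.σ ^ j) t) by rw [hzd, map_mul, map_inv]; group,
        h.mul _ _ (hz t), hχ, ih, pow_add, pow_one]
  have h1 : χ z ^ D.r = 1 := by rw [← hj, D.hσ, MulAut.one_apply, inv_mul_cancel, h.one]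
  have hpow : ∀ j : ℕ, χ (z ^ j) = χ z ^ j := fun j => by
    induction j with
    | zero => rw [pow_zero, pow_zero, h.one]
    | succ j ih => rw [pow_succ', h.mul _ _ (hz t), ih, pow_succ']
  obtain ⟨i, hi⟩ := D.hT z
  have h2 : χ z ^ D.p ^ i = 1 := by rw [← hpow, hi, h.one]
  have h3 := pow_gcd_eq_one.2 ⟨h1, h2⟩
  rw [(h.coprime_rp.pow_right i).gcd_eq_one, pow_one] at h3
  refine hne ?_
  rw [hv z (hz t), h3, one_smul]

include h in
theorem space_nontrivial : Nontrivial (D.space χ) := Submodule.nontrivial_iff_ne_bot.2 h.space_ne_bot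

variable [IsAlgClosed k] [FiniteDimensional k X]

/-- The number of eigenvalues of the operator on a fixed part bounds the moved part. -/
theorem card_mV_bound (hnt : Nontrivial (h.mV hχ)) {ζ : k} (hζ : IsPrimitiveRoot ζ D.r) (L : Finset (Fin D.r))
    (hL : ∀ b, b ∉ L → ∀ x ∈ D.space χ, D.S x = ζ ^ (b : ℕ) • x → x = 0) :
    ∃ n : ℕ, Nat.card (h.mV hχ) = n * n ∧ 2 ≤ n ∧ D.r ∣ n * n - 1 ∧
      D.r * (n * n) ≤ L.card * (n * n + (D.r - 1)) := by
  classical
  haveI := hnt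
  haveI := h.space_nontrivial
  haveI : NeZero D.r := ⟨D.hr.ne_zero⟩
  letI : Fintype (h.mV hχ) := Fintype.ofFinite _
  have hV := h.card_mV_ne hχ
  obtain ⟨U, hUinv, hUnt, hU, hUirr⟩ := exists_irr (h.isRep_M hχ)
  haveI := hUnt
  have hσs := h.semireg_σV hχ
  obtain ⟨F, hF, hFr⟩ := exists_impl hU hUirr hV (h.isRep_M hχ) (h.impl_SV hχ) D.hr.pos hσs.1 one_ne_zero
    ((h.SV_pow hχ).trans (one_smul k _).symm)
  have hdd := (h.impl_SV hχ).d_ne_zero (h.isRep_M hχ)
    (injective_of_pow_scalar D.hr.pos one_ne_zero ((h.SV_pow hχ).trans (one_smul k _).symm))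
  set T' := transOp (h.impl_SV hχ) hF D.hr.pos hdd hFr with hT'
  have happ : ∀ φ x, (T' φ).1 x = h.SV hχ (φ.1 ((F ^ (D.r - 1)) x)) := fun _ _ => rfl
  have hpow : ∀ (j : ℕ) φ x, ((T' ^ j) φ).1 x = (h.SV hχ ^ j) (φ.1 (((F ^ (D.r - 1)) ^ j) x)) := by
    intro j
    induction j with
    | zero => intros; rfl
    | succ j ih =>
      intro φ x
      rw [pow_succ' T', Module.End.mul_apply, happ, ih, pow_succ' (h.SV hχ), Module.End.mul_apply,
        pow_succ (F ^ (D.r - 1)), Module.End.mul_apply]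
  have hTr : T' ^ D.r = 1 := by
    refine LinearMap.ext fun φ => Subtype.ext (LinearMap.ext fun x => ?_)
    rw [hpow, h.SV_pow, ← pow_mul, Nat.mul_comm, pow_mul, hFr, one_pow]
    rfl
  obtain ⟨ι, hιf, cI, φ, hli, hspan, hφ⟩ :=
    exists_eigenbasis (X := homs (fun v => (h.M hχ v).restrict (hUinv v)) (h.M hχ)) D.hkr hTr hζ
  obtain ⟨i₀⟩ : Nonempty ι := by
    by_contra hne
    rw [not_nonempty_iff] at hne
    haveI := hne
    rw [Set.range_eq_empty, Submodule.span_empty] at hspan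
    obtain ⟨x, hx⟩ := exists_ne (0 : U)
    have h1 : (⟨U.subtype, fun b y => rfl⟩ :
        homs (fun v => (h.M hχ v).restrict (hUinv v)) (h.M hχ)) = 0 := by
      simpa using hspan (Submodule.mem_top : _ ∈ ⊤)
    exact hx (Subtype.ext (LinearMap.congr_fun (congrArg Subtype.val h1) x))
  have hinj : Function.Injective (φ i₀).1 :=
    hU.intertwiner_injective hUirr (φ i₀).2 fun h0 => hli.ne_zero i₀ (Subtype.ext h0)
  have hS : ∀ x, h.SV hχ ((φ i₀).1 x) = ζ ^ (cI i₀ : ℕ) • (φ i₀).1 (F x) := by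
    intro x
    have h2 := LinearMap.congr_fun (congrArg Subtype.val (hφ i₀)) (F x)
    rw [happ, ← Module.End.mul_apply, ← pow_succ, Nat.sub_add_cancel D.hr.pos, hFr] at h2
    exact h2
  set dd : Fin D.r → ℕ := fun b => Module.finrank k (Turull.eig F (ζ ^ (b : ℕ)))
  set L' := L.image (fun b => b - cI i₀) with hL'
  have hsupp : ∀ b, b ∉ L' → dd b = 0 := by
    intro b hb
    simp only [dd]
    rw [Submodule.finrank_eq_zero, Submodule.eq_bot_iff]
    intro x hx
    rw [mem_eig] at hx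
    apply hinj
    rw [map_zero]
    refine Subtype.ext ?_
    refine hL (b + cI i₀) (fun hm => hb (Finset.mem_image.2 ⟨_, hm, add_sub_cancel_right _ _⟩)) _
      ((φ i₀).1 x).2 ?_
    have h3 := congrArg Subtype.val (hS x)
    rw [hx, map_smul, smul_smul] at h3
    rw [show ζ ^ ((b + cI i₀ : Fin D.r) : ℕ) = ζ ^ (cI i₀ : ℕ) * ζ ^ (b : ℕ) by
      rw [Fin.val_add, ← pow_eq_pow_mod _ hζ.pow_eq_one, pow_add, mul_comm]]
    exact h3
  obtain ⟨h1, h2⟩ := semireg_bound hU hUirr hV hσs D.hr D.hkr hF hFr hζ (θ := 1) (o := 1) (dg := fun _ => 1)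
    (g := 1) (cg := 1) ⟨one_pow _, fun i hi => absurd (one_dvd i) hi⟩ Nat.one_pos (Commute.one_right _)
    (Nat.coprime_one_right _) (fun v => by simp [MulAut.one_apply]) (by simp) one_ne_zero (by simp) (Or.inl (by simp))
  simp only [one_mul, mul_one] at h1 h2
  have hsum : ∑ b, dd b = Module.finrank k U := sum_finrank_eig D.hkr hFr hζ
  have hsum' : ∑ b ∈ L', dd b = Module.finrank k U := by
    rw [← hsum]
    exact Finset.sum_subset (Finset.subset_univ _) fun b _ hb => hsupp b hb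
  have hcs : Module.finrank k U * Module.finrank k U ≤ L.card * ∑ b, dd b * dd b := by
    have hc := sq_sum_le_card_mul_sum_sq (s := L') (f := dd)
    rw [hsum', pow_two] at hc
    simp only [pow_two] at hc
    refine hc.trans (Nat.mul_le_mul Finset.card_image_le ?_)
    exact Finset.sum_le_sum_of_subset (Finset.subset_univ _)
  refine ⟨Module.finrank k U, hU.card_eq hUirr hV, two_le_finrank hU hUirr hV, ?_, ?_⟩
  · rw [← hU.card_eq hUirr hV]; exact hσs.dvd_card_sub_one D.hr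
  · calc D.r * (Module.finrank k U * Module.finrank k U) ≤ D.r * (L.card * ∑ b, dd b * dd b) :=
          Nat.mul_le_mul_left _ hcs
      _ = L.card * (D.r * ∑ b, dd b * dd b) := by ring
      _ ≤ _ := Nat.mul_le_mul_left _ ((Nat.mul_le_mul_left _ (Finset.sum_le_sum fun b _ => h2 b)).trans h1)

end Sys.IsComp

theorem le_succ_of_dvd_sq_sub_one {r n : ℕ} (hr : r.Prime) (hn : 2 ≤ n) (h : r ∣ n * n - 1) : r ≤ n + 1 := by
  have e : n * n - 1 = (n + 1) * (n - 1) := by
    have := Nat.sq_sub_sq n 1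
    simpa [pow_two] using this
  rw [e] at h
  rcases hr.dvd_mul.1 h with h' | h'
  · exact Nat.le_of_dvd (by omega) h'
  · have := Nat.le_of_dvd (by omega) h'
    omega

namespace Sys

variable [IsAlgClosed k] [FiniteDimensional k X] {D : Sys k T X} {χ : T → k}

/-- The shape of a fixed part moved inside without fixed vectors. -/
theorem inert_shape (h : D.IsComp χ) (hχ : ∀ t, χ (D.σ t) = χ t)
    (hR : ∃ t, ∃ v ∈ D.space χ, D.ρ (t⁻¹ * D.σ t) v ≠ v) (hE : ∀ v ∈ D.space χ, D.S v = v → v = 0) :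
    D.p = 2 ∧ ∃ m : ℕ, 1 ≤ m ∧ D.r = 2 ^ m + 1 ∧ Nat.card (h.mV hχ) = 2 ^ (2 * m) := by
  classical
  haveI : NeZero D.r := ⟨D.hr.ne_zero⟩
  obtain ⟨ζ, hζ⟩ := exists_primitive (k := k) (N := D.r) D.hkr
  obtain ⟨n, hn, hn2, hdvd, hb⟩ := h.card_mV_bound hχ (h.nontrivial_mV hχ hR) hζ
    (Finset.univ.erase 0) (fun b hb x hx hxS => by
      obtain rfl : b = 0 := by simpa using hb
      exact hE x hx (by simpa using hxS))
  rw [Finset.card_erase_of_mem (Finset.mem_univ _), Finset.card_univ, Fintype.card_fin] at hb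
  have hrn := le_succ_of_dvd_sq_sub_one D.hr hn2 hdvd
  obtain ⟨R, hR'⟩ : ∃ R, D.r = R + 1 := ⟨D.r - 1, by have := D.hr.pos; omega⟩
  rw [hR', Nat.add_sub_cancel] at hb
  have hle : n * n ≤ R * R := by nlinarith
  have hnR : n = R := le_antisymm (Nat.mul_self_le_mul_self_iff.1 hle) (by omega)
  haveI := Fact.mk D.hp
  obtain ⟨j, hj⟩ := IsPGroup.iff_card.1 (h.isPGroup_mV hχ)
  rw [hn] at hj
  obtain ⟨m, -, hm⟩ := (Nat.dvd_prime_pow D.hp).1 (Dvd.intro n hj)
  have hp2 : D.p = 2 := by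
    by_contra hne
    have ho : Odd n := hm ▸ (D.hp.odd_of_ne_two hne).pow
    have hev : Even D.r := by rw [hR', ← hnR]; exact ho.add_one
    have := (D.hr.even_iff).1 hev
    omega
  refine ⟨hp2, m, ?_, ?_, ?_⟩
  · by_contra hm0
    rw [show m = 0 by omega, pow_zero] at hm
    omega
  · rw [hR', ← hnR, hm, hp2]
  · rw [hn, hm, hp2, ← pow_add, two_mul]

end Sys

end CfsgLib.Turull
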