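import Cfsg.Agent.Turull.Heis
import Mathlib.RingTheory.RootsOfUnity.AlgebraicallyClosed
import Mathlib.Algebra.Field.GeomSum
import Mathlib.FieldTheory.IsSepClosed
import Mathlib.Algebra.CharP.Lemmas
import Mathlib.Algebra.CharP.Algebra
import Mathlib.Algebra.Order.Chebyshev

/-!
Dimensions of centralizers of operators of finite order, and the orbit bound in a twisted group algebra.
-/

set_option autoImplicit false
set_option linter.style.haveILetI false
set_option linter.unusedSectionVars false

namespace CfsgLib.Turull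

variable {k : Type*} [Field k] {W : Type*} [AddCommGroup W] [Module k W]

/-- The operators commuting with a given one. -/
def cent (g : Module.End k W) : Submodule k (Module.End k W) where
  carrier := {a | a * g = g * a}
  add_mem' := fun {a b} ha hb => by
    show (a + b) * g = g * (a + b)
    rw [add_mul, mul_add, show a * g = g * a from ha, show b * g = g * b from hb]
  zero_mem' := by simp
  smul_mem' := fun c a ha => by
    show (c • a) * g = g * (c • a)
    rw [smul_mul_assoc, mul_smul_comm, show a * g = g * a from ha]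

theorem mem_cent {g a : Module.End k W} : a ∈ cent g ↔ a * g = g * a := Iff.rfl

/-- The spectral projections of an operator of finite order. -/
noncomputable def specProj (G : Module.End k W) (N : ℕ) (ζ : k) (i : Fin N) : Module.End k W :=
  (N : k)⁻¹ • ∑ j : Fin N, (ζ⁻¹) ^ ((i : ℕ) * (j : ℕ)) • G ^ (j : ℕ)

/-- An eigenspace of an operator of finite order. -/
def eig (G : Module.End k W) (μ : k) : Submodule k W := LinearMap.ker (G - μ • 1)

theorem mem_eig {G : Module.End k W} {μ : k} {x : W} : x ∈ eig G μ ↔ G x = μ • x := by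
  simp [eig, sub_eq_zero]

section Spec

variable {G : Module.End k W} {N : ℕ} {ζ : k}

theorem specProj_apply_mem (hG : G ^ N = 1) (hζ : IsPrimitiveRoot ζ N) (i : Fin N) (x : W) :
    specProj G N ζ i x ∈ eig G (ζ ^ (i : ℕ)) := by
  rw [mem_eig]
  set u : ℕ → W := fun j => (ζ⁻¹) ^ ((i : ℕ) * j) • (G ^ j) x with hu
  have hsum : specProj G N ζ i x = (N : k)⁻¹ • ∑ j ∈ Finset.range N, u j := by
    rw [Finset.sum_range]; simp [specProj, hu, LinearMap.sum_apply]
  have hN : 0 < N := i.pos
  have hne : ζ ≠ 0 := hζ.ne_zero (by omega)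
  have h1 : ∀ j, G (u j) = ζ ^ (i : ℕ) • u (j + 1) := by
    intro j
    simp only [hu, map_smul, smul_smul]
    rw [← Module.End.mul_apply, ← pow_succ', Nat.mul_succ, pow_add (ζ⁻¹), mul_comm ((ζ⁻¹) ^ _), ← mul_assoc,
      ← mul_pow, mul_inv_cancel₀ hne, one_pow, one_mul]
  have hwrap : u N = u 0 := by
    simp only [hu, Nat.mul_zero, pow_zero, one_smul, hG]
    rw [Nat.mul_comm, pow_mul, inv_pow, hζ.pow_eq_one, inv_one, one_pow, one_smul]
  have h2 : ∑ j ∈ Finset.range N, u (j + 1) = ∑ j ∈ Finset.range N, u j := by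
    have a1 := Finset.sum_range_succ u N
    rw [Finset.sum_range_succ' u N, hwrap] at a1
    exact add_right_cancel a1
  rw [hsum, map_smul, map_sum, Finset.sum_congr rfl fun j _ => h1 j, ← Finset.smul_sum, h2, smul_comm]

theorem sum_specProj (hN : (N : k) ≠ 0) (hζ : IsPrimitiveRoot ζ N) (x : W) :
    ∑ i, specProj G N ζ i x = x := by
  simp only [specProj, LinearMap.smul_apply, LinearMap.sum_apply, ← Finset.smul_sum]
  rw [Finset.sum_comm]
  have hN' : 0 < N := Nat.pos_of_ne_zero fun h => hN (by simp [h])
  rw [Finset.sum_eq_single (⟨0, hN'⟩ : Fin N) (fun j _ hj => ?_) (fun h => absurd (Finset.mem_univ _) h)]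
  · simp only [Nat.mul_zero, pow_zero, one_smul, Module.End.one_apply, Finset.sum_const, Finset.card_univ,
      Fintype.card_fin]
    rw [← Nat.cast_smul_eq_nsmul k, smul_smul, inv_mul_cancel₀ hN, one_smul]
  · rw [← Finset.sum_smul]
    have hj' : (j : ℕ) ≠ 0 := fun h => hj (Fin.ext h)
    have hpr : (ζ⁻¹) ^ (j : ℕ) ≠ 1 := by
      rw [inv_pow, Ne, inv_eq_one]
      exact hζ.pow_ne_one_of_pos_of_lt hj' j.2
    have h1 : ∑ i : Fin N, (ζ⁻¹) ^ ((i : ℕ) * (j : ℕ)) = 0 := by
      rw [← Finset.sum_range (fun i => (ζ⁻¹) ^ (i * (j : ℕ)))]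
      simp only [Nat.mul_comm _ (j : ℕ), pow_mul]
      rw [geom_sum_eq hpr, ← pow_mul, Nat.mul_comm, pow_mul, inv_pow, hζ.pow_eq_one, inv_one, one_pow,
        sub_self, zero_div]
    rw [h1, zero_smul]

theorem specProj_of_mem (hN : (N : k) ≠ 0) (hG : G ^ N = 1) (hζ : IsPrimitiveRoot ζ N) (i l : Fin N) {x : W}
    (hx : x ∈ eig G (ζ ^ (l : ℕ))) : specProj G N ζ i x = if i = l then x else 0 := by
  classical
  rw [mem_eig] at hx
  have hpow : ∀ j : ℕ, (G ^ j) x = (ζ ^ (l : ℕ)) ^ j • x := by
    intro j
    induction j with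
    | zero => simp
    | succ j ih => rw [pow_succ', Module.End.mul_apply, ih, map_smul, hx, smul_smul, ← pow_succ]
  simp only [specProj, LinearMap.smul_apply, LinearMap.sum_apply, hpow, smul_smul, ← Finset.sum_smul]
  have h : ∑ j : Fin N, (ζ⁻¹) ^ ((i : ℕ) * (j : ℕ)) * (ζ ^ (l : ℕ)) ^ (j : ℕ) =
      if i = l then (N : k) else 0 := by
    simp only [pow_mul, ← mul_pow]
    rw [← Finset.sum_range (fun j => ((ζ⁻¹) ^ (i : ℕ) * ζ ^ (l : ℕ)) ^ j)]
    split
    next hil => simp [hil, inv_mul_cancel₀ (pow_ne_zero (l : ℕ) (hζ.ne_zero (i.pos.ne')))]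
    next hil =>
      have hne : (ζ⁻¹) ^ (i : ℕ) * ζ ^ (l : ℕ) ≠ 1 := by
        rw [inv_pow, Ne, inv_mul_eq_one₀ (pow_ne_zero _ (hζ.ne_zero (i.pos.ne')))]
        exact fun h => hil (Fin.ext (hζ.pow_inj i.2 l.2 h))
      rw [geom_sum_eq hne, mul_pow, ← pow_mul, ← pow_mul, Nat.mul_comm, pow_mul, inv_pow, hζ.pow_eq_one,
        inv_one, one_pow, one_mul, Nat.mul_comm, pow_mul, hζ.pow_eq_one, one_pow, sub_self, zero_div]
  rw [h]
  split
  · rw [inv_mul_cancel₀ hN, one_smul]
  · rw [mul_zero, zero_smul]

variable [FiniteDimensional k W]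

/-- The eigenspaces fill the space. -/
theorem sum_finrank_eig (hN : (N : k) ≠ 0) (hG : G ^ N = 1) (hζ : IsPrimitiveRoot ζ N) :
    ∑ i : Fin N, Module.finrank k (eig G (ζ ^ (i : ℕ))) = Module.finrank k W := by
  classical
  let e : W ≃ₗ[k] (Π i : Fin N, eig G (ζ ^ (i : ℕ))) :=
    LinearEquiv.ofLinear
      (LinearMap.pi fun i => (specProj G N ζ i).codRestrict _ (specProj_apply_mem hG hζ i))
      (∑ i : Fin N, (eig G (ζ ^ (i : ℕ))).subtype.comp (LinearMap.proj i))
      (by
        refine LinearMap.ext fun f => funext fun i => Subtype.ext ?_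
        simp only [LinearMap.comp_apply, LinearMap.pi_apply, LinearMap.codRestrict_apply, LinearMap.sum_apply,
          Submodule.coe_subtype, LinearMap.proj_apply, LinearMap.id_apply, map_sum]
        rw [Finset.sum_eq_single i (fun l _ hl => ?_) (fun h => absurd (Finset.mem_univ _) h)]
        · exact (specProj_of_mem hN hG hζ i i (f i).2).trans (if_pos rfl)
        · exact Subtype.ext ((specProj_of_mem hN hG hζ i l (f l).2).trans (if_neg (Ne.symm hl))))
      (by
        refine LinearMap.ext fun x => ?_
        simp only [LinearMap.comp_apply, LinearMap.sum_apply, LinearMap.pi_apply, LinearMap.codRestrict_apply,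
          Submodule.coe_subtype, LinearMap.proj_apply, LinearMap.id_apply]
        exact sum_specProj hN hζ x)
  rw [e.finrank_eq, Module.finrank_pi_fintype]

theorem mapsTo_eig {g : Module.End k W} (hg : g * G = G * g) (μ : k) : ∀ x ∈ eig G μ, g x ∈ eig G μ := by
  intro x hx
  rw [mem_eig] at hx ⊢
  rw [← Module.End.mul_apply, ← hg, Module.End.mul_apply, hx, map_smul]

/-- The blocks of the centralizer. -/
theorem sum_finrank_cent_le (hN : (N : k) ≠ 0) (hG : G ^ N = 1) (hζ : IsPrimitiveRoot ζ N)
    {g : Module.End k W} (hg : g * G = G * g) :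
    ∑ i : Fin N, Module.finrank k (cent (g.restrict (mapsTo_eig hg (ζ ^ (i : ℕ))))) ≤
      Module.finrank k ↥(cent G ⊓ cent g) := by
  classical
  have hPg : ∀ i x, specProj G N ζ i (g x) = g (specProj G N ζ i x) := fun i x => by
    have hp : ∀ j : ℕ, (G ^ j) (g x) = g ((G ^ j) x) := fun j =>
      LinearMap.congr_fun (Commute.pow_left (show Commute G g from hg.symm) j).eq x
    simp [specProj, LinearMap.sum_apply, hp]
  let F : (Π i : Fin N, cent (g.restrict (mapsTo_eig hg (ζ ^ (i : ℕ))))) →ₗ[k] Module.End k W :=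
    { toFun := fun a => ∑ i : Fin N, (eig G (ζ ^ (i : ℕ))).subtype ∘ₗ (a i).1 ∘ₗ
        (specProj G N ζ i).codRestrict _ (specProj_apply_mem hG hζ i)
      map_add' := fun a b => by
        simp only [Pi.add_apply, Submodule.coe_add, LinearMap.add_comp, LinearMap.comp_add, Finset.sum_add_distrib]
      map_smul' := fun c a => by
        simp only [Pi.smul_apply, SetLike.val_smul, LinearMap.smul_comp, LinearMap.comp_smul, Finset.smul_sum,
          RingHom.id_apply] }
  have hFapp : ∀ a x, F a x = ∑ i : Fin N, (((a i).1 ⟨_, specProj_apply_mem hG hζ i x⟩ : eig G (ζ ^ (i : ℕ))) : W) :=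
    fun a x => by simp [F, LinearMap.sum_apply, LinearMap.codRestrict]
  have hmem : ∀ a, F a ∈ cent G ⊓ cent g := by
    intro a
    refine ⟨?_, ?_⟩
    · show F a * G = G * F a
      refine LinearMap.ext fun x => ?_
      rw [Module.End.mul_apply, Module.End.mul_apply, hFapp, hFapp, map_sum]
      refine Finset.sum_congr rfl fun i _ => ?_
      rw [mem_eig.1 ((a i).1 _).2]
      have hGi : specProj G N ζ i (G x) = ζ ^ (i : ℕ) • specProj G N ζ i x := by
        have hp : specProj G N ζ i (G x) = G (specProj G N ζ i x) := by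
          have hp : ∀ j : ℕ, (G ^ j) (G x) = G ((G ^ j) x) := fun j =>
            LinearMap.congr_fun (Commute.pow_left (Commute.refl G) j).eq x
          simp [specProj, LinearMap.sum_apply, hp]
        rw [hp, mem_eig.1 (specProj_apply_mem hG hζ i x)]
      rw [← Submodule.coe_smul, ← map_smul]
      congr 2
      exact Subtype.ext hGi
    · show F a * g = g * F a
      refine LinearMap.ext fun x => ?_
      rw [Module.End.mul_apply, Module.End.mul_apply, hFapp, hFapp, map_sum]
      refine Finset.sum_congr rfl fun i _ => ?_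
      have h2 := congrArg Subtype.val (LinearMap.congr_fun (a i).2 ⟨_, specProj_apply_mem hG hζ i x⟩)
      simp only [Module.End.mul_apply, LinearMap.coe_restrict_apply] at h2
      rw [← h2]
      congr 2
      exact Subtype.ext (hPg i x)
  have hinj : Function.Injective (F.codRestrict _ hmem) := by
    intro a b hab
    funext i
    refine Subtype.ext (LinearMap.ext fun y => Subtype.ext ?_)
    have := LinearMap.congr_fun (congrArg Subtype.val hab) (y : W)
    simp only [LinearMap.codRestrict_apply, hFapp] at this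
    have key : ∀ c : Π i : Fin N, cent (g.restrict (mapsTo_eig hg (ζ ^ (i : ℕ)))),
        ∑ l : Fin N, (((c l).1 ⟨_, specProj_apply_mem hG hζ l (y : W)⟩ : eig G (ζ ^ (l : ℕ))) : W) =
          ((c i).1 y : eig G (ζ ^ (i : ℕ))) := by
      intro c
      rw [Finset.sum_eq_single i (fun l _ hl => ?_) (fun h => absurd (Finset.mem_univ _) h)]
      · congr 2
        exact Subtype.ext ((specProj_of_mem hN hG hζ i i y.2).trans (if_pos rfl))
      · have : (⟨_, specProj_apply_mem hG hζ l (y : W)⟩ : eig G (ζ ^ (l : ℕ))) = 0 :=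
          Subtype.ext ((specProj_of_mem hN hG hζ l i y.2).trans (if_neg hl))
        rw [this, map_zero]; rfl
    rwa [key, key] at this
  calc _ = Module.finrank k (Π i : Fin N, cent (g.restrict (mapsTo_eig hg (ζ ^ (i : ℕ))))) :=
        (Module.finrank_pi_fintype k).symm
    _ ≤ _ := LinearMap.finrank_le_finrank_of_injective hinj

end Spec

theorem exists_primitive [IsAlgClosed k] {N : ℕ} (hN : (N : k) ≠ 0) : ∃ ζ : k, IsPrimitiveRoot ζ N := by
  haveI : NeZero (N : k) := ⟨hN⟩
  haveI : NeZero N := NeZero.of_neZero_natCast k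
  haveI : IsSepClosed k := inferInstance
  exact HasEnoughRootsOfUnity.exists_primitiveRoot k N

theorem finrank_cent_of_scalar [FiniteDimensional k W] {g : Module.End k W} {c : k} (h : g = c • 1) :
    Module.finrank k (cent g) = Module.finrank k W * Module.finrank k W := by
  have : cent g = ⊤ := eq_top_iff.2 fun a _ => by
    rw [mem_cent, h, mul_smul_comm, smul_mul_assoc, mul_one, one_mul]
  rw [this, finrank_top]
  exact Module.finrank_linearMap k k W W

theorem finrank_cent_pos [FiniteDimensional k W] (g : Module.End k W) (hd : 0 < Module.finrank k W) :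
    0 < Module.finrank k (cent g) := by
  haveI : Nontrivial W := Module.nontrivial_of_finrank_pos hd
  rw [Module.finrank_pos_iff]
  refine Submodule.nontrivial_iff_ne_bot.2 fun h => ?_
  exact one_ne_zero ((Submodule.eq_bot_iff _).1 h (1 : Module.End k W) (by rw [mem_cent, one_mul, mul_one]))

theorem two_le_finrank_cent [FiniteDimensional k W] (g : Module.End k W) (hd : 2 ≤ Module.finrank k W) :
    2 ≤ Module.finrank k (cent g) := by
  by_cases hs : ∃ c : k, g = c • 1
  · obtain ⟨c, hc⟩ := hs
    rw [finrank_cent_of_scalar hc]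
    nlinarith
  push Not at hs
  haveI : Nontrivial W := Module.nontrivial_of_finrank_pos (by omega : 0 < Module.finrank k W)
  let v : Fin 2 → cent g :=
    ![⟨1, by rw [mem_cent, one_mul, mul_one]⟩, ⟨g, by rw [mem_cent]⟩]
  have hli : LinearIndependent k v := by
    rw [LinearIndependent.pair_iff]
    intro s t hst
    have h := congrArg Subtype.val hst
    simp only [Submodule.coe_add, SetLike.val_smul, ZeroMemClass.coe_zero] at h
    by_cases ht : t = 0
    · subst ht
      simp only [zero_smul, add_zero] at h
      exact ⟨(smul_eq_zero.1 h).resolve_right one_ne_zero, rfl⟩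
    · exfalso
      refine hs (-(t⁻¹ * s)) ?_
      have h1 := congrArg (fun z => t⁻¹ • z) h
      simp only [smul_add, smul_smul, inv_mul_cancel₀ ht, one_smul, smul_zero] at h1
      rw [neg_smul]
      exact eq_neg_of_add_eq_zero_right h1
  simpa using hli.fintype_card_le_finrank

/-- A kernel is at least a fixed proportion of a space annihilated by a power. -/
theorem finrank_le_mul_ker {X : Type*} [AddCommGroup X] [Module k X] [FiniteDimensional k X]
    (A : Module.End k X) {o : ℕ} (ho : A ^ o = 0) :
    Module.finrank k X ≤ o * Module.finrank k (LinearMap.ker A) := by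
  have key : ∀ i : ℕ, Module.finrank k (LinearMap.ker (A ^ i)) ≤ i * Module.finrank k (LinearMap.ker A) := by
    intro i
    induction i with
    | zero => simp [Module.End.one_eq_id, LinearMap.ker_id]
    | succ i ih =>
      set f := A.domRestrict (LinearMap.ker (A ^ (i + 1))) with hf
      have h1 := f.finrank_range_add_finrank_ker
      have h2 : Module.finrank k (LinearMap.range f) ≤ Module.finrank k (LinearMap.ker (A ^ i)) := by
        refine Submodule.finrank_mono ?_
        rintro _ ⟨x, rfl⟩
        rw [LinearMap.mem_ker, hf, LinearMap.domRestrict_apply, ← Module.End.mul_apply, ← pow_succ]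
        exact x.2
      have h3 : Module.finrank k (LinearMap.ker f) ≤ Module.finrank k (LinearMap.ker A) := by
        let e : LinearMap.ker f →ₗ[k] LinearMap.ker A :=
          { toFun := fun x => ⟨((x : LinearMap.ker (A ^ (i + 1))) : X), LinearMap.mem_ker.1 x.2⟩
            map_add' := fun _ _ => rfl
            map_smul' := fun _ _ => rfl }
        exact LinearMap.finrank_le_finrank_of_injective (f := e) fun a b hab =>
          Subtype.ext (Subtype.ext (congrArg Subtype.val hab :))
      rw [Nat.succ_mul]
      omega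
  have := key o
  rwa [ho, LinearMap.ker_zero, finrank_top] at this

/-- An operator with a scalar power of order `o` has a large centralizer. -/
theorem sq_le_mul_finrank_cent [IsAlgClosed k] [FiniteDimensional k W] {g : Module.End k W} {o : ℕ} {c : k}
    (hc : c ≠ 0) (ho : 0 < o) (hg : g ^ o = c • 1)
    (hchar : (o : k) ≠ 0 ∨ ∃ q e : ℕ, q.Prime ∧ CharP k q ∧ o = q ^ e) :
    Module.finrank k W * Module.finrank k W ≤ o * Module.finrank k (cent g) := by
  classical
  rcases hchar with hok | ⟨q, e, hq, hqk, rfl⟩
  · obtain ⟨l, hl⟩ := IsAlgClosed.exists_pow_nat_eq c ho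
    have hl0 : l ≠ 0 := fun h => hc (by rw [← hl, h, zero_pow ho.ne'])
    set G := l⁻¹ • g with hG
    have hGo : G ^ o = 1 := by
      rw [hG, smul_pow, hg, smul_smul, inv_pow, hl, inv_mul_cancel₀ hc, one_smul]
    have hcent : cent G = cent g := by
      refine le_antisymm (fun a ha => ?_) fun a ha => ?_
      · rw [mem_cent] at ha ⊢
        rw [hG, mul_smul_comm, smul_mul_assoc] at ha
        exact (smul_right_injective _ (inv_ne_zero hl0) : Function.Injective (fun z : Module.End k W => l⁻¹ • z)) ha
      · rw [mem_cent] at ha ⊢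
        rw [hG, mul_smul_comm, smul_mul_assoc, ha]
    obtain ⟨ζ, hζ⟩ := exists_primitive hok
    have h1 : (1 : Module.End k W) * G = G * 1 := by rw [one_mul, mul_one]
    have h2 := sum_finrank_cent_le hok hGo hζ h1
    rw [show cent (1 : Module.End k W) = ⊤ from
      eq_top_iff.2 fun a _ => by rw [mem_cent, one_mul, mul_one], inf_top_eq, hcent] at h2
    have h3 : ∀ i : Fin o, Module.finrank k (cent ((1 : Module.End k W).restrict
        (mapsTo_eig h1 (ζ ^ (i : ℕ))))) =
        Module.finrank k (eig G (ζ ^ (i : ℕ))) * Module.finrank k (eig G (ζ ^ (i : ℕ))) := fun i => by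
      refine finrank_cent_of_scalar (c := 1) ?_
      rw [one_smul]
      exact LinearMap.ext fun x => Subtype.ext rfl
    rw [Finset.sum_congr rfl fun i _ => h3 i] at h2
    refine le_trans ?_ (Nat.mul_le_mul_left o h2)
    rw [← sum_finrank_eig hok hGo hζ]
    have := sq_sum_le_card_mul_sum_sq (s := (Finset.univ : Finset (Fin o)))
      (f := fun i => Module.finrank k (eig G (ζ ^ (i : ℕ))))
    simpa [sq, Finset.card_univ] using this
  · haveI := Fact.mk hq
    haveI := hqk
    rcases subsingleton_or_nontrivial W with hW | hW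
    · simp [Module.finrank_zero_of_subsingleton]
    set h := c⁻¹ • g ^ (q ^ e - 1) with hh
    have hgh : g * h = 1 := by
      rw [hh, mul_smul_comm, ← pow_succ', Nat.sub_add_cancel ho, hg, smul_smul, inv_mul_cancel₀ hc, one_smul]
    have hhg : h * g = 1 := by
      rw [hh, smul_mul_assoc, ← pow_succ, Nat.sub_add_cancel ho, hg, smul_smul, inv_mul_cancel₀ hc, one_smul]
    let Θ : Module.End k (Module.End k W) :=
      { toFun := fun a => g * a * h
        map_add' := fun a b => by rw [mul_add, add_mul]
        map_smul' := fun r a => by simp [mul_smul_comm, smul_mul_assoc] }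
    have hpow : ∀ j : ℕ, ∀ a, (Θ ^ j) a = g ^ j * a * h ^ j := by
      intro j
      induction j with
      | zero => intro a; simp
      | succ j ih =>
        intro a
        rw [pow_succ', Module.End.mul_apply, ih]
        show g * (g ^ j * a * h ^ j) * h = _
        rw [pow_succ' g, pow_succ h]
        simp only [mul_assoc]
    have hΘ : Θ ^ q ^ e = 1 := by
      refine LinearMap.ext fun a => ?_
      rw [hpow, hg, Module.End.one_apply, smul_mul_assoc, one_mul, smul_mul_assoc]
      have h1 : g ^ q ^ e * h ^ q ^ e = 1 := by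
        rw [← (show Commute g h from hgh.trans hhg.symm).mul_pow, hgh, one_pow]
      rw [hg, smul_mul_assoc, one_mul] at h1
      rw [← mul_smul_comm, h1, mul_one]
    haveI : Nontrivial (Module.End k W) := inferInstance
    haveI : CharP (Module.End k (Module.End k W)) q :=
      charP_of_injective_algebraMap (algebraMap k (Module.End k (Module.End k W))).injective q
    have hnil : (Θ - 1) ^ q ^ e = 0 := by
      rw [sub_pow_char_pow_of_commute (R := Module.End k (Module.End k W)) _ _ (Commute.one_right Θ), one_pow, hΘ, sub_self]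
    refine le_trans (le_of_eq (Module.finrank_linearMap k k W W).symm) ?_
    refine (finrank_le_mul_ker _ hnil).trans (Nat.mul_le_mul_left _ (Submodule.finrank_mono fun a ha => ?_))
    rw [LinearMap.mem_ker, LinearMap.sub_apply, Module.End.one_apply, sub_eq_zero] at ha
    rw [mem_cent]
    conv_lhs => rw [← ha]
    show g * a * h * g = g * a
    rw [mul_assoc, hhg, mul_one]

/-- A scalar plus a map of rank one has a large centralizer. -/
theorem finrank_cent_rank_one [FiniteDimensional k W] {g : Module.End k W} {c : k} (φ : W →ₗ[k] k) (x : W)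
    (hg : g = c • 1 + φ.smulRight x) (hd : 0 < Module.finrank k W) :
    Module.finrank k W * Module.finrank k W + 2 ≤ Module.finrank k (cent g) + 2 * Module.finrank k W := by
  by_cases hz : φ.smulRight x = 0
  · rw [hz, add_zero] at hg
    rw [finrank_cent_of_scalar hg]
    omega
  have hx : x ≠ 0 := fun h => hz (by rw [h]; ext; simp)
  haveI : Nontrivial W := Module.nontrivial_of_finrank_pos hd
  obtain ⟨y₀, hy₀⟩ : ∃ y, φ y ≠ 0 := by
    by_contra h0
    push Not at h0
    exact hz (LinearMap.ext fun y => by simp [h0])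
  obtain ⟨ψ₀, hψ₀⟩ : ∃ ψ : W →ₗ[k] k, ψ x ≠ 0 := by
    by_contra h0
    push Not at h0
    exact hx ((Module.forall_dual_apply_eq_zero_iff k x).1 h0)
  set E₁ : Submodule k (Module.End k W) := LinearMap.ker (LinearMap.applyₗ x : Module.End k W →ₗ[k] W)
    with hE₁
  let cmp : Module.End k W →ₗ[k] (W →ₗ[k] k) :=
    { toFun := fun a => φ.comp a
      map_add' := fun a b => by ext; simp
      map_smul' := fun r a => by ext; simp }
  let tst : Module.End k W →ₗ[k] k := φ.comp (LinearMap.applyₗ x)
  set E₂ : Submodule k (Module.End k W) := LinearMap.ker cmp with hE₂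
  have hdim : Module.finrank k (Module.End k W) = Module.finrank k W * Module.finrank k W :=
    Module.finrank_linearMap k k W W
  have a1 : Module.finrank k W * Module.finrank k W ≤ Module.finrank k E₁ + Module.finrank k W := by
    have h0 := LinearMap.finrank_range_add_finrank_ker (K := k)
      (LinearMap.applyₗ x : Module.End k W →ₗ[k] W)
    have h0' := Submodule.finrank_le (LinearMap.range (LinearMap.applyₗ x : Module.End k W →ₗ[k] W))
    rw [← hdim]
    change _ + Module.finrank k E₁ = _ at h0
    change Module.finrank k (Module.End k W) ≤ _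
    linarith
  have a2 : Module.finrank k W * Module.finrank k W ≤ Module.finrank k E₂ + Module.finrank k W := by
    have h0 := LinearMap.finrank_range_add_finrank_ker (K := k) cmp
    have h0' := Submodule.finrank_le (LinearMap.range cmp)
    have h0'' : Module.finrank k (W →ₗ[k] k) = Module.finrank k W := Subspace.dual_finrank_eq
    rw [← hdim]
    change _ + Module.finrank k E₂ = Module.finrank k (Module.End k W) at h0
    linarith
  have a3 : Module.finrank k ↥(E₁ ⊔ E₂) < Module.finrank k W * Module.finrank k W := by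
    rw [← hdim]
    refine Submodule.finrank_lt fun h => ?_
    have hle : E₁ ⊔ E₂ ≤ LinearMap.ker tst := by
      refine sup_le (fun a ha => ?_) fun a ha => ?_
      · show φ (a x) = 0
        rw [show a x = 0 from ha, map_zero]
      · exact LinearMap.congr_fun (LinearMap.mem_ker.1 ha) x
    have := hle (h.symm ▸ Submodule.mem_top : ψ₀.smulRight y₀ ∈ E₁ ⊔ E₂)
    rw [LinearMap.mem_ker] at this
    simp [tst, hy₀, hψ₀] at this
  have a4 := Submodule.finrank_sup_add_finrank_inf_eq E₁ E₂
  have hlt : E₁ ⊓ E₂ < (E₁ ⊓ E₂) ⊔ Submodule.span k {(1 : Module.End k W)} := by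
    refine lt_of_le_of_ne le_sup_left fun h => ?_
    have h1 : (1 : Module.End k W) ∈ E₁ ⊓ E₂ := h ▸ Submodule.mem_sup_right (Submodule.mem_span_singleton_self _)
    exact hx h1.1
  have hle : (E₁ ⊓ E₂) ⊔ Submodule.span k {(1 : Module.End k W)} ≤ cent g := by
    refine sup_le ?_ ((Submodule.span_singleton_le_iff_mem _ _).2 (by rw [mem_cent, one_mul, mul_one]))
    rintro a ⟨ha1, ha2⟩
    have h0 : a x = 0 := ha1
    have h0' : ∀ y, φ (a y) = 0 := fun y => LinearMap.congr_fun (LinearMap.mem_ker.1 ha2) y
    rw [mem_cent, hg]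
    refine LinearMap.ext fun y => ?_
    simp [Module.End.mul_apply, h0, h0']
  have a5 := Submodule.finrank_lt_finrank_of_lt hlt
  have a6 := Submodule.finrank_mono hle
  omega

section Orbit

variable {V : Type*} [CommGroup V] [Finite V] {C : Factor k V} {M : V → Module.End k W}

/-- The orbit bound for the centralizer of an implementing operator. -/
theorem finrank_cent_le [IsAlgClosed k] [FiniteDimensional k W] [Nontrivial W] [Nontrivial V] [Fintype V]
    (h : IsRep C M) (hirr : IsIrr M) (hV : (Fintype.card V : k) ≠ 0) {G : Module.End k W} (θ : MulAut V)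
    (d : V → k) (hGM : ∀ v, G * M v = d v • (M (θ v) * G)) {N : ℕ} (hN : 0 < N) (hθ : θ ^ N = 1)
    (hsr : ∀ i : ℕ, ¬ N ∣ i → ∀ v, (θ ^ i) v = v → v = 1) (hG : Function.Injective G) :
    N * Module.finrank k (cent G) ≤ Module.finrank k W * Module.finrank k W + (N - 1) := by
  classical
  have hli : LinearIndependent k M := Fintype.linearIndependent_iff.2 fun g hg => h.coeff_eq_zero hV g hg
  let B := Module.Basis.mk hli (h.span_eq_top hirr hV).ge
  have hB : ∀ v, B v = M v := fun v => Module.Basis.mk_apply hli _ v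
  have hord : orderOf θ = N := by
    refine Nat.dvd_antisymm (orderOf_dvd_of_pow_eq_one hθ) ?_
    by_contra hnd
    obtain ⟨v, hv⟩ := exists_ne (1 : V)
    exact hv (hsr _ hnd v (by rw [pow_orderOf_eq_one]; rfl))
  have hGs : Function.Surjective G := LinearMap.injective_iff_surjective.1 hG
  have hrel : ∀ a ∈ cent G, ∀ v, B.repr a (θ v) = d v * B.repr a v := by
    intro a ha v
    set b : V → k := fun w => B.repr a w with hb
    have ha' : a = ∑ w, b w • M w := by
      conv_lhs => rw [← B.sum_repr a]
      simp [hb, hB]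
    have h1 : a * G = (∑ w, (b w * d w) • M (θ w)) * G := by
      rw [ha]
      conv_lhs => rw [ha']
      rw [Finset.mul_sum, Finset.sum_mul]
      exact Finset.sum_congr rfl fun w _ => by rw [mul_smul_comm, hGM, smul_mul_assoc, smul_smul]
    have h2 : a = ∑ w, (b w * d w) • M (θ w) := by
      refine LinearMap.ext fun y => ?_
      obtain ⟨z, rfl⟩ := hGs y
      simpa [Module.End.mul_apply] using LinearMap.congr_fun h1 z
    have h3 : a = ∑ w, (b (θ.symm w) * d (θ.symm w)) • B w := by
      rw [h2]
      exact Fintype.sum_equiv θ.toEquiv _ _ fun w => by simp [hB]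
    have h4 : B.repr a (θ v) = b v * d v := by
      conv_lhs => rw [h3]
      simp [Finsupp.single_apply]
    rw [h4, mul_comm]
  set Γ := Subgroup.zpowers θ with hΓ
  haveI : Finite (MulAut V) := Finite.of_injective (fun f : MulAut V => (f : V → V)) DFunLike.coe_injective
  letI : Fintype Γ := Fintype.ofFinite _
  letI : Fintype (MulAction.orbitRel.Quotient Γ V) := Fintype.ofFinite _
  let E : cent G →ₗ[k] (MulAction.orbitRel.Quotient Γ V → k) :=
    { toFun := fun a o => B.repr a.1 o.out
      map_add' := fun a b => funext fun o => by simp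
      map_smul' := fun r a => funext fun o => by simp }
  have hE : Function.Injective E := by
    rw [injective_iff_map_eq_zero]
    intro a ha
    refine Subtype.ext (B.repr.injective ?_)
    rw [Submodule.coe_zero, map_zero]
    ext v
    have h0 : B.repr a.1 (Quotient.out (Quotient.mk'' v : MulAction.orbitRel.Quotient Γ V)) = 0 := congrFun ha _
    obtain ⟨⟨γ, hγ⟩, hγv⟩ : v ∈ MulAction.orbit Γ (Quotient.out (Quotient.mk'' v : MulAction.orbitRel.Quotient Γ V)) :=
      MulAction.orbitRel_apply.1 (Quotient.exact' (Quotient.out_eq' _).symm)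
    obtain ⟨j, hj⟩ := Submonoid.mem_powers_iff _ _ |>.1 ((isOfFinOrder_of_finite θ).mem_powers_iff_mem_zpowers.2 hγ)
    rw [← hγv]
    show B.repr a.1 (γ _) = 0
    rw [← hj]
    clear hj hγv
    induction j with
    | zero => exact h0
    | succ j ih => rw [pow_succ', MulAut.mul_apply, hrel _ a.2, ih, mul_zero]
  have h1 := LinearMap.finrank_le_finrank_of_injective hE
  rw [Module.finrank_pi] at h1
  have h2 := MulAction.sum_card_fixedBy_eq_card_orbits_mul_card_group Γ V
  have hcard : Fintype.card Γ = N := by rw [← Nat.card_eq_fintype_card, hΓ, Nat.card_zpowers, hord]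
  rw [hcard, Fintype.sum_eq_add_sum_compl (1 : Γ)] at h2
  have h3 : Fintype.card (MulAction.fixedBy V (1 : Γ)) = Fintype.card V := by
    rw [Fintype.card_congr ((Equiv.setCongr (MulAction.fixedBy_one_eq_univ V Γ)).trans (Equiv.Set.univ V))]
  have h4 : ∀ γ ∈ ({1}ᶜ : Finset Γ), Fintype.card (MulAction.fixedBy V γ) = 1 := by
    intro γ hγ
    rw [Finset.mem_compl, Finset.mem_singleton] at hγ
    rw [Fintype.card_eq_one_iff]
    refine ⟨⟨1, show γ • (1 : V) = 1 from map_one (γ : MulAut V)⟩, fun ⟨v, hv⟩ => Subtype.ext ?_⟩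
    obtain ⟨j, hj⟩ := Submonoid.mem_powers_iff _ _ |>.1
      ((isOfFinOrder_of_finite θ).mem_powers_iff_mem_zpowers.2 γ.2)
    refine hsr j (fun hdj => hγ (Subtype.ext ?_)) v ?_
    · rw [← hj, ← hord] at *
      exact orderOf_dvd_iff_pow_eq_one.1 hdj
    · rw [hj]; exact hv
  rw [h3, Finset.sum_congr rfl h4, Finset.sum_const, Finset.card_compl, Finset.card_singleton, hcard,
    smul_eq_mul, mul_one] at h2
  rw [← h.card_eq hirr hV, Nat.card_eq_fintype_card]
  calc N * Module.finrank k (cent G) ≤ N * Fintype.card (MulAction.orbitRel.Quotient Γ V) :=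
        Nat.mul_le_mul_left N h1
    _ = Fintype.card V + (N - 1) := by rw [h2, Nat.mul_comm]

end Orbit

end CfsgLib.Turull
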