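import Cfsg.Agent.Turull.PinSemi
import Mathlib.LinearAlgebra.Dimension.OrzechProperty

/-!
Restriction to a complement of the fixed points of an automorphism and the resulting decomposition.
-/

set_option autoImplicit false
set_option linter.style.haveILetI false
set_option linter.unusedSectionVars false

namespace CfsgLib.Turull

variable {k : Type*} [Field k] {V : Type*} [CommGroup V] [Finite V]
variable {W : Type*} [AddCommGroup W] [Module k W]

/-- An automorphism restricted to an invariant subgroup. -/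
noncomputable def autOn (B : Subgroup V) (θ : MulAut V) (hθ : ∀ x ∈ B, θ x ∈ B) : MulAut B :=
  MulEquiv.ofBijective ((θ.toMonoidHom.comp B.subtype).codRestrict B fun x => hθ x x.2)
    (Finite.injective_iff_bijective.1 fun _ _ hxy => Subtype.ext (θ.injective (congrArg Subtype.val hxy)))

theorem autOn_apply (B : Subgroup V) (θ : MulAut V) (hθ : ∀ x ∈ B, θ x ∈ B) (x : B) :
    ((autOn B θ hθ x : B) : V) = θ x := rfl

theorem autOn_pow_apply (B : Subgroup V) (θ : MulAut V) (hθ : ∀ x ∈ B, θ x ∈ B) (i : ℕ) (x : B) :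
    (((autOn B θ hθ ^ i) x : B) : V) = (θ ^ i) x := by
  induction i with
  | zero => rfl
  | succ i ih => rw [pow_succ', pow_succ', MulAut.mul_apply, MulAut.mul_apply, autOn_apply, ih]

theorem Semireg.autOn {θ : MulAut V} {o : ℕ} (h : Semireg θ o) (B : Subgroup V) (hθ : ∀ x ∈ B, θ x ∈ B) :
    Semireg (autOn B θ hθ) o :=
  ⟨MulEquiv.ext fun x => Subtype.ext (by rw [autOn_pow_apply, h.1]; rfl), fun i hi v hv =>
    Subtype.ext (h.2 i hi v (by rw [← autOn_pow_apply B θ hθ, hv]))⟩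

/-- The fixed points of an automorphism. -/
def fixG (θ : MulAut V) : Subgroup V where
  carrier := {v | θ v = v}
  one_mem' := map_one θ
  mul_mem' := fun {a b} ha hb => show θ (a * b) = a * b by rw [map_mul, ha, hb]
  inv_mem' := fun {a} ha => show θ a⁻¹ = a⁻¹ by rw [map_inv, ha]

/-- The displacements of an automorphism. -/
def moveG (θ : MulAut V) : Subgroup V :=
  MonoidHom.range (θ.toMonoidHom / MonoidHom.id V)

theorem mem_fixG {θ : MulAut V} {v : V} : v ∈ fixG θ ↔ θ v = v := Iff.rfl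

theorem mem_moveG {θ : MulAut V} {v : V} : v ∈ moveG θ ↔ ∃ w, θ w / w = v := Iff.rfl

theorem apply_mem_fixG {θ η : MulAut V} (hc : Commute η θ) {v : V} (hv : v ∈ fixG θ) : η v ∈ fixG θ := by
  show θ (η v) = η v
  rw [← MulAut.mul_apply, ← hc.eq, MulAut.mul_apply, hv]

theorem apply_mem_moveG {θ η : MulAut V} (hc : Commute η θ) {v : V} (hv : v ∈ moveG θ) : η v ∈ moveG θ := by
  obtain ⟨w, rfl⟩ := mem_moveG.1 hv
  exact mem_moveG.2 ⟨η w, by rw [map_div, ← MulAut.mul_apply, ← hc.eq, MulAut.mul_apply]⟩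

theorem prod_mem_fixG {θ : MulAut V} {o : ℕ} (hθ : θ ^ o = 1) (v : V) :
    ∏ j ∈ Finset.range o, (θ ^ j) v ∈ fixG θ := by
  show θ (∏ j ∈ Finset.range o, (θ ^ j) v) = _
  rw [map_prod]
  have a1 := Finset.prod_range_succ (fun j => (θ ^ j) v) o
  rw [Finset.prod_range_succ' (fun j => (θ ^ j) v) o, hθ, pow_zero] at a1
  simp only [← MulAut.mul_apply, ← pow_succ']
  exact mul_right_cancel a1

theorem eq_one_of_mem_fixG_moveG {θ : MulAut V} {o p : ℕ} (hθ : θ ^ o = 1) (hV : IsPGroup p V)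
    (hco : o.Coprime p) {v : V} (h1 : v ∈ fixG θ) (h2 : v ∈ moveG θ) : v = 1 := by
  obtain ⟨w, hw⟩ := mem_moveG.1 h2
  have hpow : ∀ j : ℕ, (θ ^ j) w = w * v ^ j := by
    intro j
    induction j with
    | zero => simp
    | succ j ih =>
      rw [pow_succ' θ, MulAut.mul_apply, ih, map_mul, map_pow, mem_fixG.1 h1,
        show θ w = w * v by rw [← hw, mul_div_cancel], mul_assoc, ← pow_succ']
  have h3 : v ^ o = 1 := by
    have := hpow o
    rwa [hθ, MulAut.one_apply, eq_comm, mul_eq_left] at this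
  obtain ⟨n, hn⟩ := hV v
  have h4 := pow_gcd_eq_one.2 ⟨h3, hn⟩
  rwa [(hco.pow_right n).gcd_eq_one, pow_one] at h4

theorem exists_fix_mul_move {θ : MulAut V} {o p : ℕ} (hθ : θ ^ o = 1) (hV : IsPGroup p V)
    (hco : o.Coprime p) (v : V) : ∃ a ∈ fixG θ, ∃ b ∈ moveG θ, a * b = v := by
  have hstep : ∀ j : ℕ, (θ ^ j) v / v ∈ moveG θ := by
    intro j
    induction j with
    | zero => simp
    | succ j ih =>
      have h2 := mul_mem (apply_mem_moveG (Commute.refl θ) ih) (mem_moveG.2 ⟨v, rfl⟩)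
      rwa [map_div, div_mul_div_cancel, ← MulAut.mul_apply, ← pow_succ'] at h2
  have h1 : (∏ j ∈ Finset.range o, (θ ^ j) v) / v ^ o ∈ moveG θ := by
    have := (moveG θ).prod_mem (t := Finset.range o) fun j _ => hstep j
    rwa [Finset.prod_div_distrib, Finset.prod_const, Finset.card_range] at this
  obtain ⟨n, hn⟩ := hV v
  obtain ⟨m, hm⟩ := exists_pow_eq_self_of_coprime (x := v) (n := o)
    ((hco.pow_right n).coprime_dvd_right (orderOf_dvd_of_pow_eq_one hn))
  refine ⟨(∏ j ∈ Finset.range o, (θ ^ j) v) ^ m, pow_mem (prod_mem_fixG hθ v) m, _,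
    inv_mem (pow_mem h1 m), ?_⟩
  rw [div_pow, inv_div, mul_div_assoc', mul_comm, ← mul_div_assoc', div_self', mul_one, hm]

theorem Impl.b_map {C : Factor k V} {M : V → Module.End k W} (h : IsRep C M) [Nontrivial W] {θ : MulAut V}
    {d : V → k} {g : Module.End k W} (hg : Impl M θ d g) (hgi : Function.Injective g) (v w : V) :
    C.b (θ v) (θ w) = C.b v w := by
  have h1 := hg.cocycle h hgi v w
  have h2 := hg.cocycle h hgi w v
  have hne : d v * d w ≠ 0 := mul_ne_zero (hg.d_ne_zero h hgi v) (hg.d_ne_zero h hgi w)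
  have hvw : d (v * w) ≠ 0 := hg.d_ne_zero h hgi _
  rw [mul_comm w v, mul_comm (d w) (d v)] at h2
  rw [Factor.b, Factor.b, div_eq_div_iff (C.ne _ _) (C.ne _ _)]
  refine mul_left_cancel₀ (mul_ne_zero hne hvw) ?_
  linear_combination (d (v * w) * C.c w v) * h1 - (d (v * w) * C.c v w) * h2

theorem b_fix_move {C : Factor k V} {M : V → Module.End k W} (h : IsRep C M) [Nontrivial W] {θ : MulAut V}
    {d : V → k} {g : Module.End k W} (hg : Impl M θ d g) (hgi : Function.Injective g) {a b : V}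
    (ha : a ∈ fixG θ) (hb : b ∈ moveG θ) : C.b a b = 1 := by
  obtain ⟨w, rfl⟩ := mem_moveG.1 hb
  have h1 := hg.b_map h hgi a w
  rw [mem_fixG.1 ha] at h1
  rw [div_eq_mul_inv, h.b_mul_right, h.b_inv_right, h1, mul_inv_cancel₀ (C.b_ne _ _)]

/-- A factor set restricted to a subgroup on which it is non-degenerate. -/
def Factor.on (C : Factor k V) (B : Subgroup V) (hB : ∀ v ∈ B, v ≠ 1 → ∃ w ∈ B, C.c v w ≠ C.c w v) :
    Factor k B where
  c v w := C.c v w
  ne v w := C.ne v w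
  nondeg v hv := by
    obtain ⟨w, hw, hw'⟩ := hB v v.2 fun h => hv (Subtype.ext h)
    exact ⟨⟨w, hw⟩, hw'⟩

theorem IsRep.on {C : Factor k V} {M : V → Module.End k W} (h : IsRep C M) (B : Subgroup V)
    (hB : ∀ v ∈ B, v ≠ 1 → ∃ w ∈ B, C.c v w ≠ C.c w v) : IsRep (C.on B hB) (fun v : B => M v) :=
  ⟨h.one, fun v w => h.mul v w⟩

/-- A non-degenerate form is non-degenerate on both factors of an orthogonal decomposition. -/
theorem nondeg_on {C : Factor k V} {M : V → Module.End k W} (h : IsRep C M) [Nontrivial W]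
    {A B : Subgroup V} (hdec : ∀ v, ∃ a ∈ A, ∃ b ∈ B, a * b = v) (horth : ∀ a ∈ A, ∀ b ∈ B, C.b a b = 1) :
    (∀ v ∈ A, v ≠ 1 → ∃ w ∈ A, C.c v w ≠ C.c w v) ∧ (∀ v ∈ B, v ≠ 1 → ∃ w ∈ B, C.c v w ≠ C.c w v) := by
  refine ⟨fun v hv hv1 => ?_, fun v hv hv1 => ?_⟩
  all_goals
    by_contra hcon
    push Not at hcon
    obtain ⟨w, hw⟩ := C.exists_b_ne hv1
    obtain ⟨a, ha, b, hb, rfl⟩ := hdec w
    refine hw ?_
    rw [h.b_mul_right]
  · rw [Factor.b, hcon a ha, div_self (C.ne _ _), horth v hv b hb, one_mul]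
  · rw [show C.b v b = 1 by rw [Factor.b, hcon b hb, div_self (C.ne _ _)], mul_one]
    have := C.b_symm v a
    rwa [horth a ha v hv, mul_one] at this

theorem pow_mul_pow_sub {ζ : k} {r : ℕ} (hζ : ζ ^ r = 1) (c a : Fin r) :
    ζ ^ (c : ℕ) * ζ ^ ((a - c : Fin r) : ℕ) = ζ ^ (a : ℕ) := by
  haveI : NeZero r := ⟨c.pos.ne'⟩
  rw [← pow_add, pow_eq_pow_mod _ hζ, ← Fin.val_add, add_sub_cancel]

section Main

variable {U : Type*} [AddCommGroup U] [Module k U]

/-- The intertwiners between two families of operators. -/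
def homs {B : Type*} (MU : B → Module.End k U) (MW : B → Module.End k W) : Submodule k (U →ₗ[k] W) where
  carrier := {φ | ∀ b x, φ (MU b x) = MW b (φ x)}
  add_mem' := fun {φ ψ} hφ hψ b x => by simp [hφ b x, hψ b x]
  zero_mem' := fun b x => by simp
  smul_mem' := fun c φ hφ b x => by simp [hφ b x]

theorem mem_homs {B : Type*} {MU : B → Module.End k U} {MW : B → Module.End k W} {φ : U →ₗ[k] W} :
    φ ∈ homs MU MW ↔ ∀ b x, φ (MU b x) = MW b (φ x) := Iff.rfl

/-- The action of implementing operators on intertwiners. -/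
noncomputable def transOp {B : Type*} [CommGroup B] [Finite B] {MU : B → Module.End k U}
    {MW : B → Module.End k W} {θ : MulAut B} {d : B → k} {G : Module.End k W} {F : Module.End k U}
    (hG : Impl MW θ d G) (hF : Impl MU θ d F) {N : ℕ} (hN : 0 < N) (hd : ∀ b, d b ≠ 0) (hFN : F ^ N = 1) :
    Module.End k (homs MU MW) where
  toFun φ := ⟨G ∘ₗ φ.1 ∘ₗ (F ^ (N - 1)), fun b x => intertwiner_transport hG hF hN hd hFN φ.2 b x⟩
  map_add' φ ψ := Subtype.ext (LinearMap.ext fun x => by simp)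
  map_smul' c φ := Subtype.ext (LinearMap.ext fun x => by simp)

theorem transOp_apply {B : Type*} [CommGroup B] [Finite B] {MU : B → Module.End k U}
    {MW : B → Module.End k W} {θ : MulAut B} {d : B → k} {G : Module.End k W} {F : Module.End k U}
    (hG : Impl MW θ d G) (hF : Impl MU θ d F) {N : ℕ} (hN : 0 < N) (hd : ∀ b, d b ≠ 0) (hFN : F ^ N = 1)
    (φ : homs MU MW) (x : U) : (transOp hG hF hN hd hFN φ).1 x = G (φ.1 ((F ^ (N - 1)) x)) := rfl

/-- An eigenbasis of an operator of finite order. -/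
theorem exists_eigenbasis {X : Type*} [AddCommGroup X] [Module k X] [FiniteDimensional k X] {T : Module.End k X}
    {r : ℕ} (hrk : (r : k) ≠ 0) (hT : T ^ r = 1) {ζ : k} (hζ : IsPrimitiveRoot ζ r) :
    ∃ (ι : Type) (_ : Fintype ι) (cI : ι → Fin r) (φ : ι → X),
      LinearIndependent k φ ∧ ⊤ ≤ Submodule.span k (Set.range φ) ∧ ∀ i, T (φ i) = ζ ^ (cI i : ℕ) • φ i := by
  classical
  let dd : Fin r → ℕ := fun c => Module.finrank k (eig T (ζ ^ (c : ℕ)))
  let φ : (Σ c : Fin r, Fin (dd c)) → X := fun i => (Module.finBasis k (eig T (ζ ^ (i.1 : ℕ))) i.2).1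
  have hspan : ⊤ ≤ Submodule.span k (Set.range φ) := by
    intro ψ _
    rw [← sum_specProj (G := T) hrk hζ ψ]
    refine Submodule.sum_mem _ fun c _ => ?_
    have hm := specProj_apply_mem hT hζ c ψ
    have h1 : (⟨_, hm⟩ : eig T (ζ ^ (c : ℕ))) ∈
        Submodule.span k (Set.range (Module.finBasis k (eig T (ζ ^ (c : ℕ))))) := by
      rw [Module.Basis.span_eq]; trivial
    have h2 := Submodule.mem_map_of_mem (f := (eig T (ζ ^ (c : ℕ))).subtype) h1
    rw [Submodule.map_span] at h2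
    refine Submodule.span_mono ?_ h2
    rintro _ ⟨_, ⟨l, rfl⟩, rfl⟩
    exact ⟨⟨c, l⟩, rfl⟩
  refine ⟨_, inferInstance, fun i => i.1, φ, ?_, hspan, fun i => mem_eig.1 (Module.finBasis k _ i.2).2⟩
  refine linearIndependent_of_top_le_span_of_card_eq_finrank hspan ?_
  rw [Fintype.card_sigma]
  simp only [Fintype.card_fin, dd]
  exact sum_finrank_eig hrk hT hζ

/-- Independent intertwiners from an irreducible representation have independent images. -/
theorem injective_sum_homs [IsAlgClosed k] {B : Type*} [CommGroup B] [Finite B] [Fintype B] [FiniteDimensional k U]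
    [Nontrivial U] {CB : Factor k B} {MU : B → Module.End k U} (hU : IsRep CB MU) (hUirr : IsIrr MU)
    (hVB : (Fintype.card B : k) ≠ 0) {MW : B → Module.End k W} {ι : Type*} [Fintype ι]
    (φ : ι → (U →ₗ[k] W)) (hφ : ∀ i, φ i ∈ homs MU MW) (hli : LinearIndependent k φ) :
    Function.Injective (∑ i, φ i ∘ₗ LinearMap.proj i : (ι → U) →ₗ[k] W) := by
  rw [injective_iff_map_eq_zero]
  intro x hx
  simp only [LinearMap.sum_apply, LinearMap.comp_apply, LinearMap.proj_apply] at hx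
  funext i
  have hall : ∀ a : Module.End k U, ∑ i, φ i (a (x i)) = 0 := by
    intro a
    refine Submodule.span_induction (p := fun a _ => ∑ i, φ i (a (x i)) = 0) ?_ (by simp)
      (fun a b _ _ ha hb => by simp [Finset.sum_add_distrib, ha, hb])
      (fun c a _ ha => by simp [← Finset.smul_sum, ha])
      (show a ∈ Submodule.span k (Set.range MU) by rw [hU.span_eq_top hUirr hVB]; trivial)
    rintro _ ⟨b, rfl⟩
    simp only [hφ _ b]
    rw [← map_sum, hx, map_zero]
  show x i = 0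
  rw [← Module.forall_dual_apply_eq_zero_iff k]
  intro ψ
  refine Fintype.linearIndependent_iff.1 hli (fun i => ψ (x i)) (LinearMap.ext fun y => ?_) i
  have := hall (ψ.smulRight y)
  simpa [LinearMap.sum_apply] using this

variable [IsAlgClosed k] [FiniteDimensional k W] [Nontrivial W] [Fintype V]
variable {C : Factor k V} {M : V → Module.End k W} (h : IsRep C M) (hirr : IsIrr M)
  (hV : (Fintype.card V : k) ≠ 0)
  {σ : MulAut V} {r : ℕ} {dσ : V → k} {G : Module.End k W} (hr : r.Prime) (hrk : (r : k) ≠ 0)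
  (hGσ : Impl M σ dσ G) (hG : G ^ r = 1) {ζ : k} (hζ : IsPrimitiveRoot ζ r)

include h hirr hV hr hrk hGσ hG hζ in
/-- The decomposition into copies of a representation of a complement. -/
theorem exists_decomp [FiniteDimensional k U] [Nontrivial U] {θ : MulAut V} {e : V → k} {g : Module.End k W}
    {N : ℕ} (hgθ : Impl M θ e g) (hN : 0 < N) (hgN : g ^ N = 1) (hGg : g * G = G * g) (A B : Subgroup V)
    (hA : ∀ a ∈ A, θ a = a) (hdec : ∀ v, ∃ a ∈ A, ∃ b ∈ B, a * b = v)
    (horth : ∀ a ∈ A, ∀ b ∈ B, C.b a b = 1) (he : ∀ a ∈ A, e a = 1) (hσA : ∃ a ∈ A, σ a ≠ a)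
    [Fintype B] {CB : Factor k B} {MU : B → Module.End k U} (hU : IsRep CB MU) (hUirr : IsIrr MU)
    (hVB : (Fintype.card B : k) ≠ 0) (ι₀ : U →ₗ[k] W) (hι₀ : ι₀ ∈ homs MU (fun b : B => M b))
    (hι : ι₀ ≠ 0) {σB θB : MulAut B} (hσB : ∀ b : B, ((σB b : B) : V) = σ b)
    (hθB : ∀ b : B, ((θB b : B) : V) = θ b) {F f : Module.End k U} (hF : Impl MU σB (fun b => dσ b) F)
    (hFr : F ^ r = 1) (hf : Impl MU θB (fun b => e b) f) (hfN : f ^ N = 1) (hFf : f * F = F * f) :
    ∃ (ι : Type) (_ : Fintype ι) (cI : ι → Fin r) (lam : k) (Φ : (ι → U) ≃ₗ[k] W), lam ≠ 0 ∧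
      (∀ x, G (Φ x) = Φ fun i => ζ ^ (cI i : ℕ) • F (x i)) ∧
      (∀ x, g (Φ x) = Φ fun i => lam • f (x i)) ∧ ∃ i j, cI i ≠ cI j := by
  classical
  have hgi := injective_of_pow_scalar hN one_ne_zero (hgN.trans (one_smul k _).symm)
  have hGi := injective_of_pow_scalar hr.pos one_ne_zero (hG.trans (one_smul k _).symm)
  have hed : ∀ v, e v ≠ 0 := hgθ.d_ne_zero h hgi
  have hdd : ∀ v, dσ v ≠ 0 := hGσ.d_ne_zero h hGi
  have hgB : Impl (fun b : B => M b) θB (fun b => e b) g := fun b => by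
    show g * M b = e b • (M (θB b : V) * g)
    rw [hθB]; exact hgθ b
  have hGB : Impl (fun b : B => M b) σB (fun b => dσ b) G := fun b => by
    show G * M b = dσ b • (M (σB b : V) * G)
    rw [hσB]; exact hGσ b
  set Tg := transOp hgB hf hN (fun b : B => hed b) hfN with hTg
  set TG := transOp hGB hF hr.pos (fun b : B => hdd b) hFr with hTG
  have hTgapp : ∀ φ x, (Tg φ).1 x = g (φ.1 ((f ^ (N - 1)) x)) := fun _ _ => rfl
  have hTGapp : ∀ φ x, (TG φ).1 x = G (φ.1 ((F ^ (r - 1)) x)) := fun _ _ => rfl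
  haveI : Nontrivial (homs MU (fun b : B => M b)) :=
    ⟨⟨⟨ι₀, hι₀⟩, 0, fun h0 => hι (congrArg Subtype.val h0)⟩⟩
  obtain ⟨lam, hlam⟩ := Module.End.exists_eigenvalue Tg
  obtain ⟨φ₀, hφ₀⟩ := hlam.exists_hasEigenvector
  have hφm : φ₀ ∈ eig Tg lam := mem_eig.2 hφ₀.apply_eq_smul
  haveI : Nontrivial (eig Tg lam) := ⟨⟨⟨φ₀, hφm⟩, 0, fun h0 => hφ₀.2 (congrArg Subtype.val h0)⟩⟩
  have hff : ∀ x, (f ^ (N - 1)) (f x) = x := fun x => by
    rw [← Module.End.mul_apply, ← pow_succ, Nat.sub_add_cancel hN, hfN]; rfl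
  have hFF : ∀ x, (F ^ (r - 1)) (F x) = x := fun x => by
    rw [← Module.End.mul_apply, ← pow_succ, Nat.sub_add_cancel hr.pos, hFr]; rfl
  have hgapp : ∀ φ : eig Tg lam, ∀ x, g (φ.1.1 x) = lam • φ.1.1 (f x) := fun φ x => by
    have := LinearMap.congr_fun (congrArg Subtype.val (mem_eig.1 φ.2)) (f x)
    rw [hTgapp, hff] at this
    exact this
  have hlam0 : lam ≠ 0 := by
    intro h0
    refine hφ₀.2 (Subtype.ext (LinearMap.ext fun x => hgi ?_))
    have := hgapp ⟨φ₀, hφm⟩ x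
    simp only [h0, zero_smul] at this
    exact this.trans (map_zero g).symm
  have hfFp : ∀ x, (f ^ (N - 1)) ((F ^ (r - 1)) x) = (F ^ (r - 1)) ((f ^ (N - 1)) x) :=
    LinearMap.congr_fun (Commute.pow_pow (show Commute f F from hFf) _ _).eq
  have hTGH : ∀ φ ∈ eig Tg lam, TG φ ∈ eig Tg lam := by
    intro φ hφ
    rw [mem_eig] at hφ ⊢
    refine Subtype.ext (LinearMap.ext fun x => ?_)
    have := LinearMap.congr_fun (congrArg Subtype.val hφ) ((F ^ (r - 1)) x)
    rw [hTgapp, SetLike.val_smul, LinearMap.smul_apply] at this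
    rw [hTgapp, hTGapp, SetLike.val_smul, LinearMap.smul_apply, hTGapp,
      ← hfFp, ← map_smul, ← this]
    exact LinearMap.congr_fun hGg _
  set T : Module.End k (eig Tg lam) := TG.restrict hTGH with hT
  have hTapp : ∀ (φ : eig Tg lam) x, (T φ).1.1 x = G (φ.1.1 ((F ^ (r - 1)) x)) := fun φ x => rfl
  have hTpow : ∀ (j : ℕ) (φ : eig Tg lam) x,
      ((T ^ j) φ).1.1 x = (G ^ j) (φ.1.1 (((F ^ (r - 1)) ^ j) x)) := by
    intro j
    induction j with
    | zero => intros; rfl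
    | succ j ih =>
      intro φ x
      rw [pow_succ' T, Module.End.mul_apply, hTapp, ih, pow_succ' G, Module.End.mul_apply,
        pow_succ (F ^ (r - 1)), Module.End.mul_apply]
  have hTr : T ^ r = 1 := by
    refine LinearMap.ext fun φ => Subtype.ext (Subtype.ext (LinearMap.ext fun x => ?_))
    rw [hTpow, hG, ← pow_mul, Nat.mul_comm, pow_mul, hFr, one_pow]
    rfl
  obtain ⟨ι, hιf, cI, φ, hli, hspan, hφT'⟩ := exists_eigenbasis (X := eig Tg lam) hrk hTr hζ
  haveI := hιf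
  have hφT : ∀ (i : ι) x, G ((φ i).1.1 x) = ζ ^ (cI i : ℕ) • (φ i).1.1 (F x) := fun i x => by
    have h2 := LinearMap.congr_fun (congrArg (fun z : eig Tg lam => z.1.1) (hφT' i)) (F x)
    rw [hTapp, hFF] at h2
    exact h2
  have hli' : LinearIndependent k (fun i => (φ i).1.1) :=
    hli.map' ((homs MU (fun b : B => M b)).subtype ∘ₗ (eig Tg lam).subtype)
      ((Submodule.eq_bot_iff _).2 fun x hx => Subtype.ext (Subtype.ext hx))
  set Φ₀ : (ι → U) →ₗ[k] W := ∑ i, (φ i).1.1 ∘ₗ LinearMap.proj i with hΦ₀d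
  have hΦ₀ : ∀ x, Φ₀ x = ∑ i, (φ i).1.1 (x i) := fun x => by simp [hΦ₀d, LinearMap.sum_apply]
  have hinj : Function.Injective Φ₀ := injective_sum_homs hU hUirr hVB _ (fun i => (φ i).1.2) hli'
  have hmemR : ∀ (ψ : (eig Tg lam)) y, ψ.1.1 y ∈ LinearMap.range Φ₀ := by
    intro ψ y
    refine Submodule.span_induction (p := fun ψ _ => (ψ : (eig Tg lam)).1.1 y ∈ LinearMap.range Φ₀) ?_ (by simp)
      (fun a b _ _ ha hb => Submodule.add_mem _ ha hb) (fun c a _ ha => Submodule.smul_mem _ c ha)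
      (hspan (Submodule.mem_top : ψ ∈ ⊤))
    rintro _ ⟨i, rfl⟩
    refine ⟨Pi.single i y, ?_⟩
    rw [hΦ₀, Finset.sum_eq_single i (fun j _ hj => by rw [Pi.single_eq_of_ne hj, map_zero])
      (fun hh => absurd (Finset.mem_univ _) hh), Pi.single_eq_same]
  have hLa : ∀ a ∈ A, ∀ ψ : (eig Tg lam), ∃ ψ' : (eig Tg lam), ∀ y, ψ'.1.1 y = M a (ψ.1.1 y) := by
    intro a ha ψ
    have hmem : (M a) ∘ₗ ψ.1.1 ∈ homs MU (fun b : B => M b) := fun b x => by
      show M a (ψ.1.1 (MU b x)) = _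
      rw [ψ.1.2, h.comm_apply, horth a ha b b.2, one_smul]
      rfl
    refine ⟨⟨⟨_, hmem⟩, mem_eig.2 (Subtype.ext (LinearMap.ext fun x => ?_))⟩, fun y => rfl⟩
    rw [hTgapp]
    show g (M a (ψ.1.1 ((f ^ (N - 1)) x))) = lam • M a (ψ.1.1 x)
    rw [hgθ.apply, he a ha, one_smul, hA a ha, hgapp, map_smul, ← Module.End.mul_apply, ← pow_succ',
      Nat.sub_add_cancel hN, hfN]
    rfl
  have hι' : Nonempty ι := by
    by_contra hne
    rw [not_nonempty_iff] at hne
    haveI := hne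
    rw [Set.range_eq_empty, Submodule.span_empty] at hspan
    exact bot_ne_top (α := Submodule k ↥(eig Tg lam)) (le_antisymm bot_le hspan)
  have hsurj : Function.Surjective Φ₀ := by
    rw [← LinearMap.range_eq_top]
    refine (hirr _ fun v y hy => ?_).resolve_left fun h0 => ?_
    · obtain ⟨x, rfl⟩ := hy
      rw [hΦ₀, map_sum]
      refine Submodule.sum_mem _ fun i _ => ?_
      obtain ⟨a, ha, b, hb, rfl⟩ := hdec v
      obtain ⟨ψ, hψ⟩ := hLa a ha (φ i)
      have e1 : M a (M b ((φ i).1.1 (x i))) = C.c a b • M (a * b) ((φ i).1.1 (x i)) := h.mul_apply _ _ _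
      rw [← inv_smul_smul₀ (C.ne a b) (M (a * b) _), ← e1, ← (φ i).1.2 ⟨b, hb⟩, ← hψ]
      exact Submodule.smul_mem _ _ (hmemR _ _)
    · obtain ⟨i⟩ := hι'
      obtain ⟨y, hy⟩ := exists_ne (0 : U)
      have : Φ₀ (Pi.single i y) = 0 := (Submodule.eq_bot_iff _).1 h0 _ ⟨_, rfl⟩
      have h2 := congrFun (hinj (this.trans (map_zero Φ₀).symm)) i
      rw [Pi.single_eq_same] at h2
      exact hy h2
  have hbij : Function.Bijective Φ₀ := ⟨hinj, hsurj⟩
  refine ⟨ι, inferInstance, cI, lam, LinearEquiv.ofBijective Φ₀ hbij, hlam0,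
    fun x => ?_, fun x => ?_, ?_⟩
  · show G (Φ₀ x) = Φ₀ _
    simp only [hΦ₀, map_sum, hφT, map_smul]
  · show g (Φ₀ x) = Φ₀ _
    simp only [hΦ₀, map_sum, hgapp, map_smul]
  by_contra hcon
  push Not at hcon
  obtain ⟨i₀⟩ := hι'
  obtain ⟨a, ha, hane⟩ := hσA
  set c := ζ ^ (cI i₀ : ℕ)
  have hT : ∀ (ψ : (eig Tg lam)) y, G (ψ.1.1 y) = c • ψ.1.1 (F y) := by
    intro ψ y
    refine Submodule.span_induction (p := fun ψ _ => G ((ψ : (eig Tg lam)).1.1 y) = c • (ψ : (eig Tg lam)).1.1 (F y)) ?_ (by simp)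
      (fun a b _ _ ha hb => by simp [ha, hb]) (fun t a _ ha => by simp [ha, smul_comm t c])
      (hspan (Submodule.mem_top : ψ ∈ ⊤))
    rintro _ ⟨i, rfl⟩
    rw [hφT, hcon i i₀]
  have hall : ∀ z, M a z = dσ a • M (σ a) z := by
    intro z
    obtain ⟨x, rfl⟩ := hsurj z
    simp only [hΦ₀, map_sum, Finset.smul_sum]
    refine Finset.sum_congr rfl fun i _ => ?_
    obtain ⟨ψ, hψ⟩ := hLa a ha (φ i)
    set y := (F ^ (r - 1)) (x i) with hy
    have hxy : F y = x i := by
      rw [hy, ← Module.End.mul_apply, ← pow_succ', Nat.sub_add_cancel hr.pos, hFr]; rfl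
    have e1 := hT ψ y
    rw [hψ, hψ, hxy, hGσ.apply, hT (φ i) y, hxy, map_smul, smul_comm] at e1
    exact (smul_right_injective W (pow_ne_zero _ (hζ.ne_zero hr.ne_zero)) e1).symm
  have h0 := h.coeff_eq_zero hV (fun v => (if v = a then 1 else 0) - if v = σ a then dσ a else 0) ?_ a
  · rw [if_pos rfl, if_neg (Ne.symm hane), sub_zero] at h0
    exact one_ne_zero h0
  · refine LinearMap.ext fun z => ?_
    simp [sub_smul, Finset.sum_sub_distrib, ite_smul, LinearMap.sum_apply, hall z]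

end Main

end CfsgLib.Turull
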