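import Cfsg.Agent.Turull.CompHeis
import Mathlib.Algebra.Field.ZMod

/-!
A group of odd prime power order on a self-dual module over a field of characteristic two whose operator of order
`2 ^ m + 1` has few eigenvectors fixes a vector.
-/

set_option autoImplicit false
set_option linter.style.haveILetI false
set_option linter.unusedSectionVars false

namespace CfsgLib.Turull

open scoped commutatorElement

variable {k : Type*} [Field k] {T : Type*} [Group T] [Finite T] {X : Type*} [AddCommGroup X] [Module k X]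

theorem exists_smul_of_finrank_le_one [FiniteDimensional k X] {E : Submodule k X} (hE : Module.finrank k E ≤ 1)
    {x y : X} (hx : x ∈ E) (hx0 : x ≠ 0) (hy : y ∈ E) : ∃ t : k, y = t • x := by
  have h1 : Module.finrank k (k ∙ x) = 1 := finrank_span_singleton hx0
  have h2 : (k ∙ x) = E := Submodule.eq_of_le_of_finrank_le ((Submodule.span_singleton_le_iff_mem _ _).2 hx) (by omega)
  rw [← h2, Submodule.mem_span_singleton] at hy
  obtain ⟨t, ht⟩ := hy
  exact ⟨t, ht.symm⟩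

theorem two_le_finrank_of_pair [FiniteDimensional k X] {E : Submodule k X} {x y : X} (hx : x ∈ E) (hy : y ∈ E)
    (hx0 : x ≠ 0) (hind : ∀ t : k, y ≠ t • x) : 2 ≤ Module.finrank k E := by
  by_contra h
  obtain ⟨t, ht⟩ := exists_smul_of_finrank_le_one (E := E) (by omega) hx hx0 hy
  exact hind t ht

/-- The powers of two are distinct modulo a prime `2 ^ m + 1` below `2 * m`. -/
theorem two_pow_ne_one {r m i : ℕ} [NeZero r] (hr : r = 2 ^ m + 1) (hi0 : 0 < i) (hi : i < 2 * m) :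
    ((2 : ZMod r)) ^ i ≠ 1 := by
  intro h
  have hlt : ∀ a : ℕ, a < r → (a : ZMod r) = 0 → a = 0 := fun a ha h0 =>
    Nat.eq_zero_of_dvd_of_lt ((ZMod.natCast_eq_zero_iff a r).1 h0) ha
  rcases Nat.lt_or_ge m i with hmi | hmi
  · have hneg : (2 : ZMod r) ^ m = -1 := by
      have : ((2 ^ m + 1 : ℕ) : ZMod r) = 0 := by rw [← hr]; exact ZMod.natCast_self r
      push_cast at this
      exact eq_neg_of_add_eq_zero_left this
    rw [show i = m + (i - m) by omega, pow_add, hneg, neg_one_mul, neg_eq_iff_eq_neg] at h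
    have h0 : ((2 ^ (i - m) + 1 : ℕ) : ZMod r) = 0 := by push_cast; rw [h, neg_add_cancel]
    have hle : 2 ^ (i - m) < 2 ^ m := Nat.pow_lt_pow_right (by norm_num) (by omega)
    exact Nat.succ_ne_zero _ (hlt _ (by omega) h0)
  · have h2 : 2 ^ i ≤ 2 ^ m := Nat.pow_le_pow_right (by norm_num) hmi
    have h3 : 2 ≤ 2 ^ i := by
      calc 2 = 2 ^ 1 := (pow_one 2).symm
        _ ≤ 2 ^ i := Nat.pow_le_pow_right (by norm_num) hi0
    have h0 : ((2 ^ i - 1 : ℕ) : ZMod r) = 0 := by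
      rw [Nat.cast_sub (by omega)]; push_cast; rw [h, sub_self]
    have := hlt _ (by omega) h0
    omega

theorem inert_arith {m n P : ℕ} (hm : 1 ≤ m) (hP : m + 1 ≤ P) (hn3 : 3 ≤ n) (hn : P ≤ n) (hPm : m = 1 → P = 2)
    (hP2 : 2 ≤ m → m + 2 ≤ P)
    (h : (P + 1) * (n * n) ≤ (m + 1) * (n * n + P)) : False := by
  obtain ⟨Q, rfl⟩ : ∃ Q, P = m + 1 + Q := ⟨P - (m + 1), by omega⟩
  have h1 : n * n * (Q + 1) ≤ (m + 1) * (m + 1 + Q) := by nlinarith
  rcases Nat.lt_or_ge m 2 with hm2 | hm2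
  · obtain rfl : m = 1 := by omega
    have := hPm rfl
    obtain rfl : Q = 0 := by omega
    nlinarith
  · have h2 : (m + 1 + Q) * (m + 1 + Q) ≤ n * n := Nat.mul_le_mul hn hn
    have h3 : (m + 1 + Q) * (m + 1 + Q) * (Q + 1) ≤ n * n * (Q + 1) := Nat.mul_le_mul_right _ h2
    have h4 : Q = 0 := by
      by_contra hQ
      have : (m + 1 + Q) * (m + 1 + Q) * 2 ≤ (m + 1 + Q) * (m + 1 + Q) * (Q + 1) :=
        Nat.mul_le_mul_left _ (by omega)
      nlinarith
    have := hP2 hm2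
    omega

namespace Sys

variable [IsAlgClosed k] [FiniteDimensional k X] {D : Sys k T X} {χ : T → k}

/-- A vector of a part pairs with a vector of the inverse part. -/
theorem exists_dual_comp (h : D.IsComp χ) (β : X →ₗ[k] X →ₗ[k] k)
    (hβρ : ∀ t x y, β (D.ρ t x) (D.ρ t y) = β x y) {x w : X} (hx : x ∈ D.space χ) (hw : β x w ≠ 0) :
    D.IsComp (fun z => (χ z)⁻¹) ∧ β x (D.proj (fun z => (χ z)⁻¹) w) = β x w := by
  classical
  have hkey : ∀ φ : T → k, D.IsComp φ → β x (D.proj φ w) ≠ 0 → φ = fun z => (χ z)⁻¹ := by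
    intro φ hφ hne
    have hval : ∀ z, χ z ≠ 0 → φ z ≠ 0 → φ z = (χ z)⁻¹ := fun z hz hz' => by
      have h1 := hβρ z x (D.proj φ w)
      rw [hx z hz, hφ.proj_mem w z hz', map_smul, map_smul, LinearMap.smul_apply, smul_eq_mul, smul_eq_mul,
        ← mul_assoc] at h1
      exact eq_inv_of_mul_eq_one_left ((mul_eq_right₀ hne).1 h1)
    have hsupp : ∀ z, φ z ≠ 0 ↔ χ z ≠ 0 := fun z => by
      rw [hφ.supp, h.supp]
      refine forall_congr' fun t => ?_
      rw [hval _ (h.comm_supp z t) (hφ.comm_supp z t), inv_eq_one]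
    funext z
    by_cases hz : χ z = 0
    · rw [hz, inv_zero]
      by_contra hne'
      exact (hsupp z).1 hne' hz
    · exact hval z hz ((hsupp z).2 hz)
  have hsum := D.sum_proj w
  have h1 : ∃ φ ∈ (D.finite_isComp).toFinset, β x (D.proj φ w) ≠ 0 := by
    by_contra hcon
    push Not at hcon
    apply hw
    rw [← hsum, map_sum]
    exact Finset.sum_eq_zero hcon
  obtain ⟨φ, hφ, hne⟩ := h1
  have hφc : D.IsComp φ := (D.finite_isComp).mem_toFinset.1 hφ
  obtain rfl := hkey φ hφc hne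
  refine ⟨hφc, ?_⟩
  refine Eq.trans ?_ ((map_sum (β x) _ _).symm.trans (congrArg (β x) hsum))
  refine Eq.symm (Finset.sum_eq_single _ (fun ψ hψ hψne => ?_) (fun hh => absurd hφ hh))
  by_contra hne'
  exact hψne (hkey ψ ((D.finite_isComp).mem_toFinset.1 hψ) hne')

theorem moved_sum_proj (h : D.IsComp χ) (hmv : ∃ t, χ (D.σ t) ≠ χ t) {x : X} (hx : x ∈ D.space χ) (c : k) :
    D.proj χ (∑ j ∈ Finset.range D.r, c ^ j • (D.S ^ j) x) = x := by
  rw [map_sum, Finset.sum_eq_single_of_mem 0 (Finset.mem_range.2 D.hr.pos)]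
  · simp [h.proj_of_mem hx]
  intro j hj hj0
  rw [map_smul, D.proj_pow h, (h.comp_pow j).proj_eq_zero h (fun hf => ?_) hx, map_zero, smul_zero]
  obtain ⟨t, ht⟩ := hmv
  refine ht ?_
  have := D.eq_of_pow_eq (fun i => χ ((D.σ ^ i) t)) (d := j)
    (fun hd => hj0 (Nat.eq_zero_of_dvd_of_lt hd (Finset.mem_range.1 hj))) (fun i => by
      rw [Nat.add_comm, D.σ_pow_add]; exact congrFun hf _) (fun i l => by rw [D.σ_pow_add, D.σ_pow_r])
  simpa using this

theorem eigen_sum {x : X} {c : k} (hc : c ^ D.r = 1) :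
    (∑ j ∈ Finset.range D.r, (c⁻¹) ^ j • (D.S ^ j) x) ∈ Turull.eig D.S c := by
  rw [mem_eig]
  have hc0 : c ≠ 0 := fun h0 => by rw [h0, zero_pow D.hr.ne_zero] at hc; exact zero_ne_one hc
  set u : ℕ → X := fun j => (c⁻¹) ^ j • (D.S ^ j) x with hu
  have h1 : ∀ j, D.S (u j) = c • u (j + 1) := by
    intro j
    simp only [hu, map_smul, smul_smul, pow_succ', Module.End.mul_apply]
    rw [← mul_assoc, mul_inv_cancel₀ hc0, one_mul]
  have a1 := Finset.sum_range_succ u D.r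
  rw [Finset.sum_range_succ' u D.r] at a1
  have hwrap : u D.r = u 0 := by simp [hu, D.hS, hc]
  rw [hwrap] at a1
  rw [map_sum, Finset.sum_congr rfl fun j _ => h1 j, ← Finset.smul_sum, add_right_cancel a1]

/-- **No pairing.** -/
theorem no_pairing (hq : D.p ≠ 2) {m : ℕ} (hm : 1 ≤ m) (hr : D.r = 2 ^ m + 1) {ζ : k} (hζ : IsPrimitiveRoot ζ D.r)
    (hcount : ∑ c ∈ (Finset.univ : Finset (Fin D.r)).filter (fun c : Fin D.r => (c : ℕ) ≠ 0),
      Module.finrank k (Turull.eig D.S (ζ ^ (c : ℕ))) ≤ 2 * m)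
    (hS : D.S ≠ 1) (Φ : X → X) (hΦ0 : ∀ x, Φ x = 0 → x = 0) (hΦs : ∀ (c : k) x, Φ (c • x) = c ^ 2 • Φ x)
    (hΦS : ∀ x, D.S (Φ x) = Φ (D.S x)) (hΦρ : ∀ t x, D.ρ t (Φ x) = Φ (D.ρ t x))
    (β : X →ₗ[k] X →ₗ[k] k) (hβ : ∀ x, (∀ y, β x y = 0) → x = 0)
    (hβS : ∀ x y, β (D.S x) (D.S y) = β x y) (hβρ : ∀ t x y, β (D.ρ t x) (D.ρ t y) = β x y)
    (hfix : ∀ x, (∀ t, D.ρ t x = x) → x = 0) : False := by
  classical
  haveI : Fact D.r.Prime := ⟨D.hr⟩
  haveI : NeZero D.r := ⟨D.hr.ne_zero⟩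
  have hr3 : 3 ≤ D.r := by
    have : 2 ^ 1 ≤ 2 ^ m := Nat.pow_le_pow_right (by norm_num) hm
    omega
  have hζne : ζ ≠ 0 := hζ.ne_zero D.hr.ne_zero
  have hΦi : ∀ (i : ℕ) {x : X} {a : k}, x ≠ 0 → D.S x = a • x →
      Φ^[i] x ≠ 0 ∧ D.S (Φ^[i] x) = a ^ 2 ^ i • Φ^[i] x := by
    intro i x a hx hax
    induction i with
    | zero => exact ⟨hx, by simpa using hax⟩
    | succ i ih =>
      rw [Function.iterate_succ_apply']
      exact ⟨fun h0 => ih.1 (hΦ0 _ h0), by rw [hΦS, ih.2, hΦs, ← pow_mul, ← pow_succ]⟩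
  -- every nontrivial eigenspace is at most a line
  have hone : ∀ c : Fin D.r, (c : ℕ) ≠ 0 → Module.finrank k (Turull.eig D.S (ζ ^ (c : ℕ))) ≤ 1 := by
    intro c hc
    by_contra hlt
    push Not at hlt
    set d : Fin D.r → ℕ := fun e => Module.finrank k (Turull.eig D.S (ζ ^ (e : ℕ))) with hd
    let e : Fin (2 * m) → Fin D.r := fun i => ⟨(c : ℕ) * 2 ^ (i : ℕ) % D.r, Nat.mod_lt _ D.hr.pos⟩
    have hcz : ((c : ℕ) : ZMod D.r) ≠ 0 := fun h0 =>
      hc (Nat.eq_zero_of_dvd_of_lt ((ZMod.natCast_eq_zero_iff _ _).1 h0) c.2)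
    have h2z : (2 : ZMod D.r) ≠ 0 := by
      intro h0
      have : ((2 : ℕ) : ZMod D.r) = 0 := by exact_mod_cast h0
      have := Nat.le_of_dvd (by norm_num) ((ZMod.natCast_eq_zero_iff _ _).1 this)
      omega
    have hev : ∀ i, (((e i : Fin D.r) : ℕ) : ZMod D.r) = ((c : ℕ) : ZMod D.r) * 2 ^ (i : ℕ) := fun i => by
      simp [e, ZMod.natCast_mod]
    have hinj : Function.Injective e := by
      intro i j hij
      have h1 : ((c : ℕ) : ZMod D.r) * 2 ^ (i : ℕ) = ((c : ℕ) : ZMod D.r) * 2 ^ (j : ℕ) := by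
        rw [← hev, ← hev, hij]
      have h2 := mul_left_cancel₀ hcz h1
      by_contra hne
      rcases lt_or_gt_of_ne (Fin.val_ne_of_ne hne) with hl | hl
      · rw [show (j : ℕ) = i + (j - i) by omega, pow_add] at h2
        exact two_pow_ne_one hr (by omega) (by omega) (mul_left_cancel₀ (pow_ne_zero _ h2z) (h2.symm.trans (mul_one _).symm))
      · rw [show (i : ℕ) = j + (i - j) by omega, pow_add] at h2
        exact two_pow_ne_one hr (by omega) (by omega) (mul_left_cancel₀ (pow_ne_zero _ h2z) (h2.trans (mul_one _).symm))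
    have he0 : ∀ i, ((e i : Fin D.r) : ℕ) ≠ 0 := fun i h0 => by
      have := hev i
      rw [h0, Nat.cast_zero] at this
      exact (mul_ne_zero hcz (pow_ne_zero _ h2z)) this.symm
    have hpos : ∀ i, 1 ≤ d (e i) := by
      intro i
      obtain ⟨x, hx, hx0⟩ := Submodule.exists_mem_ne_zero_of_ne_bot
        (show Turull.eig D.S (ζ ^ (c : ℕ)) ≠ ⊥ from fun h0 => by rw [h0, finrank_bot] at hlt; omega)
      obtain ⟨h1, h2⟩ := hΦi (i : ℕ) hx0 (mem_eig.1 hx)
      refine Submodule.one_le_finrank_iff.2 fun h0 => h1 ?_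
      refine (Submodule.eq_bot_iff _).1 h0 _ (mem_eig.2 ?_)
      rw [h2, ← pow_mul]
      congr 1
      exact pow_eq_pow_mod _ hζ.pow_eq_one
    have h0i : e ⟨0, by omega⟩ = c := Fin.ext (by simp [e, Nat.mod_eq_of_lt c.2])
    have hsum : ∑ i, d (e i) ≤ 2 * m := by
      refine le_trans ?_ hcount
      rw [← Finset.sum_image (f := d) (g := e) fun a _ b _ hab => hinj hab]
      refine Finset.sum_le_sum_of_subset fun x hx => ?_
      obtain ⟨i, -, rfl⟩ := Finset.mem_image.1 hx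
      exact Finset.mem_filter.2 ⟨Finset.mem_univ _, he0 i⟩
    have hstrict : ∑ _i : Fin (2 * m), 1 < ∑ i, d (e i) :=
      Finset.sum_lt_sum (fun i _ => hpos i) ⟨⟨0, by omega⟩, Finset.mem_univ _, by rw [h0i]; exact hlt⟩
    simp only [Finset.sum_const, Finset.card_univ, Fintype.card_fin, smul_eq_mul, mul_one] at hstrict
    omega
  -- pairing of eigenvectors
  have hpair : ∀ (c : Fin D.r) {x : X}, x ∈ Turull.eig D.S (ζ ^ (c : ℕ)) → ∀ w, β x w ≠ 0 →
      ∃ e : Fin D.r, ζ ^ (c : ℕ) * ζ ^ (e : ℕ) = 1 ∧ β x (specProj D.S D.r ζ e w) ≠ 0 := by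
    intro c x hx w hw
    have h1 : ∃ e : Fin D.r, β x (specProj D.S D.r ζ e w) ≠ 0 := by
      by_contra hcon
      push Not at hcon
      apply hw
      rw [← sum_specProj (G := D.S) D.hkr hζ w, map_sum]
      exact Finset.sum_eq_zero fun e _ => hcon e
    obtain ⟨e, he⟩ := h1
    refine ⟨e, ?_, he⟩
    have h2 := hβS x (specProj D.S D.r ζ e w)
    rw [mem_eig.1 hx, mem_eig.1 (specProj_apply_mem D.hS hζ e w), map_smul, map_smul, LinearMap.smul_apply,
      smul_eq_mul, smul_eq_mul, ← mul_assoc] at h2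
    rw [mul_comm]
    exact (mul_eq_right₀ he).1 h2
  by_cases hcase : ∀ t v, D.S (D.ρ t v) = D.ρ t (D.S v)
  · -- the group preserves every eigenline
    obtain ⟨c, hc, x, hx, hx0⟩ : ∃ c : Fin D.r, (c : ℕ) ≠ 0 ∧ ∃ x ∈ Turull.eig D.S (ζ ^ (c : ℕ)), x ≠ 0 := by
      by_contra hcon
      push Not at hcon
      refine hS (LinearMap.ext fun v => ?_)
      rw [← sum_specProj (G := D.S) D.hkr hζ v, map_sum, Module.End.one_apply]
      refine Finset.sum_congr rfl fun c _ => ?_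
      have hm' := specProj_apply_mem (G := D.S) D.hS hζ c v
      by_cases hc : (c : ℕ) = 0
      · rw [mem_eig.1 hm', hc, pow_zero, one_smul]
      · rw [hcon c hc _ hm', map_zero]
    refine hx0 (hfix x fun t => ?_)
    have hinv : D.ρ t x ∈ Turull.eig D.S (ζ ^ (c : ℕ)) := by
      rw [mem_eig, hcase, mem_eig.1 hx, map_smul]
    obtain ⟨μ, hμ⟩ := exists_smul_of_finrank_le_one (hone c hc) hx hx0 hinv
    obtain ⟨y, hy⟩ : ∃ y, β x y ≠ 0 := by
      by_contra hcon
      push Not at hcon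
      exact hx0 (hβ x hcon)
    obtain ⟨e, he, hey⟩ := hpair c hx y hy
    obtain ⟨hz0, hzS⟩ := hΦi m hx0 (mem_eig.1 hx)
    have hζe : (ζ ^ (c : ℕ)) ^ 2 ^ m = ζ ^ (e : ℕ) := by
      refine mul_left_cancel₀ (pow_ne_zero (c : ℕ) hζne) ?_
      rw [he, ← pow_succ', ← hr, ← pow_mul, mul_comm, pow_mul, hζ.pow_eq_one, one_pow]
    rw [hζe] at hzS
    have hec : (e : ℕ) ≠ 0 := fun h0 => by
      rw [h0, pow_zero, mul_one] at he
      exact hζ.pow_ne_one_of_pos_of_lt hc c.2 he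
    obtain ⟨s, hs⟩ := exists_smul_of_finrank_le_one (hone e hec) (mem_eig.2 hzS) hz0
      (specProj_apply_mem D.hS hζ e y)
    have hne : β x (Φ^[m] x) ≠ 0 := fun h0 => hey (by rw [hs, map_smul, h0, smul_zero])
    have hΦρi : ∀ i : ℕ, D.ρ t (Φ^[i] x) = μ ^ 2 ^ i • Φ^[i] x := fun i => by
      induction i with
      | zero => simpa using hμ
      | succ i ih => rw [Function.iterate_succ_apply', hΦρ, ih, hΦs, ← pow_mul, ← pow_succ]
    have h1 := hβρ t x (Φ^[m] x)
    rw [hμ, hΦρi, map_smul, map_smul, LinearMap.smul_apply, smul_eq_mul, smul_eq_mul, ← mul_assoc,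
      ← pow_succ, ← hr] at h1
    have hμr : μ ^ D.r = 1 := (mul_eq_right₀ hne).1 h1
    have hpow : ∀ i : ℕ, D.ρ (t ^ i) x = μ ^ i • x := fun i => by
      induction i with
      | zero => rw [pow_zero, D.ρ_one, pow_zero, one_smul]
      | succ i ih => rw [pow_succ', D.ρ_mul, ih, map_smul, hμ, smul_smul, ← pow_succ]
    obtain ⟨i, hi⟩ := D.hT t
    have hμp : μ ^ D.p ^ i = 1 := by
      have := hpow (D.p ^ i)
      rw [hi, D.ρ_one] at this
      exact (smul_left_injective k hx0 (this.symm.trans (one_smul k x).symm))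
    have h3 := pow_gcd_eq_one.2 ⟨hμr, hμp⟩
    rw [((((Nat.coprime_primes D.hr D.hp).2 (Ne.symm D.hpr))).pow_right i).gcd_eq_one, pow_one] at h3
    rw [hμ, h3, one_smul]
  push Not at hcase
  obtain ⟨u, v, huv⟩ := hcase
  obtain ⟨χ, hχc, w, hw, hne⟩ : ∃ χ : T → k, D.IsComp χ ∧ ∃ w ∈ D.space χ, D.ρ (u⁻¹ * D.σ u) w ≠ w := by
    by_contra hcon
    push Not at hcon
    apply huv
    rw [D.S_ρ]
    conv_lhs => rw [← D.sum_proj (D.S v)]
    conv_rhs => rw [← D.sum_proj (D.S v)]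
    rw [map_sum, map_sum]
    refine Finset.sum_congr rfl fun φ hφ => ?_
    have hφc : D.IsComp φ := (D.finite_isComp).mem_toFinset.1 hφ
    conv_rhs => rw [← hcon φ hφc _ (hφc.proj_mem (D.S v)), ← D.ρ_mul, mul_inv_cancel_left]
  have hw0 : w ≠ 0 := fun h0 => hne (by rw [h0, map_zero])
  obtain ⟨y, hy⟩ : ∃ y, β w y ≠ 0 := by
    by_contra hcon
    push Not at hcon
    exact hw0 (hβ w hcon)
  obtain ⟨hψ, hψy⟩ := exists_dual_comp hχc β hβρ hw hy
  set ψ : T → k := fun z => (χ z)⁻¹ with hψd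
  have hodd : ∀ z, χ z ≠ 0 → χ z * χ z = 1 → χ z = 1 := by
    intro z hz hsq
    have hpow : ∀ i : ℕ, χ (z ^ i) = χ z ^ i := fun i => by
      induction i with
      | zero => rw [pow_zero, pow_zero, hχc.one]
      | succ i ih => rw [pow_succ', hχc.mul _ _ hz, ih, pow_succ']
    obtain ⟨i, hi⟩ := D.hT z
    have h2 : χ z ^ D.p ^ i = 1 := by rw [← hpow, hi, hχc.one]
    have h3 := pow_gcd_eq_one.2 ⟨(pow_two (χ z)).trans hsq, h2⟩
    rw [(((Nat.coprime_primes Nat.prime_two D.hp).2 (Ne.symm hq)).pow_right i).gcd_eq_one, pow_one] at h3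
    exact h3
  have htriv : ψ = χ → ∀ z, χ z = 1 := by
    intro heq
    have hall : ∀ z, χ z ≠ 0 → χ z = 1 := fun z hz => hodd z hz (by
      have := congrFun heq z
      simp only [hψd] at this
      nth_rewrite 1 [← this]
      exact inv_mul_cancel₀ hz)
    exact fun z => hall z ((hχc.supp z).2 fun t => hall _ (hχc.comm_supp z t))
  by_cases hmv : ∃ t, χ (D.σ t) ≠ χ t
  · -- two orbits of eigenvectors
    have hne1 : ((⟨1, by omega⟩ : Fin D.r) : ℕ) ≠ 0 := Nat.one_ne_zero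
    have hle := hone _ hne1
    have hc1 : (ζ ^ 1) ^ D.r = 1 := by rw [pow_one, hζ.pow_eq_one]
    have hψmv : ∃ t, ψ (D.σ t) ≠ ψ t := by
      obtain ⟨t, ht⟩ := hmv
      exact ⟨t, fun h' => ht (inv_injective h')⟩
    set x' := D.proj ψ y with hx'
    have hx'0 : x' ≠ 0 := fun h0 => hy (hψy.symm.trans ((congrArg (β w) h0).trans (map_zero (β w))))
    set a := ∑ j ∈ Finset.range D.r, ((ζ ^ 1)⁻¹) ^ j • (D.S ^ j) w with ha
    set b := ∑ j ∈ Finset.range D.r, ((ζ ^ 1)⁻¹) ^ j • (D.S ^ j) x' with hb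
    have hpa : D.proj χ a = w := D.moved_sum_proj hχc hmv hw _
    have hpb : D.proj ψ b = x' := D.moved_sum_proj hψ hψmv (hψ.proj_mem y) _
    have hpb' : D.proj χ b = 0 := by
      rw [hb, map_sum]
      refine Finset.sum_eq_zero fun j _ => ?_
      rw [map_smul, D.proj_pow hχc, (hχc.comp_pow j).proj_eq_zero hψ (fun hf => ?_) (hψ.proj_mem y), map_zero,
        smul_zero]
      obtain ⟨t, ht⟩ := hmv
      by_cases hd : D.r ∣ j
      · refine ht ?_
        obtain ⟨l, rfl⟩ := hd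
        have heq : ψ = χ := funext fun z => by
          have := congrFun hf z
          simp only [D.σ_pow_r] at this
          exact this.symm
        rw [htriv heq, htriv heq]
      · refine ht ?_
        have h2j : ¬ D.r ∣ 2 * j := fun h2 => hd ((((Nat.coprime_primes D.hr Nat.prime_two).2
          (by omega)).dvd_mul_left).1 h2)
        have := D.eq_of_pow_eq (fun i => χ ((D.σ ^ i) t)) (d := 2 * j) h2j (fun i => by
          have e1 := congrFun hf ((D.σ ^ (i + j)) t)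
          have e2 := congrFun hf ((D.σ ^ i) t)
          simp only [hψd, ← D.σ_pow_add] at e1 e2
          rw [Nat.add_comm j i] at e2
          rw [show j + (i + j) = i + 2 * j by ring] at e1
          rw [e1, e2, inv_inv]) (fun i l => by rw [D.σ_pow_add, D.σ_pow_r])
        simpa using this
    have h2 := two_le_finrank_of_pair (E := Turull.eig D.S (ζ ^ 1)) (D.eigen_sum hc1 (x := w))
      (D.eigen_sum hc1 (x := x')) (fun h0 => hw0 (by rw [← hpa, ha, h0, map_zero]))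
      (fun s hs => by
        have hs' : b = s • a := hs
        have h1 := hpb'
        rw [hs', map_smul, hpa, smul_eq_zero] at h1
        rw [hs', h1.resolve_right hw0, zero_smul, map_zero] at hpb
        exact hx'0 hpb.symm)
    have hle' : Module.finrank k (Turull.eig D.S (ζ ^ 1)) ≤ 1 := hle
    omega
  push Not at hmv
  have hψf : ∀ t, ψ (D.σ t) = ψ t := fun t => by simp only [hψd, hmv]
  have hne' : ψ ≠ χ := fun heq => hne (by
    rw [hw _ (by rw [htriv heq]; exact one_ne_zero), htriv heq, one_smul])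
  -- the eigenvalues on the part and on its inverse
  let L : (T → k) → Finset (Fin D.r) := fun φ =>
    Finset.univ.filter fun c : Fin D.r =>
      (c : ℕ) ≠ 0 ∧ ∃ x ∈ D.space φ, x ≠ 0 ∧ D.S x = ζ ^ (c : ℕ) • x
  have hdisj : Disjoint (L χ) (L ψ) := by
    rw [Finset.disjoint_left]
    intro c h1 h2
    simp only [L, Finset.mem_filter, Finset.mem_univ, true_and] at h1 h2
    obtain ⟨hc, x, hx, hx0, hxS⟩ := h1
    obtain ⟨-, z, hz, hz0, hzS⟩ := h2
    obtain ⟨s, hs⟩ := exists_smul_of_finrank_le_one (hone c hc) (mem_eig.2 hxS) hx0 (mem_eig.2 hzS)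
    exact hne' ((hψ.eq_of_mem hχc hz0 hz (hs ▸ (D.space χ).smul_mem s hx)))
  have hmap : ∀ c ∈ L χ, ∃ e ∈ L ψ, ζ ^ (c : ℕ) * ζ ^ (e : ℕ) = 1 := by
    intro c hc
    simp only [L, Finset.mem_filter, Finset.mem_univ, true_and] at hc ⊢
    obtain ⟨hc0, x, hx, hx0, hxS⟩ := hc
    obtain ⟨z, hz⟩ : ∃ z, β x z ≠ 0 := by
      by_contra hcon
      push Not at hcon
      exact hx0 (hβ x hcon)
    obtain ⟨e, he, hez⟩ := hpair c (mem_eig.2 hxS) z hz
    obtain ⟨hψ', hzψ⟩ := exists_dual_comp hχc β hβρ hx hez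
    refine ⟨e, ⟨fun h0 => ?_, D.proj ψ (specProj D.S D.r ζ e z), hψ.proj_mem _, fun h0 => ?_, ?_⟩, he⟩
    · rw [h0, pow_zero, mul_one] at he
      exact hζ.pow_ne_one_of_pos_of_lt hc0 c.2 he
    · exact hez (by rw [← hzψ, show D.proj ψ (specProj D.S D.r ζ e z) = 0 from h0, map_zero])
    · rw [← D.proj_S_fixed hψ hψf, mem_eig.1 (specProj_apply_mem D.hS hζ e z), map_smul]
  choose f hf hfe using hmap
  have hcard : (L χ).card ≤ (L ψ).card :=
    Finset.card_le_card_of_injOn (fun c => if h : c ∈ L χ then f c h else c)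
      (fun c hc => by rw [Finset.mem_coe] at hc ⊢; simp only [dif_pos hc]; exact hf c hc)
      (fun c hc d hd hcd => by
        rw [Finset.mem_coe] at hc hd
        simp only [dif_pos hc, dif_pos hd] at hcd
        have := (hfe c hc).trans (hfe d hd).symm
        rw [hcd] at this
        exact Fin.ext (hζ.pow_inj c.2 d.2 (mul_right_cancel₀ (pow_ne_zero _ hζne) this)))
  have h2m : (L χ).card + (L ψ).card ≤ 2 * m := by
    rw [← Finset.card_union_of_disjoint hdisj, Finset.card_eq_sum_ones]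
    refine le_trans ?_ hcount
    refine le_trans (Finset.sum_le_sum fun c hc => ?_) (Finset.sum_le_sum_of_subset fun c hc => ?_)
    · rcases Finset.mem_union.1 hc with h1 | h1 <;>
      · simp only [L, Finset.mem_filter, Finset.mem_univ, true_and] at h1
        obtain ⟨-, x, -, hx0, hxS⟩ := h1
        exact Submodule.one_le_finrank_iff.2 fun h0 => hx0 ((Submodule.eq_bot_iff _).1 h0 _ (mem_eig.2 hxS))
    · rcases Finset.mem_union.1 hc with h1 | h1 <;>
      · simp only [L, Finset.mem_filter, Finset.mem_univ, true_and] at h1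
        exact Finset.mem_filter.2 ⟨Finset.mem_univ _, h1.1⟩
  have hR : ∃ t, ∃ v ∈ D.space χ, D.ρ (t⁻¹ * D.σ t) v ≠ v := ⟨u, w, hw, hne⟩
  obtain ⟨n, hn, hn2, hdvd, hb⟩ := hχc.card_mV_bound hmv (hχc.nontrivial_mV hmv hR) hζ
    (insert 0 (L χ)) (fun b hb x hx hxS => by
      rw [Finset.mem_insert, not_or] at hb
      by_contra hx0
      exact hb.2 (Finset.mem_filter.2 ⟨Finset.mem_univ _, fun h0 => hb.1 (Fin.ext h0), x, hx, hx0, hxS⟩))
  haveI := Fact.mk D.hp
  obtain ⟨j, hj⟩ := IsPGroup.iff_card.1 (hχc.isPGroup_mV hmv)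
  rw [hn] at hj
  have hno := odd_of_sq_eq D.hp hq hj
  have hn3 : 3 ≤ n := by omega
  have hrn := le_succ_of_dvd_sq_sub_one D.hr hn2 hdvd
  have hb' : D.r * (n * n) ≤ (m + 1) * (n * n + (D.r - 1)) :=
    hb.trans (Nat.mul_le_mul_right _ ((Finset.card_insert_le _ _).trans (by omega)))
  rw [hr, Nat.add_sub_cancel] at hb'
  exact inert_arith hm Nat.lt_two_pow_self hn3 (by omega) (fun h1 => by rw [h1]) (fun h2 => by
    obtain ⟨l, rfl⟩ : ∃ l, m = l + 1 := ⟨m - 1, by omega⟩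
    have := (Nat.lt_two_pow_self : l < 2 ^ l)
    rw [pow_succ]; omega) hb'

end Sys

end CfsgLib.Turull
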