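import Cfsg.Agent.Turull.LevelKC

/-!
Chains of fixed subgroups, glued from pieces of a tower.
-/

set_option autoImplicit false
set_option linter.style.haveILetI false
set_option linter.unusedSectionVars false

namespace CfsgLib.Turull

open Subgroup
open scoped commutatorElement

variable {G : Type*} [Group G] [Finite G]

/-- A chain inside a subgroup, without the condition on its first member. -/
structure PreChain (C : Subgroup G) (l : ℕ) (Q K : ℕ → Subgroup G) (q : ℕ → ℕ) : Prop where
  prime : ∀ i, i < l → (q i).Prime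
  pgroup : ∀ i, i < l → IsPGroup (q i) (Q i)
  le : ∀ i, i < l → Q i ≤ C
  adj : ∀ i, i + 1 < l → q i ≠ q (i + 1)
  norm : ∀ i, i + 1 < l → Q i ≤ normalizer (Q (i + 1) : Set G)
  kernel : ∀ i, i + 1 < l → ∀ x ∈ Q i, (∀ y ∈ Q (i + 1), disp x y ∈ K (i + 1)) → x ∈ K i

theorem PreChain.nres_ne_bot {C : Subgroup G} {l : ℕ} {Q K : ℕ → Subgroup G} {q : ℕ → ℕ} (hl : 1 ≤ l)
    (h : PreChain C l Q K q) (hbot : ¬ Q 0 ≤ K 0) :
    CfsgLib.SFTCor.nres^[l - 1] (⊤ : Subgroup C) ≠ ⊥ := by
  refine nres_ne_bot_of_chain hl (fun i => (Q i).subgroupOf C) (fun i => (K i).subgroupOf C) q h.prime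
    (fun i hi => ?_) h.adj (fun i hi g hg => ?_) (fun i hi x hx hd => ?_) (fun hle => ?_)
  · exact (h.pgroup i hi).of_equiv (Subgroup.subgroupOfEquivOfLe (h.le i hi)).symm
  · rw [mem_normalizer_iff]
    intro z
    simp only [Subgroup.mem_subgroupOf, Subgroup.coe_mul, Subgroup.coe_inv]
    exact mem_normalizer_iff.1 (h.norm i hi hg) z
  · refine h.kernel i hi x hx fun y hy => ?_
    exact hd ⟨y, h.le (i + 1) hi hy⟩ hy
  · exact hbot fun x hx => hle (show (⟨x, h.le 0 hl hx⟩ : C) ∈ (Q 0).subgroupOf C from hx)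

/-- The kernels of a bottom piece glued to a chain with first member `E`, first kernel `F`. -/
def bkFrom (R : ℕ → Subgroup G) (E F : Subgroup G) : ℕ → ℕ → Subgroup G
  | 0, i => R i ⊓ actKer E F
  | d + 1, i => R i ⊓ actKer (R (i + 1)) (bkFrom R E F d (i + 1))

theorem normalizer_bkFrom {R : ℕ → Subgroup G} {E F : Subgroup G} {g : G} {d i : ℕ}
    (hR : ∀ j, i ≤ j → j ≤ i + d → g ∈ normalizer (R j : Set G)) (hE : g ∈ normalizer (E : Set G))
    (hF : g ∈ normalizer (F : Set G)) : g ∈ normalizer (bkFrom R E F d i : Set G) := by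
  induction d generalizing i with
  | zero =>
    refine mem_normalizer_of_conj_iff fun x => ?_
    simp only [bkFrom, Subgroup.mem_inf]
    rw [← mem_iff_conj_of_mem_normalizer (hR i le_rfl le_rfl),
      ← mem_iff_conj_of_mem_normalizer (normalizer_actKer hE hF)]
  | succ d ih =>
    refine mem_normalizer_of_conj_iff fun x => ?_
    simp only [bkFrom, Subgroup.mem_inf]
    rw [← mem_iff_conj_of_mem_normalizer (hR i le_rfl (by omega)), ← mem_iff_conj_of_mem_normalizer
      (normalizer_actKer (hR (i + 1) (by omega) (by omega)) (ih fun j hj hj' => hR j (by omega) (by omega)))]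

/-- A bottom piece of `b` members in front of a chain. -/
def glueQ (b : ℕ) (R Q : ℕ → Subgroup G) (i : ℕ) : Subgroup G := if i < b then R i else Q (i - b)

/-- The kernels of a glued chain. -/
def glueK (b : ℕ) (R Q K : ℕ → Subgroup G) (i : ℕ) : Subgroup G :=
  if i < b then bkFrom R (Q 0) (K 0) (b - 1 - i) i else K (i - b)

/-- The primes of a glued chain. -/
def glueP (b : ℕ) (pr q : ℕ → ℕ) (i : ℕ) : ℕ := if i < b then pr i else q (i - b)

theorem glueQ_zero {b : ℕ} (hb : 1 ≤ b) (R Q : ℕ → Subgroup G) : glueQ b R Q 0 = R 0 := if_pos hb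

theorem glueQ_one (R Q : ℕ → Subgroup G) (i : ℕ) : glueQ 1 R Q (i + 1) = Q i := if_neg (by omega)

theorem glueK_one_zero (R Q K : ℕ → Subgroup G) : glueK 1 R Q K 0 = R 0 ⊓ actKer (Q 0) (K 0) := by
  simp [glueK, bkFrom]

theorem PreChain.glue {C : Subgroup G} {l : ℕ} {Q K : ℕ → Subgroup G} {q : ℕ → ℕ} (h : PreChain C l Q K q)
    (hl : 1 ≤ l) {b : ℕ} {R : ℕ → Subgroup G} {pr : ℕ → ℕ}
    (hprime : ∀ i, i < b → (pr i).Prime) (hpg : ∀ i, i < b → IsPGroup (pr i) (R i))
    (hle : ∀ i, i < b → R i ≤ C) (hadj : ∀ i, i + 1 < b → pr i ≠ pr (i + 1)) (hjoin : pr (b - 1) ≠ q 0)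
    (hnR : ∀ i j, i ≤ j → j < b → R i ≤ normalizer (R j : Set G))
    (hnQ : ∀ i, i < b → R i ≤ normalizer (Q 0 : Set G)) (hnK : ∀ i, i < b → R i ≤ normalizer (K 0 : Set G)) :
    PreChain C (b + l) (glueQ b R Q) (glueK b R Q K) (glueP b pr q) := by
  refine ⟨fun i hi => ?_, fun i hi => ?_, fun i hi => ?_, fun i hi => ?_, fun i hi => ?_,
    fun i hi x hx hd => ?_⟩
  · simp only [glueP]
    split
    · exact hprime i ‹_›
    · exact h.prime _ (by omega)
  · by_cases h1 : i < b
    · rw [show glueQ b R Q i = R i from if_pos h1, show glueP b pr q i = pr i from if_pos h1]; exact hpg i h1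
    · rw [show glueQ b R Q i = Q (i - b) from if_neg h1, show glueP b pr q i = q (i - b) from if_neg h1]
      exact h.pgroup _ (by omega)
  · simp only [glueQ]
    split
    · exact hle i ‹_›
    · exact h.le _ (by omega)
  · simp only [glueP]
    by_cases h1 : i + 1 < b
    · rw [if_pos (by omega), if_pos h1]; exact hadj i h1
    · by_cases h2 : i < b
      · obtain rfl : b = i + 1 := by omega
        rw [if_pos h2, if_neg h1, Nat.sub_self]
        exact hjoin
      · rw [if_neg h2, if_neg h1, show i + 1 - b = i - b + 1 by omega]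
        exact h.adj _ (by omega)
  · simp only [glueQ]
    by_cases h1 : i + 1 < b
    · rw [if_pos (by omega), if_pos h1]; exact hnR i (i + 1) (by omega) h1
    · by_cases h2 : i < b
      · obtain rfl : b = i + 1 := by omega
        rw [if_pos h2, if_neg h1, Nat.sub_self]
        exact hnQ i h2
      · rw [if_neg h2, if_neg h1, show i + 1 - b = i - b + 1 by omega]
        exact h.norm _ (by omega)
  · simp only [glueQ, glueK] at hx hd ⊢
    by_cases h1 : i + 1 < b
    · rw [if_pos (show i < b by omega)] at hx ⊢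
      simp only [if_pos h1] at hd
      rw [show b - 1 - i = (b - 1 - (i + 1)) + 1 by omega, bkFrom]
      refine ⟨hx, mem_actKer.2 ⟨?_, hd⟩⟩
      exact normalizer_bkFrom (fun j hj hj' => hnR i j (by omega) (by omega) hx) (hnQ i (by omega) hx)
        (hnK i (by omega) hx)
    · by_cases h2 : i < b
      · obtain rfl : b = i + 1 := by omega
        rw [if_pos h2] at hx ⊢
        simp only [if_neg h1, Nat.sub_self] at hd
        rw [show i + 1 - 1 - i = 0 by omega, bkFrom]
        exact ⟨hx, mem_actKer.2 ⟨hnK i h2 hx, hd⟩⟩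
      · rw [if_neg h2] at hx ⊢
        simp only [if_neg h1, show i + 1 - b = i - b + 1 by omega] at hd
        exact h.kernel _ (by omega) x hx hd

theorem glue_bot {b : ℕ} {R Q K : ℕ → Subgroup G} (hb : 1 ≤ b)
    (hcomm : ∀ i, i + 1 < b → ⁅R (i + 1), R i⁆ = R (i + 1)) (hlast : ¬ R (b - 1) ≤ actKer (Q 0) (K 0)) :
    ¬ glueQ b R Q 0 ≤ glueK b R Q K 0 := by
  simp only [glueQ, glueK, if_pos (show 0 < b by omega)]
  have key : ∀ d i, i + d + 1 = b → ¬ R i ≤ bkFrom R (Q 0) (K 0) d i := by
    intro d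
    induction d with
    | zero =>
      intro i hi h
      obtain rfl : i = b - 1 := by omega
      exact hlast (h.trans inf_le_right)
    | succ d ih =>
      intro i hi h
      refine ih (i + 1) (by omega) ?_
      rw [← hcomm i (by omega)]
      exact commutator_le_of_le_actKer (h.trans inf_le_right)
  exact key (b - 1 - 0) 0 (by omega)

variable {A : Type*} [Group A] [MulDistribMulAction A G] {N : ℕ} {P : ℕ → Subgroup G} {p : ℕ → ℕ}

namespace IsGood

variable (hP : IsGood A N P p) {a : A}
include hP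

/-- The fixed points of the upper levels form a chain. -/
theorem upper_chain {s l : ℕ} (hl : s + l = N) :
    PreChain (fixBy a) l (fun i => P (s + i) ⊓ fixBy a) (fun i => kc N P a (s + i)) (fun i => p (s + i)) := by
  refine ⟨fun i hi => hP.tower.prime _ (by omega), fun i hi => (hP.tower.pgroup _ (by omega)).to_le inf_le_left,
    fun i hi => inf_le_right, fun i hi => hP.tower.adj (s + i) (by omega), fun i hi x hx => ?_,
    fun i hi x hx hd => ?_⟩
  · exact fixBy_le_normalizer hx.2 (hP.tower.le_normalizer (by omega) (by omega) hx.1)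
  · rw [kc_succ (show s + i + 1 < N by omega)]
    exact ⟨hx, mem_actKer.2 ⟨hP.normalizer_kc (Nat.le_succ _) (by omega) hx.1 hx.2, hd⟩⟩

/-- Fixed levels at the bottom form a chain. -/
theorem lower_chain {l : ℕ} (hl : l ≤ N) (hfix : ∀ i, i < l → P i ≤ fixBy a) :
    PreChain (fixBy a) l P (ker N P) p :=
  ⟨fun i hi => hP.tower.prime _ (by omega), fun i hi => hP.tower.pgroup _ (by omega), hfix,
    fun i hi => hP.tower.adj i (by omega), fun i hi => hP.tower.norm i (i + 1) (by omega) (by omega),
    fun i hi _ hx hd => hP.tower.mem_ker (by omega) hx hd⟩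

end IsGood

end CfsgLib.Turull
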