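import Mathlib.LinearAlgebra.Eigenspace.Triangularizable
import Mathlib.LinearAlgebra.Dual.Lemmas
import Mathlib.LinearAlgebra.Trace
import Mathlib.LinearAlgebra.Dimension.Constructions
import Mathlib.FieldTheory.IsAlgClosed.Basic
import Mathlib.GroupTheory.GroupAction.Quotient
import Mathlib.RingTheory.Artinian.Module
import Mathlib.RingTheory.IntegralDomain

/-!
Projective representations of a finite abelian group with non-degenerate commutator form.
-/

set_option autoImplicit false
set_option linter.style.haveILetI false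
set_option linter.unusedSectionVars false

namespace CfsgLib.Turull

variable {k : Type*} [Field k] {V : Type*} [CommGroup V] [Finite V]

/-- A factor set with non-degenerate commutator form. -/
structure Factor (k : Type*) [Field k] (V : Type*) [CommGroup V] where
  c : V → V → k
  ne : ∀ v w, c v w ≠ 0
  nondeg : ∀ v, v ≠ 1 → ∃ w, c v w ≠ c w v

variable {W : Type*} [AddCommGroup W] [Module k W] {W' : Type*} [AddCommGroup W'] [Module k W']

/-- A projective representation with a given factor set. -/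
structure IsRep (C : Factor k V) (M : V → Module.End k W) : Prop where
  one : M 1 = 1
  mul : ∀ v w, M v * M w = C.c v w • M (v * w)

namespace Factor

variable (C : Factor k V)

/-- The commutator form. -/
def b (v w : V) : k := C.c v w / C.c w v

theorem b_ne (v w : V) : C.b v w ≠ 0 := div_ne_zero (C.ne v w) (C.ne w v)

theorem b_symm (v w : V) : C.b v w * C.b w v = 1 := by
  rw [b, b]; field_simp [C.ne v w, C.ne w v]

theorem b_self (v : V) : C.b v v = 1 := div_self (C.ne v v)

theorem exists_b_ne {v : V} (hv : v ≠ 1) : ∃ w, C.b v w ≠ 1 := by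
  obtain ⟨w, hw⟩ := C.nondeg v hv
  exact ⟨w, fun h => hw ((div_eq_one_iff_eq (C.ne w v)).1 h)⟩

end Factor

namespace IsRep

variable {C : Factor k V} {M : V → Module.End k W} (h : IsRep C M)
include h

theorem mul_apply (v w : V) (x : W) : M v (M w x) = C.c v w • M (v * w) x := LinearMap.congr_fun (h.mul v w) x

theorem comm (v w : V) : M v * M w = C.b v w • (M w * M v) := by
  rw [h.mul, h.mul, smul_smul, mul_comm w v, Factor.b, div_mul_cancel₀ _ (C.ne w v)]

theorem comm_apply (v w : V) (x : W) : M v (M w x) = C.b v w • M w (M v x) := LinearMap.congr_fun (h.comm v w) x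

/-- The inverse of an operator of the representation. -/
theorem inv_mul' (v : V) : ((C.c v⁻¹ v)⁻¹ • M v⁻¹) * M v = 1 := by
  rw [smul_mul_assoc, h.mul, inv_mul_cancel, h.one, smul_smul, inv_mul_cancel₀ (C.ne _ _), one_smul]

theorem mul_inv' (v : V) : M v * ((C.c v v⁻¹)⁻¹ • M v⁻¹) = 1 := by
  rw [mul_smul_comm, h.mul, mul_inv_cancel, h.one, smul_smul, inv_mul_cancel₀ (C.ne _ _), one_smul]

theorem injective (v : V) : Function.Injective (M v) := fun x y hxy => by
  have := congrArg (fun z => ((C.c v⁻¹ v)⁻¹ • M v⁻¹) z) hxy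
  simp only [← Module.End.mul_apply, h.inv_mul', Module.End.one_apply] at this
  exact this

theorem apply_ne_zero (v : V) {x : W} (hx : x ≠ 0) : M v x ≠ 0 := fun h0 =>
  hx (h.injective v (h0.trans (map_zero (M v)).symm))

variable [Nontrivial W]

theorem b_mul_left (v w u : V) : C.b (v * w) u = C.b v u * C.b w u := by
  obtain ⟨x, hx⟩ := exists_ne (0 : W)
  have h1 : M v (M w (M u x)) = (C.c v w * C.b (v * w) u) • M u (M (v * w) x) := by
    rw [h.mul_apply v w (M u x), h.comm_apply (v * w) u, smul_smul]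
  have h2 : M v (M w (M u x)) = (C.b w u * C.b v u * C.c v w) • M u (M (v * w) x) := by
    rw [h.comm_apply w u, map_smul, h.comm_apply v u, h.mul_apply v w x, map_smul, smul_smul, smul_smul]
  have h3 := smul_left_injective k (h.apply_ne_zero u (h.apply_ne_zero _ hx)) (h1.symm.trans h2)
  have h4 : C.c v w * C.b (v * w) u = C.c v w * (C.b v u * C.b w u) := by rw [h3]; ring
  exact mul_left_cancel₀ (C.ne v w) h4

theorem b_one_left (u : V) : C.b 1 u = 1 := by
  have := h.b_mul_left 1 1 u
  rw [one_mul] at this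
  exact mul_left_cancel₀ (C.b_ne 1 u) (this.symm.trans (mul_one _).symm)

theorem b_mul_right (u v w : V) : C.b u (v * w) = C.b u v * C.b u w := by
  have h1 := h.b_mul_left v w u
  have e : ∀ a b : V, C.b a b = (C.b b a)⁻¹ := fun a b => eq_inv_of_mul_eq_one_left (C.b_symm a b)
  rw [e u (v * w), h1, mul_inv, ← e, ← e]

theorem b_inv_right (u v : V) : C.b u v⁻¹ = (C.b u v)⁻¹ := by
  refine eq_inv_of_mul_eq_one_left ?_
  rw [← h.b_mul_right, inv_mul_cancel, ← mul_left_cancel₀ (C.b_ne u 1)
    (((h.b_mul_right u 1 1).symm.trans (by rw [one_mul])).trans (mul_one _).symm)]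

theorem sum_b [Fintype V] {v : V} (hv : v ≠ 1) : ∑ w, C.b w v = 0 := by
  obtain ⟨a, ha⟩ := C.exists_b_ne hv
  have ha' : C.b a v ≠ 1 := fun h1 => ha (by
    have := C.b_symm a v
    rwa [h1, one_mul] at this)
  have h1 : C.b a v * ∑ w, C.b w v = ∑ w, C.b w v := by
    rw [Finset.mul_sum]
    exact Fintype.sum_equiv (Equiv.mulLeft a) _ _ fun w => (h.b_mul_left a w v).symm
  by_contra hne
  exact ha' (mul_right_cancel₀ hne (h1.trans (one_mul _).symm))

theorem apply_inv (w : V) (x : W) : (C.c w w⁻¹)⁻¹ • M w (M w⁻¹ x) = x := by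
  have := LinearMap.congr_fun (h.mul_inv' w) x
  rwa [Module.End.mul_apply, LinearMap.smul_apply, map_smul] at this

/-- The operators of a representation are linearly independent. -/
theorem coeff_eq_zero [Fintype V] (hV : (Fintype.card V : k) ≠ 0) (f : V → k) (hf : ∑ v, f v • M v = 0)
    (v₀ : V) : f v₀ = 0 := by
  classical
  obtain ⟨x, hx⟩ := exists_ne (0 : W)
  have h1 : ∀ w, ∑ v, (f v * C.b w v * (C.b w v₀)⁻¹) • M v x = 0 := by
    intro w
    have e1 : ∀ y : W, ∑ v, f v • M v y = 0 := fun y => by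
      simpa [LinearMap.sum_apply] using LinearMap.congr_fun hf y
    -- conjugate the relation by `M w`
    have e2 := congrArg (fun y => (C.c w w⁻¹)⁻¹ • M w y) (e1 (M w⁻¹ x))
    simp only [map_sum, map_smul, map_zero, smul_zero, Finset.smul_sum] at e2
    have e3 := congrArg (fun y => (C.b w v₀)⁻¹ • y) e2
    simp only [Finset.smul_sum, smul_zero] at e3
    rw [← e3]
    refine Finset.sum_congr rfl fun v _ => ?_
    have hxv : M v x = (C.c w w⁻¹)⁻¹ • M v (M w (M w⁻¹ x)) := by rw [← map_smul, h.apply_inv]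
    rw [h.comm_apply w v, hxv]
    simp only [smul_smul]
    congr 1
    ring
  have h2 : ∑ w, ∑ v, (f v * C.b w v * (C.b w v₀)⁻¹) • M v x = 0 := Finset.sum_eq_zero fun w _ => h1 w
  rw [Finset.sum_comm, Finset.sum_eq_single v₀ (fun v _ hne => ?_) (fun hh => absurd (Finset.mem_univ _) hh)]
    at h2
  · have h3 : ((Fintype.card V : k) * f v₀) • M v₀ x = 0 := by
      rw [← h2, ← Finset.sum_smul]
      congr 1
      simp [mul_assoc, mul_inv_cancel₀ (C.b_ne _ v₀)]
    have := (smul_eq_zero.1 h3).resolve_right (h.apply_ne_zero _ hx)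
    exact (mul_eq_zero.1 this).resolve_left hV
  · rw [← Finset.sum_smul]
    have e : ∀ w, f v * C.b w v * (C.b w v₀)⁻¹ = f v * C.b w (v * v₀⁻¹) := fun w => by
      rw [h.b_mul_right, h.b_inv_right, mul_assoc]
    rw [Finset.sum_congr rfl fun w _ => e w, ← Finset.mul_sum,
      h.sum_b (fun h1 => hne (mul_inv_eq_one.1 h1)), mul_zero, zero_smul]

end IsRep

/-- Averaged maps between two representations with the same factor set. -/
noncomputable def avHom [Fintype V] (C : Factor k V) (M : V → Module.End k W) (M' : V → Module.End k W')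
    (a : W →ₗ[k] W') : W →ₗ[k] W' :=
  ∑ v, (C.c v v⁻¹)⁻¹ • (M' v ∘ₗ a ∘ₗ M v⁻¹)

theorem avHom_comm [Fintype V] {C : Factor k V} {M : V → Module.End k W} {M' : V → Module.End k W'}
    (h : IsRep C M) (h' : IsRep C M') (a : W →ₗ[k] W') (u : V) (x : W) :
    avHom C M M' a (M u x) = M' u (avHom C M M' a x) := by
  rcases subsingleton_or_nontrivial W' with hW' | hW'
  · exact Subsingleton.elim _ _
  simp only [avHom, LinearMap.sum_apply, LinearMap.smul_apply, LinearMap.comp_apply, map_sum, map_smul]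
  refine (Fintype.sum_equiv (Equiv.mulLeft u) _ _ fun v => ?_).symm
  -- rename `v ↦ u * v`
  show (C.c v v⁻¹)⁻¹ • M' u (M' v (a (M v⁻¹ x))) =
    (C.c (u * v) (u * v)⁻¹)⁻¹ • M' (u * v) (a (M (u * v)⁻¹ (M u x)))
  rw [h'.mul_apply, h.mul_apply, map_smul, map_smul, show (u * v)⁻¹ * u = v⁻¹ by simp, smul_smul, smul_smul]
  congr 1
  obtain ⟨y, hy⟩ := exists_ne (0 : W')
  have h1 := congrArg (M' u) (h'.apply_inv v y)
  rw [map_smul, h'.mul_apply v v⁻¹] at h1
  have e1 : M' (u * v) (M' v⁻¹ y) = C.c (u * v) v⁻¹ • M' u y := by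
    rw [h'.mul_apply, mul_inv_cancel_right]
  have e2 : M' ((u * v)⁻¹ * u) y = M' v⁻¹ y := by rw [show (u * v)⁻¹ * u = v⁻¹ by simp]
  -- compare the two ways of writing `M' u y`
  have lhs : M' u (M' v (M' v⁻¹ y)) = C.c v v⁻¹ • M' u y := by
    rw [h'.mul_apply v v⁻¹, map_smul, mul_inv_cancel, h'.one]; rfl
  have lhs' : M' u (M' v (M' v⁻¹ y)) = (C.c u v * C.c (u * v) v⁻¹) • M' u y := by
    rw [h'.mul_apply u v, e1, smul_smul]
  have rhs : M' (u * v) (M' (u * v)⁻¹ (M' u y)) = C.c (u * v) (u * v)⁻¹ • M' u y := by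
    rw [h'.mul_apply, mul_inv_cancel, h'.one]; rfl
  have rhs' : M' (u * v) (M' (u * v)⁻¹ (M' u y)) = (C.c (u * v)⁻¹ u * C.c (u * v) v⁻¹) • M' u y := by
    rw [h'.mul_apply (u * v)⁻¹ u, map_smul, e2, e1, smul_smul]
  have i1 := smul_left_injective k (h'.apply_ne_zero u hy) (lhs.symm.trans lhs')
  have i2 := smul_left_injective k (h'.apply_ne_zero u hy) (rhs.symm.trans rhs')
  rw [i1, i2]
  field_simp [C.ne]

theorem avHom_separates [Fintype V] {C : Factor k V} {M : V → Module.End k W} {M' : V → Module.End k W'}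
    (h : IsRep C M) (h' : IsRep C M') [Nontrivial W'] (hV : (Fintype.card V : k) ≠ 0) {y : W} (hy : y ≠ 0) :
    ∃ a, avHom C M M' a y ≠ 0 := by
  by_contra hcon
  push Not at hcon
  obtain ⟨φ, hφ⟩ : ∃ φ : W →ₗ[k] k, φ y ≠ 0 := by
    by_contra h0
    push Not at h0
    exact hy ((Module.forall_dual_apply_eq_zero_iff k y).1 h0)
  have hsum : ∑ v, ((C.c v v⁻¹)⁻¹ * φ (M v⁻¹ y)) • M' v = 0 := by
    refine LinearMap.ext fun x => ?_
    have := hcon (φ.smulRight x)
    simp only [avHom, LinearMap.sum_apply, LinearMap.smul_apply, LinearMap.comp_apply,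
      LinearMap.smulRight_apply, map_smul, smul_smul] at this
    simpa [LinearMap.sum_apply] using this
  have h1 := h'.coeff_eq_zero hV _ hsum 1
  rw [inv_one, h.one] at h1
  exact hφ ((mul_eq_zero.1 h1).resolve_left (inv_ne_zero (C.ne _ _)))

/-- A representation is irreducible. -/
def IsIrr (M : V → Module.End k W) : Prop :=
  ∀ U : Submodule k W, (∀ v, ∀ x ∈ U, M v x ∈ U) → U = ⊥ ∨ U = ⊤

theorem exists_irr [FiniteDimensional k W] [Nontrivial W] {C : Factor k V} {M : V → Module.End k W}
    (h : IsRep C M) : ∃ (U : Submodule k W) (hU : ∀ v, ∀ x ∈ U, M v x ∈ U), Nontrivial U ∧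
      IsRep C (fun v => (M v).restrict (hU v)) ∧ IsIrr (fun v => (M v).restrict (hU v)) := by
  obtain ⟨U, ⟨hU0, hU⟩, hmin⟩ := exists_minimal_of_wellFoundedLT
    (fun U : Submodule k W => U ≠ ⊥ ∧ ∀ v, ∀ x ∈ U, M v x ∈ U) ⟨⊤, top_ne_bot, fun _ _ _ => trivial⟩
  refine ⟨U, hU, Submodule.nontrivial_iff_ne_bot.2 hU0, ⟨?_, fun v w => ?_⟩, fun U' hU' => ?_⟩
  · exact LinearMap.ext fun x => Subtype.ext (by simp [h.one])
  · refine LinearMap.ext fun x => Subtype.ext ?_
    simpa using h.mul_apply v w x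
  · by_cases h0 : U' = ⊥
    · exact Or.inl h0
    · refine Or.inr ?_
      have hle : U ≤ U'.map U.subtype := by
        refine hmin ⟨fun hb => h0 ?_, ?_⟩ (Submodule.map_subtype_le U U')
        · refine (Submodule.eq_bot_iff _).2 fun x hx => Subtype.ext ?_
          have := (Submodule.eq_bot_iff _).1 hb (x : W) ⟨x, hx, rfl⟩
          simpa using this
        · rintro v _ ⟨x, hx, rfl⟩
          exact ⟨_, hU' v x hx, rfl⟩
      refine eq_top_iff.2 fun x _ => ?_
      obtain ⟨y, hy, hyx⟩ := hle x.2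
      exact (Subtype.ext hyx : y = x) ▸ hy

namespace IsRep

variable {C : Factor k V} {M : V → Module.End k W} (h : IsRep C M) (hirr : IsIrr M)
include h hirr

theorem eq_scalar [IsAlgClosed k] [FiniteDimensional k W] [Nontrivial W] (a : Module.End k W)
    (ha : ∀ v x, a (M v x) = M v (a x)) : ∃ c : k, a = c • (1 : Module.End k W) := by
  obtain ⟨c, hc⟩ := Module.End.exists_eigenvalue a
  refine ⟨c, LinearMap.ext fun x => ?_⟩
  have := (hirr (LinearMap.ker (a - c • (1 : Module.End k W))) fun v x hx => by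
    simp only [LinearMap.mem_ker, LinearMap.sub_apply, LinearMap.smul_apply, Module.End.one_apply,
      sub_eq_zero] at hx ⊢
    rw [ha, hx, map_smul]).resolve_left fun h0 => by
      obtain ⟨u, hu⟩ := hc.exists_hasEigenvector
      exact hu.2 ((Submodule.eq_bot_iff _).1 h0 u (by simp [hu.apply_eq_smul]))
  have hx : x ∈ LinearMap.ker (a - c • (1 : Module.End k W)) := this ▸ Submodule.mem_top
  simpa [sub_eq_zero] using hx

theorem intertwiner_injective {M' : V → Module.End k W'} {f : W →ₗ[k] W'}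
    (hf : ∀ v x, f (M v x) = M' v (f x)) (hf0 : f ≠ 0) : Function.Injective f := by
  rw [← LinearMap.ker_eq_bot]
  refine (hirr _ fun v x hx => ?_).resolve_right fun ht => hf0 (LinearMap.ker_eq_top.1 ht)
  rw [LinearMap.mem_ker] at hx ⊢
  rw [hf, hx, map_zero]

theorem intertwiner_surjective {M' : V → Module.End k W'} {f : W' →ₗ[k] W}
    (hf : ∀ v x, f (M' v x) = M v (f x)) (hf0 : f ≠ 0) : Function.Surjective f := by
  rw [← LinearMap.range_eq_top]
  refine (hirr _ fun v x hx => ?_).resolve_left fun ht => hf0 (LinearMap.range_eq_bot.1 ht)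
  obtain ⟨y, rfl⟩ := hx
  exact ⟨M' v y, hf v y⟩

theorem span_orbit {x : W} (hx : x ≠ 0) : Submodule.span k (Set.range fun v => M v x) = ⊤ := by
  refine (hirr _ fun v y hy => ?_).resolve_left fun h0 => ?_
  · refine Submodule.span_induction (p := fun y _ => M v y ∈ _) ?_ (by simp)
      (fun a b _ _ ha hb => by rw [map_add]; exact Submodule.add_mem _ ha hb)
      (fun c a _ ha => by rw [map_smul]; exact Submodule.smul_mem _ c ha) hy
    rintro _ ⟨w, rfl⟩
    rw [h.mul_apply]
    exact Submodule.smul_mem _ _ (Submodule.subset_span ⟨_, rfl⟩)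
  · exact h.apply_ne_zero 1 hx ((Submodule.eq_bot_iff _).1 h0 _ (Submodule.subset_span ⟨1, rfl⟩))

variable [IsAlgClosed k] [FiniteDimensional k W] [Nontrivial W] [Fintype V] (hV : (Fintype.card V : k) ≠ 0)
include hV

/-- The averaged rank-one maps are scalars. -/
theorem avHom_rank_one (φ : W →ₗ[k] k) (x : W) :
    (Module.finrank k W : k) • avHom C M M (φ.smulRight x) = ((Fintype.card V : k) * φ x) • 1 := by
  obtain ⟨t, ht⟩ := h.eq_scalar hirr _ (avHom_comm h h (φ.smulRight x))
  have htr : LinearMap.trace k W (avHom C M M (φ.smulRight x)) = (Fintype.card V : k) * φ x := by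
    simp only [avHom, map_sum, map_smul]
    rw [Finset.sum_congr rfl fun v _ => ?_, Finset.sum_const, Finset.card_univ, nsmul_eq_mul]
    rw [← Module.End.mul_eq_comp, ← Module.End.mul_eq_comp, ← mul_assoc, LinearMap.trace_mul_cycle,
      h.mul, inv_mul_cancel, h.one, smul_mul_assoc, one_mul, map_smul, smul_smul,
      LinearMap.trace_smulRight]
    have hcc : C.c v⁻¹ v = C.c v v⁻¹ := by
      have h1 : C.b v v⁻¹ = 1 := by rw [h.b_inv_right, C.b_self, inv_one]
      exact ((div_eq_one_iff_eq (C.ne _ _)).1 h1).symm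
    rw [hcc, inv_mul_cancel₀ (C.ne _ _)]
    exact one_smul k _
  rw [ht, map_smul, LinearMap.trace_one, smul_eq_mul] at htr
  rw [ht, smul_smul, ← htr, mul_comm]

theorem finrank_ne_zero : (Module.finrank k W : k) ≠ 0 := by
  obtain ⟨x, hx⟩ := exists_ne (0 : W)
  obtain ⟨φ, hφ⟩ : ∃ φ : W →ₗ[k] k, φ x ≠ 0 := by
    by_contra h0
    push Not at h0
    exact hx ((Module.forall_dual_apply_eq_zero_iff k x).1 h0)
  intro h0
  have := h.avHom_rank_one hirr hV φ x
  rw [h0, zero_smul, eq_comm, smul_eq_zero] at this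
  exact (mul_ne_zero hV hφ) (this.resolve_right one_ne_zero)

/-- Every map of rank one is a combination of the operators of the representation. -/
theorem expansion (φ : W →ₗ[k] k) (x : W) :
    φ.smulRight x = ((Module.finrank k W : k) / (Fintype.card V : k)) •
      ∑ v, ((C.c v v⁻¹)⁻¹ * φ (M v⁻¹ x)) • M v := by
  refine LinearMap.ext fun y => ?_
  -- the coefficients of `φ ⊗ x` come from averaging `φ ⊗ y` at `x`
  have h1 := LinearMap.congr_fun (h.avHom_rank_one hirr hV φ y) x
  simp only [avHom, LinearMap.sum_apply, LinearMap.smul_apply, LinearMap.comp_apply,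
    LinearMap.smulRight_apply, map_smul, smul_smul, Module.End.one_apply] at h1
  simp only [LinearMap.smulRight_apply, LinearMap.smul_apply, LinearMap.sum_apply]
  rw [div_eq_inv_mul, mul_smul, h1, smul_smul, inv_mul_cancel_left₀ hV]

theorem span_eq_top : Submodule.span k (Set.range M) = ⊤ := by
  refine eq_top_iff.2 fun a _ => ?_
  have hb := Module.finBasis k W
  have ha : a = ∑ i, (hb.coord i).smulRight (a (hb i)) := by
    refine hb.ext fun j => ?_
    simp [LinearMap.sum_apply, Finsupp.single_apply]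
  rw [ha]
  refine Submodule.sum_mem _ fun i _ => ?_
  rw [h.expansion hirr hV]
  exact Submodule.smul_mem _ _ (Submodule.sum_mem _ fun v _ =>
    Submodule.smul_mem _ _ (Submodule.subset_span ⟨v, rfl⟩))

theorem card_eq : Nat.card V = Module.finrank k W * Module.finrank k W := by
  have hli : LinearIndependent k M := Fintype.linearIndependent_iff.2 fun g hg => h.coeff_eq_zero hV g hg
  have := (Module.Basis.mk hli (h.span_eq_top hirr hV).ge)
  rw [Nat.card_eq_fintype_card, ← Module.finrank_eq_card_basis this]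
  exact Module.finrank_linearMap k k W W

end IsRep

end CfsgLib.Turull
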