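import Cfsg.Agent.Turull.LevelOps

/-!
Invariant spanning sets of the modules of the levels, and the absence of inert parts above the first level.
-/

set_option autoImplicit false
set_option linter.style.haveILetI false
set_option linter.unusedSectionVars false

namespace CfsgLib.Turull

open Subgroup
open scoped commutatorElement

/-- The elements fixing a part pointwise. -/
def Sys.fixK {k : Type*} [Field k] {T : Type*} [Group T] {X : Type*} [AddCommGroup X] [Module k X]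
    (D : Sys k T X) (χ : T → k) : Subgroup T where
  carrier := {t | ∀ v ∈ D.space χ, D.ρ t v = v}
  one_mem' := fun v _ => by rw [map_one]; rfl
  mul_mem' := fun {a b} ha hb v hv => by rw [map_mul, Module.End.mul_apply, hb v hv, ha v hv]
  inv_mem' := fun {a} ha v hv => by
    conv_lhs => rw [← ha v hv]
    rw [← Module.End.mul_apply, ← map_mul, inv_mul_cancel, map_one]
    rfl

theorem Sys.mem_fixK {k : Type*} [Field k] {T : Type*} [Group T] {X : Type*} [AddCommGroup X] [Module k X]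
    {D : Sys k T X} {χ : T → k} {t : T} : t ∈ D.fixK χ ↔ ∀ v ∈ D.space χ, D.ρ t v = v := Iff.rfl

theorem Sys.A_normal {k : Type*} [Field k] {T : Type*} [Group T] {X : Type*} [AddCommGroup X] [Module k X]
    (D : Sys k T X) : D.A.Normal :=
  ⟨fun n hn g => by
    rw [show g * n * g⁻¹ = ⁅g, n⁆ * n by simp [commutatorElement_def]]
    exact D.A.mul_mem (D.hTA g n) hn⟩

theorem Sys.ρ_eq_one_of_forall {k : Type*} [Field k] [IsAlgClosed k] {T : Type*} [Group T] [Finite T] {X : Type*}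
    [AddCommGroup X] [Module k X] [FiniteDimensional k X] (D : Sys k T X) {t : T}
    (h : ∀ χ, D.IsComp χ → ∀ v ∈ D.space χ, D.ρ t v = v) : D.ρ t = 1 := by
  refine LinearMap.ext fun v => ?_
  rw [Module.End.one_apply]
  conv_lhs => rw [← D.sum_proj v]
  conv_rhs => rw [← D.sum_proj v]
  rw [map_sum]
  exact Finset.sum_congr rfl fun χ hχ => h χ (D.finite_isComp.mem_toFinset.1 hχ) _
    ((D.finite_isComp.mem_toFinset.1 hχ : D.IsComp χ).proj_mem v)

variable {G : Type*} [Group G] [Finite G] {A : Type*} [Group A] [MulDistribMulAction A G]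
variable {N : ℕ} {P : ℕ → Subgroup G} {p : ℕ → ℕ}

/-- The elements fixed by an operator. -/
def fixBy (a : A) : Subgroup G where
  carrier := {g | a • g = g}
  one_mem' := smul_one a
  mul_mem' := fun {x y} hx hy => show a • (x * y) = x * y by rw [smul_mul', hx, hy]
  inv_mem' := fun {x} hx => show a • x⁻¹ = x⁻¹ by rw [smul_inv', hx]

theorem mem_fixBy {a : A} {g : G} : g ∈ fixBy a ↔ a • g = g := Iff.rfl

/-- The fixed kernels from level `i`, `d` steps below the top. -/
def kcFrom (N : ℕ) (P : ℕ → Subgroup G) (a : A) : ℕ → ℕ → Subgroup G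
  | 0, i => P i ⊓ fixBy a ⊓ low N P i
  | d + 1, i => P i ⊓ fixBy a ⊓ actKer (P (i + 1) ⊓ fixBy a) (kcFrom N P a d (i + 1))

/-- The fixed kernel of a level. -/
def kc (N : ℕ) (P : ℕ → Subgroup G) (a : A) (i : ℕ) : Subgroup G := kcFrom N P a (N - 1 - i) i

theorem kc_top {a : A} {i : ℕ} (h : i + 1 = N) : kc N P a i = P i ⊓ fixBy a ⊓ low N P i := by
  rw [kc, show N - 1 - i = 0 by omega]
  rfl

theorem kc_succ {a : A} {i : ℕ} (h : i + 1 < N) :
    kc N P a i = P i ⊓ fixBy a ⊓ actKer (P (i + 1) ⊓ fixBy a) (kc N P a (i + 1)) := by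
  rw [kc, kc, show N - 1 - i = (N - 1 - (i + 1)) + 1 by omega]
  rfl

namespace IsGood

variable (hP : IsGood A N P p) {a : A} {r : ℕ} (hA : CyclicOp G a r)
include hP

theorem sys_ρ_apply {K : Type} [Field K] {i : ℕ} (hi : i + 1 < N) [CharP K (p (i + 1))] (x : P i)
    (f : levMod N P K i) : (hP.sys K hA i hi).ρ x f = levOp hi (MulAut.conj (x : G)) (hP.pres_conj le_rfl x.2) f :=
  rfl

theorem sys_A_apply {K : Type} [Field K] {i : ℕ} (hi : i + 1 < N) [CharP K (p (i + 1))] (x : P i) :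
    x ∈ (hP.sys K hA i hi).A ↔ (x : G) ∈ low N P i := Iff.rfl

theorem sys_σ_apply {K : Type} [Field K] {i : ℕ} (hi : i + 1 < N) [CharP K (p (i + 1))] (x : P i) :
    (((hP.sys K hA i hi).σ x : P i) : G) = a • (x : G) := rfl

theorem sys_S_apply {K : Type} [Field K] {i : ℕ} (hi : i + 1 < N) [CharP K (p (i + 1))] (f : levMod N P K i)
    {y z : P (i + 1)} (hyz : a • (z : G) = (y : G)) : ((hP.sys K hA i hi).S f).1 y = f.1 z :=
  levOp_apply hi _ (hP.pres_act a i) f hyz

theorem ρ_eq_one_of_mem_ker {K : Type} [Field K] {i : ℕ} (hi : i + 1 < N) [CharP K (p (i + 1))] {x : P i}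
    (hx : (x : G) ∈ ker N P i) : (hP.sys K hA i hi).ρ x = 1 :=
  LinearMap.ext fun f => hP.conj_ker_fix hi hx f

theorem mem_ker_of_ρ_eq_one {K : Type} [Field K] {i : ℕ} (hi : i + 1 < N) [CharP K (p (i + 1))] {x : P i}
    (hx : (hP.sys K hA i hi).ρ x = 1) : (x : G) ∈ ker N P i := by
  haveI := Fact.mk (hP.tower.prime (i + 1) hi)
  refine hP.mem_ker_of_low hi x.2 fun y hy => ?_
  by_contra hne
  have hn := hP.tower.norm i (i + 1) (by omega) hi x.2
  have hz : (x : G) * y * (x : G)⁻¹ ∈ P (i + 1) := (mem_normalizer_iff.1 hn _).1 hy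
  obtain ⟨f, hf, -⟩ := exists_addFun_ne (K := K) (q := p (i + 1)) ((low N P (i + 1)).subgroupOf (P (i + 1)))
    (hP.lev_comm hi) (hP.lev_pow hi)
    (t := (⟨disp (x : G) y, mul_mem (inv_mem hy) hz⟩ : P (i + 1))) hne
  apply hf
  rw [show (⟨disp (x : G) y, _⟩ : P (i + 1)) = (⟨y, hy⟩ : P (i + 1))⁻¹ * ⟨_, hz⟩ from rfl, f.2.1, addFun.map_inv]
  have h1 := congrFun (congrArg Subtype.val (LinearMap.congr_fun hx f)) ⟨_, hz⟩
  rw [sys_ρ_apply hP hA hi x f, levOp_apply hi _ _ f (z := ⟨y, hy⟩) (by simp)] at h1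
  rw [h1, Module.End.one_apply, neg_add_cancel]

theorem comp_ker_eq_one {K : Type} [Field K] {i : ℕ} (hi : i + 1 < N) [CharP K (p (i + 1))] {χ : P i → K}
    (h : (hP.sys K hA i hi).IsComp χ) {x : P i} (hx : (x : G) ∈ ker N P i) : χ x = 1 := by
  obtain ⟨v, hv, hv'⟩ := h.eig
  have h1 := hv' x (h.hA x (hP.ker_le_low (by omega) hx))
  rw [hP.ρ_eq_one_of_mem_ker hA hi hx, Module.End.one_apply] at h1
  exact smul_left_injective K hv (h1.symm.trans (one_smul K v).symm)

/-- A commutator of a level changes by a kernel element under the level below. -/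
theorem comp_conj_low {K : Type} [Field K] {i : ℕ} (hi : i + 1 + 1 < N) [CharP K (p (i + 1 + 1))]
    {χ : P (i + 1) → K} (h : (hP.sys K hA (i + 1) hi).IsComp χ) {u : G} (hu : u ∈ P i) {x : P (i + 1)}
    (hx : (x : G) ∈ low N P (i + 1)) {y : P (i + 1)} (hy : (y : G) = u * x * u⁻¹) : χ y = χ x := by
  have hd : disp u (x : G) ∈ ker N P (i + 1) := hP.disp_low_mem (by omega) hu hx
  have he : y = x * ⟨disp u (x : G), ker_le (by omega) hd⟩ := Subtype.ext (by simp [hy, disp])
  rw [he, h.mul _ _ (h.hA x hx),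
    hP.comp_ker_eq_one hA hi h (x := ⟨disp u (x : G), ker_le (by omega) hd⟩) hd, mul_one]

theorem levOp_comm_ρ {K : Type} [Field K] {i : ℕ} (hi : i + 1 < N) [CharP K (p (i + 1))] (η : G ≃* G)
    (hη : Pres N P η i) (t : P i) (v : levMod N P K i) :
    levOp hi η hη ((hP.sys K hA i hi).ρ t v) =
      (hP.sys K hA i hi).ρ (restrictAut (P i) η (hη i le_rfl (by omega)) t) (levOp hi η hη v) := by
  have h1 : Pres N P ((MulAut.conj (t : G)).trans η) i := fun j hj hjN x =>
    (hP.pres_conj le_rfl t.2 j hj hjN x).trans (hη j hj hjN _)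
  rw [sys_ρ_apply, sys_ρ_apply, ← Module.End.mul_apply, ← Module.End.mul_apply]
  refine LinearMap.congr_fun ?_ v
  exact (levOp_mul hi hη (hP.pres_conj le_rfl t.2) h1 fun y _ => rfl).trans
    (levOp_mul hi (hP.pres_conj le_rfl (restrictAut (P i) η (hη i le_rfl (by omega)) t).2) hη h1 fun y _ => by
      simp [restrictAut_apply]).symm

/-- An automorphism of the tower moves the parts of a level. -/
theorem isComp_transport {K : Type} [Field K] {i : ℕ} (hi : i + 1 < N) [CharP K (p (i + 1))] {η : G ≃* G}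
    (hη : Pres N P η i) (hlow : ∀ x, x ∈ low N P i ↔ η x ∈ low N P i) {χ : P i → K}
    (h : (hP.sys K hA i hi).IsComp χ) :
    (hP.sys K hA i hi).IsComp fun t => χ ((restrictAut (P i) η (hη i le_rfl (by omega))).symm t) := by
  refine h.transport _ (fun b hb => ?_) (levEquiv hi η hη) fun t v => hP.levOp_comm_ρ hA hi η hη t v
  rw [sys_A_apply hP hA hi] at hb ⊢
  rw [restrictAut_symm_apply, hlow, MulEquiv.apply_symm_apply]
  exact hb

theorem fixK_transport {K : Type} [Field K] {i : ℕ} (hi : i + 1 < N) [CharP K (p (i + 1))] {η : G ≃* G}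
    (hη : Pres N P η i) {χ : P i → K} {t : P i}
    (ht : t ∈ (hP.sys K hA i hi).fixK fun s => χ ((restrictAut (P i) η (hη i le_rfl (by omega))).symm s)) :
    (restrictAut (P i) η (hη i le_rfl (by omega))).symm t ∈ (hP.sys K hA i hi).fixK χ := by
  intro v hv
  set θ := restrictAut (P i) η (hη i le_rfl (by omega)) with hθ
  apply (levEquiv hi η hη (K := K)).injective
  rw [levEquiv_apply, levEquiv_apply, hP.levOp_comm_ρ hA hi η hη, ← hθ, MulEquiv.apply_symm_apply]
  refine ht _ fun z hz => ?_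
  have h2 := hv (θ.symm z) hz
  have h1 := congrArg (fun w => levOp hi η hη (K := K) w) h2
  simp only [map_smul, hP.levOp_comm_ρ hA hi η hη, ← hθ, MulEquiv.apply_symm_apply] at h1
  exact h1

include hA

theorem σ_pow_restrict {i : ℕ} (hi : i + 1 < N) :
    restrictAut (P i) (MulDistribMulAction.toMulEquiv G a) (hP.pres_act a i i le_rfl (by omega)) ^ r = 1 := by
  haveI := Fact.mk (hP.tower.prime (i + 1) hi)
  exact (hP.sys (AlgebraicClosure (ZMod (p (i + 1)))) hA i hi).hσ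

/-- **Displaced parts above the first level are live.** -/
theorem live_of_displaced {K : Type} [Field K] [IsAlgClosed K] {i : ℕ} (hi : i + 1 + 1 < N)
    [CharP K (p (i + 1 + 1))] {χ : P (i + 1) → K} (h : (hP.sys K hA (i + 1) hi).IsComp χ)
    (hR : ∃ t, ∃ v ∈ (hP.sys K hA (i + 1) hi).space χ,
      (hP.sys K hA (i + 1) hi).ρ (t⁻¹ * (hP.sys K hA (i + 1) hi).σ t) v ≠ v) :
    (hP.sys K hA (i + 1) hi).Live χ := by
  set D := hP.sys K hA (i + 1) hi with hD
  by_cases hmv : ∃ t, χ (D.σ t) ≠ χ t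
  · exact Or.inl hmv
  push Not at hmv
  refine Or.inr ⟨hR, ?_⟩
  have hi0 : i + 1 < N := by omega
  have hcU : ∀ (u : P i) (x : G), x ∈ P (i + 1) ↔ MulAut.conj (u : G) x ∈ P (i + 1) := fun u =>
    mem_iff_conj_of_mem_normalizer (hP.tower.norm i (i + 1) (by omega) hi0 u.2)
  let θ : P i →* MulAut (P (i + 1)) :=
    { toFun := fun u => restrictAut (P (i + 1)) (MulAut.conj (u : G)) (hcU u)
      map_one' := MulEquiv.ext fun x => Subtype.ext (by simp [restrictAut_apply])
      map_mul' := fun u w => MulEquiv.ext fun x => Subtype.ext (by simp [restrictAut_apply, mul_assoc]) }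
  have hθ : ∀ (u : P i) (x : P (i + 1)), ((θ u x : P (i + 1)) : G) = u * x * (u : G)⁻¹ := fun u x => rfl
  refine Sys.exists_fixed_of_group h hmv hR (q := p i) (hP.tower.prime i (by omega))
    (hP.tower.pgroup i (by omega)) (hP.tower.adj i hi0) (hP.ne_r hA (by omega)) θ
    (restrictAut (P i) (MulDistribMulAction.toMulEquiv G a) (hP.pres_act a i i le_rfl (by omega)))
    (hP.σ_pow_restrict hA hi0) (fun u t => Subtype.ext ?_) ((low N P i).subgroupOf (P i))
    (hP.lev_comm (by omega)) (fun b hb u t => ?_)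
    (fun b hb => (smul_mem_iff_of_invariant (hP.isInvariant_low (by omega)) a _).1 hb)
    (fun t => h.hA _ (hP.lev_pow hi0 t)) (fun u s t => ?_) (fun M hM hu => ?_)
  · show a • ((u : G) * t * (u : G)⁻¹) = (a • (u : G)) * (a • (t : G)) * (a • (u : G))⁻¹
    rw [smul_mul', smul_mul', smul_inv']
  · have hc : ((⁅b, u⁆ : P i) : G) ∈ ker N P i := by
      have := hP.commutator_low_le (i := i) (by omega) (commutator_mem_commutator u.2 hb)
      rw [← commutatorElement_inv] at this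
      exact inv_mem_iff.1 this
    set c : P i := ⁅b, u⁆
    have hd : disp (c : G) (t : G) ∈ ker N P (i + 1) := disp_mem_ker hi0 hc t.2
    have hl := hP.ker_le_low hi0 hd
    rw [show θ c t * t⁻¹ = t * ⟨disp (c : G) (t : G), low_le hi0 hl⟩ * t⁻¹ from
      Subtype.ext (by simp [hθ, disp, mul_assoc])]
    exact (inferInstance : h.zsub.Normal).conj_mem _ (h.hA _ hl) t
  · exact hP.comp_conj_low hA hi h u.2 (x := ⁅s, t⁆) (hP.lev_comm hi0 s t) (y := ⁅θ u s, θ u t⁆)
      (by simp [hθ, commutatorElement_def, mul_assoc])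
  · have hle : P (i + 1) ≤ M.map (P (i + 1)).subtype := by
      refine (hP.comm hi0).symm.le.trans (commutator_le.2 fun z hz x hx => ?_)
      refine ⟨(θ ⟨x, hx⟩ ⟨z, hz⟩ * (⟨z, hz⟩ : P (i + 1))⁻¹)⁻¹, inv_mem (hu ⟨x, hx⟩ ⟨z, hz⟩), ?_⟩
      simp [hθ, commutatorElement_def, mul_assoc]
    refine eq_top_iff.2 fun t _ => ?_
    obtain ⟨w, hw, hwt⟩ := hle t.2
    exact (Subtype.ext hwt : w = t) ▸ hw

/-- A live part trivializes the fixed kernel. -/
def Triv (i : ℕ) : Prop :=
  ∀ (K : Type) [Field K] [IsAlgClosed K] (hi : i + 1 < N) [CharP K (p (i + 1))] (χ : P i → K),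
    (hP.sys K hA i hi).IsComp χ → (hP.sys K hA i hi).Live χ → ∀ x : P i, (x : G) ∈ kc N P a i →
      ∀ v ∈ (hP.sys K hA i hi).space χ, (hP.sys K hA i hi).ρ x v = v

theorem mem_low_of_forall {K : Type} [Field K] [IsAlgClosed K] {i : ℕ} (hi : i + 1 + 1 < N)
    [CharP K (p (i + 1 + 1))] {t : P (i + 1)}
    (ht : ∀ χ, (hP.sys K hA (i + 1) hi).IsComp χ →
      t ∈ (hP.sys K hA (i + 1) hi).A ⊔ (hP.sys K hA (i + 1) hi).fixK χ) : (t : G) ∈ low N P (i + 1) := by
  set D := hP.sys K hA (i + 1) hi with hD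
  haveI := D.A_normal
  let L : Subgroup (P (i + 1)) := ⨅ (χ : P (i + 1) → K) (_ : D.IsComp χ), D.A ⊔ D.fixK χ
  have hL : ∀ {s}, s ∈ L ↔ ∀ χ, D.IsComp χ → s ∈ D.A ⊔ D.fixK χ := by
    intro s
    simp [L, Subgroup.mem_iInf]
  have hinv : ∀ (η : G ≃* G) (hη : Pres N P η (i + 1))
      (_ : ∀ x, x ∈ low N P (i + 1) ↔ η x ∈ low N P (i + 1)) (s : P (i + 1)), s ∈ L →
        restrictAut (P (i + 1)) η (hη _ le_rfl (by omega)) s ∈ L := by
    intro η hη hlow s hs
    rw [hL] at hs ⊢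
    intro χ hχ
    have hlow' : ∀ x, x ∈ low N P (i + 1) ↔ η.symm x ∈ low N P (i + 1) := fun x => by
      rw [hlow (η.symm x), MulEquiv.apply_symm_apply]
    have hψ : D.IsComp fun u => χ ((restrictAut (P (i + 1)) η.symm (hη.symm _ le_rfl (by omega))).symm u) :=
      hP.isComp_transport hA hi hη.symm hlow' hχ
    obtain ⟨b, hb, n, hn, rfl⟩ := Subgroup.mem_sup_of_normal_left.1 (hs _ hψ)
    rw [map_mul]
    refine mul_mem (Subgroup.mem_sup_left ((hlow _).1 hb)) (Subgroup.mem_sup_right ?_)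
    have h1 := hP.fixK_transport hA hi hη.symm (χ := χ) hn
    have e : (restrictAut (P (i + 1)) η.symm (hη.symm _ le_rfl (by omega))).symm n =
        restrictAut (P (i + 1)) η (hη _ le_rfl (by omega)) n :=
      Subtype.ext (by rw [restrictAut_symm_apply, restrictAut_apply, MulEquiv.symm_symm])
    rwa [e] at h1
  set Q := L.map (P (i + 1)).subtype with hQ
  by_cases hQe : Q = P (i + 1)
  · exfalso
    have hall : ∀ s, s ∈ L := fun s => by
      obtain ⟨w, hw, hws⟩ := hQe.ge s.2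
      exact (Subtype.ext hws : w = s) ▸ hw
    have hscal : ∀ (χ : P (i + 1) → K), D.IsComp χ → ∀ s, ∀ v ∈ D.space χ, ∃ c : K,
        ∃ b ∈ D.A, D.ρ s v = c • v ∧ c = χ b := by
      intro χ hχ s v hv
      obtain ⟨b, hb, n, hn, rfl⟩ := Subgroup.mem_sup_of_normal_left.1 (hL.1 (hall s) χ hχ)
      refine ⟨χ b, b, hb, ?_, rfl⟩
      rw [map_mul, Module.End.mul_apply, hn v hv, hv b (hχ.hA b hb)]
    have hab : ⁅P (i + 1), P (i + 1)⁆ ≤ ker N P (i + 1) := by
      refine commutator_le.2 fun x hx y hy => ?_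
      refine hP.mem_ker_of_ρ_eq_one hA hi (x := ⁅(⟨x, hx⟩ : P (i + 1)), ⟨y, hy⟩⁆)
        (D.ρ_eq_one_of_forall fun χ hχ v hv => ?_)
      have hone := hχ.smul_of_mem_space (⟨x, hx⟩ : P (i + 1)) ⟨y, hy⟩ hv
      obtain ⟨c, b, hb, hc, hcb⟩ := hscal χ hχ ⟨x, hx⟩ v hv
      obtain ⟨c', b', hb', hc', hcb'⟩ := hscal χ hχ ⟨y, hy⟩ v hv
      rw [hc', map_smul, hc, map_smul, hc', smul_smul, smul_smul, smul_smul] at hone
      by_cases hv0 : v = 0
      · rw [hv0, map_zero]
      have h1 := smul_left_injective K hv0 hone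
      rw [hv _ (hχ.comm_supp _ _)]
      have hne : c * c' ≠ 0 := mul_ne_zero (hcb ▸ hχ.hA b hb) (hcb' ▸ hχ.hA b' hb')
      rw [show χ ⁅(⟨x, hx⟩ : P (i + 1)), ⟨y, hy⟩⁆ = 1 from (mul_eq_right₀ hne).1 (by linear_combination -h1),
        one_smul]
    have hlk := hP.low_le_ker_of_commutator_le (by omega) hab
    refine hP.tower.not_le_ker (show i + 1 < N by omega) fun x hx => ?_
    refine hP.mem_ker_of_ρ_eq_one hA hi (x := ⟨x, hx⟩) (D.ρ_eq_one_of_forall fun χ hχ v hv => ?_)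
    obtain ⟨c, b, hb, hc, hcb⟩ := hscal χ hχ ⟨x, hx⟩ v hv
    rw [hc, hcb, hP.comp_ker_eq_one hA hi hχ (hlk hb), one_smul]
  · refine hP.le_low (show i + 1 < N by omega) (map_subtype_le L) (fun b z hz => ?_) (fun k hk g hg => ?_) hQe
      ⟨t, hL.2 ht, rfl⟩
    · obtain ⟨w, hw, rfl⟩ := hz
      exact ⟨_, hinv _ (hP.pres_act b (i + 1))
        (fun x => smul_mem_iff_of_invariant (hP.isInvariant_low (by omega)) b x) w hw, rfl⟩
    · have hlow := mem_iff_conj_of_mem_normalizer (hP.le_normalizer_low hk (show i + 1 < N by omega) hg)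
      have hlow' := mem_iff_conj_of_mem_normalizer
        (hP.le_normalizer_low hk (show i + 1 < N by omega) (inv_mem hg))
      refine mem_normalizer_of_conj_iff fun z => ⟨?_, ?_⟩
      · rintro ⟨w, hw, rfl⟩
        exact ⟨_, hinv _ (hP.pres_conj (x := g) (by omega) hg) hlow w hw, rfl⟩
      · rintro ⟨w, hw, hwz⟩
        refine ⟨_, hinv _ (hP.pres_conj (x := g⁻¹) (by omega) (inv_mem hg)) hlow' w hw, ?_⟩
        show MulAut.conj g⁻¹ (w : G) = z
        rw [show (w : G) = MulAut.conj g z from hwz]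
        simp [mul_assoc]

/-- The spanning set of a level: its moved elements vanish on the fixed kernel of the next level. -/
theorem exists_B {K : Type} [Field K] [IsAlgClosed K] {i : ℕ} (hi : i + 1 < N) [CharP K (p (i + 1))]
    (hT : i + 1 + 1 < N → hP.Triv hA (i + 1)) :
    ∃ B : Set (levMod N P K i), (hP.sys K hA i hi).Spans B ∧
      ∀ g ∈ B, (hP.sys K hA i hi).S g ≠ g → ∀ d : P (i + 1), (d : G) ∈ kc N P a (i + 1) → g.1 d = 0 := by
  rcases Nat.lt_or_ge (i + 1 + 1) N with hi' | hi'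
  swap
  · refine ⟨Set.univ, ⟨fun _ _ _ => trivial, Submodule.span_univ⟩, fun g _ _ d hd => ?_⟩
    rw [kc_top (show i + 1 + 1 = N by omega)] at hd
    exact g.2.2 d hd.2
  haveI : Fact (p (i + 1)).Prime := ⟨hP.tower.prime (i + 1) hi⟩
  haveI : Fact (p (i + 1 + 1)).Prime := ⟨hP.tower.prime (i + 1 + 1) hi'⟩
  set D' := hP.sys (AlgebraicClosure (ZMod (p (i + 1 + 1)))) hA (i + 1) hi' with hD'
  let B : Set (levMod N P K i) := {f | ∃ χ, D'.IsComp χ ∧ ∀ y ∈ D'.fixK χ, f.1 y = 0}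
  refine ⟨B, ⟨fun x f hf => ?_, ?_⟩, fun g hg hgS d hd => ?_⟩
  · obtain ⟨χ, hχ, hf⟩ := hf
    have hη : Pres N P (MulAut.conj (x : G)) (i + 1) := hP.pres_conj (Nat.le_succ i) x.2
    refine ⟨_, hP.isComp_transport hA hi' hη
      (mem_iff_conj_of_mem_normalizer (hP.le_normalizer_low (Nat.lt_succ_self i) (by omega) x.2)) hχ,
      fun y hy => ?_⟩
    rw [sys_ρ_apply hP hA hi x f, levOp_apply hi _ _ f
      (z := (restrictAut (P (i + 1)) (MulAut.conj (x : G)) (hη _ le_rfl (by omega))).symm y)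
      (by rw [restrictAut_symm_apply, MulEquiv.apply_symm_apply])]
    exact hf _ (hP.fixK_transport hA hi' hη hy)
  · rw [eq_top_iff, ← span_top_of_separating (q := p (i + 1))
      {f : levMod N P K i | f ∈ B ∧ ∀ t, ∃ n : ℕ, f.1 t = n} (fun f hf => hf.2) (fun t ht => ?_)]
    · exact Submodule.span_mono fun f hf => hf.1
    refine hP.mem_low_of_forall hA (K := AlgebraicClosure (ZMod (p (i + 1 + 1)))) hi' (t := t) fun χ hχ => ?_
    by_contra hne
    obtain ⟨f, hf0, hfv⟩ := exists_addFun_ne (K := K) (q := p (i + 1)) (D'.A ⊔ D'.fixK χ)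
      (fun s u => Subgroup.mem_sup_left (D'.hTA s u))
      (fun u => Subgroup.mem_sup_left (hP.lev_pow hi u)) hne
    exact hf0 (ht ⟨f.1, f.2.1, fun z hz => f.2.2 z (Subgroup.mem_sup_left hz)⟩
      ⟨⟨χ, hχ, fun y hy => f.2.2 y (Subgroup.mem_sup_right hy)⟩, hfv⟩)
  · obtain ⟨χ, hχ, hg⟩ := hg
    refine hg d ?_
    by_contra hdn
    have hnl : ¬ D'.Live χ := fun hl => hdn fun v hv => hT hi' (AlgebraicClosure (ZMod (p (i + 1 + 1)))) hi' χ hχ hl d hd v hv
    refine hgS (Subtype.ext (funext fun y => ?_))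
    obtain ⟨z, rfl⟩ := D'.σ.surjective y
    rw [hP.sys_S_apply hA hi g (z := z) (hP.sys_σ_apply hA hi' z).symm]
    refine addFun.eq_of_mul_inv_mem g ?_
    have hfix : z⁻¹ * D'.σ z ∈ D'.fixK χ := fun v hv => by
      by_contra hne
      exact hnl (hP.live_of_displaced hA hi' hχ ⟨z, v, hv, hne⟩)
    have h1 := hg _ hfix
    rw [g.2.1, addFun.map_inv] at h1 ⊢
    linear_combination -h1

end IsGood

end CfsgLib.Turull
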