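import Cfsg.Agent.Turull.LevelB

/-!
The fixed kernels of the levels act trivially on the live parts, and the fixed points of a level are seen by the
level below.
-/

set_option autoImplicit false
set_option linter.style.haveILetI false
set_option linter.unusedSectionVars false

namespace CfsgLib.Turull

open Subgroup
open scoped commutatorElement

variable {G : Type*} [Group G] [Finite G] {A : Type*} [Group A] [MulDistribMulAction A G]
variable {N : ℕ} {P : ℕ → Subgroup G} {p : ℕ → ℕ}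

/-- An element fixed by the generator is fixed by every operator. -/
theorem smul_eq_of_fixed {a : A} {r : ℕ} (hA : CyclicOp G a r) {g : G} (hg : a • g = g) (b : A) : b • g = g := by
  obtain ⟨j, rfl⟩ := hA.gen b
  induction j with
  | zero => rw [pow_zero, one_smul]
  | succ j ih => rw [pow_succ, mul_smul, hg, ih]

theorem kc_le {a : A} {i : ℕ} (hi : i < N) : kc N P a i ≤ P i ⊓ fixBy a := by
  rcases Nat.lt_or_ge (i + 1) N with h | h
  · rw [kc_succ h]; exact inf_le_left
  · rw [kc_top (by omega)]; exact inf_le_left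

theorem fixBy_le_normalizer {a : A} {H : Subgroup G} {g : G} (hg : g ∈ fixBy a)
    (hH : g ∈ normalizer (H : Set G)) : g ∈ normalizer ((H ⊓ fixBy a : Subgroup G) : Set G) := by
  refine mem_normalizer_of_conj_iff fun x => ?_
  rw [Subgroup.mem_inf, Subgroup.mem_inf, ← mem_iff_conj_of_mem_normalizer hH]
  exact and_congr_right fun _ => mem_iff_conj_of_mem_normalizer (Subgroup.le_normalizer hg) x

namespace IsGood

variable (hP : IsGood A N P p) {a : A} {r : ℕ} (hA : CyclicOp G a r)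
include hP

theorem normalizer_kc {k i : ℕ} (hki : k ≤ i) (hi : i < N) {g : G} (hg : g ∈ P k) (hga : a • g = g) :
    g ∈ normalizer (kc N P a i : Set G) := by
  have hfix : ∀ j, i ≤ j → j < N → g ∈ normalizer ((P j ⊓ fixBy a : Subgroup G) : Set G) :=
    fun j hj hjN => fixBy_le_normalizer hga (hP.tower.le_normalizer (hki.trans hj) hjN hg)
  obtain ⟨d, hd⟩ : ∃ d, i + d + 1 = N := ⟨N - 1 - i, by omega⟩
  induction d generalizing i with
  | zero =>
    rw [kc_top (show i + 1 = N by omega)]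
    exact mem_normalizer_of_conj_iff fun x => by
      rw [Subgroup.mem_inf, Subgroup.mem_inf (p := P i ⊓ fixBy a),
        ← mem_iff_conj_of_mem_normalizer (hfix i le_rfl hi), ← mem_iff_conj_of_mem_normalizer
          (hP.le_normalizer_low' hki hi hg)]
  | succ d ih =>
    have hi1 : i + 1 < N := by omega
    rw [kc_succ hi1]
    refine mem_normalizer_of_conj_iff fun x => ?_
    rw [Subgroup.mem_inf, Subgroup.mem_inf (p := P i ⊓ fixBy a), ← mem_iff_conj_of_mem_normalizer (hfix i le_rfl hi),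
      ← mem_iff_conj_of_mem_normalizer (normalizer_actKer (hfix (i + 1) (by omega) hi1)
        (ih (by omega) hi1 (fun j hj => hfix j (by omega)) (by omega)))]

theorem sys_σ_fixed {K : Type} [Field K] {i : ℕ} (hi : i + 1 < N) [CharP K (p (i + 1))] {x : P i}
    (hx : a • (x : G) = x) : (hP.sys K hA i hi).σ x = x := Subtype.ext hx

theorem pow_S_apply_fixed {K : Type} [Field K] {i : ℕ} (hi : i + 1 < N) [CharP K (p (i + 1))]
    (g : levMod N P K i) {e : P (i + 1)} (he : a • (e : G) = e) (j : ℕ) :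
    (((hP.sys K hA i hi).S ^ j) g).1 e = g.1 e := by
  induction j with
  | zero => rfl
  | succ j ih => rw [pow_succ', Module.End.mul_apply, hP.sys_S_apply hA hi _ (z := e) he, ih]

theorem av_apply_fixed {K : Type} [Field K] {i : ℕ} (hi : i + 1 < N) [CharP K (p (i + 1))]
    (g : levMod N P K i) {e : P (i + 1)} (he : a • (e : G) = e) :
    ((hP.sys K hA i hi).av g).1 e = (r : K) * g.1 e := by
  rw [Sys.av_apply]
  simp only [AddSubmonoidClass.coe_finsetSum, Finset.sum_apply, hP.pow_S_apply_fixed hA hi g he, Finset.sum_const,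
    Finset.card_range, nsmul_eq_mul]
  rfl

include hA

/-- A fixed function vanishing on the fixed elements vanishes. -/
theorem fixed_eq_zero {K : Type} [Field K] {i : ℕ} (hi : i + 1 < N) [CharP K (p (i + 1))] {f : levMod N P K i}
    (hf : (hP.sys K hA i hi).S f = f) (h0 : ∀ d : P (i + 1), a • (d : G) = d → f.1 d = 0) : f = 0 := by
  have hσ : ∀ y : P (i + 1), a • (y : G) ∈ P (i + 1) := fun y => hP.tower.inv _ hi a _ y.2
  have hfσ : ∀ y : P (i + 1), f.1 ⟨a • (y : G), hσ y⟩ = f.1 y := fun y => by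
    conv_lhs => rw [← hf]
    exact hP.sys_S_apply hA hi f (z := y) rfl
  refine Subtype.ext (funext fun y => ?_)
  -- the orbit product
  obtain ⟨q, hq0, hqs⟩ : ∃ q : ℕ → ↥(P (i + 1)), q 0 = 1 ∧
      ∀ n : ℕ, q (n + 1) = y * (⟨a • ((q n : ↥(P (i + 1))) : G), hσ (q n)⟩ : ↥(P (i + 1))) :=
    ⟨fun n => Nat.rec (motive := fun _ => ↥(P (i + 1))) 1
      (fun _ (z : ↥(P (i + 1))) => y * ⟨a • (z : G), hσ z⟩) n, rfl, fun _ => rfl⟩
  have hqr : ∀ n, (q (n + 1) : G) = q n * a ^ n • (y : G) := by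
    intro n
    induction n with
    | zero => rw [hqs, hq0]; simp
    | succ n ih =>
      rw [hqs, Subgroup.coe_mul]
      simp only [ih, smul_mul', ← mul_smul, ← pow_succ']
      rw [← mul_assoc, ← ih, hqs n, Subgroup.coe_mul]
  have hfq : ∀ n : ℕ, f.1 (q n) = n * f.1 y := by
    intro n
    induction n with
    | zero => rw [hq0, addFun.map_one]; simp
    | succ n ih => rw [hqs, f.2.1, hfσ, ih]; push_cast; ring
  have hmod : ((q r : G))⁻¹ * a • (q r : G) ∈ low N P (i + 1) := by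
    have h1 : (q (r + 1) : G) = q r * y := by rw [hqr, hA.pow_eq, one_smul]
    have h2 : (q (r + 1) : G) = y * a • (q r : G) := by rw [hqs]; rfl
    have h3 : a • (q r : G) = (y : G)⁻¹ * (q r * y) := by rw [← h1, h2, inv_mul_cancel_left]
    rw [h3, show ((q r : G))⁻¹ * ((y : G)⁻¹ * (q r * y)) = ⁅((q r : G))⁻¹, (y : G)⁻¹⁆ by
      simp [commutatorElement_def, mul_assoc]]
    exact hP.commutator_mem_low hi (inv_mem (q r).2) (inv_mem y.2)
  have hall : ∀ b : A, ((q r : G))⁻¹ * b • (q r : G) ∈ low N P (i + 1) := by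
    intro b
    obtain ⟨j, rfl⟩ := hA.gen b
    induction j with
    | zero => simp
    | succ j ih =>
      rw [pow_succ', mul_smul, show ((q r : G))⁻¹ * a • (a ^ j • (q r : G)) =
        (((q r : G))⁻¹ * a • (q r : G)) * a • (((q r : G))⁻¹ * a ^ j • (q r : G)) by
          rw [smul_mul', smul_inv']; group]
      exact mul_mem hmod (hP.isInvariant_low hi a _ ih)
  haveI : Finite A := Finite.of_surjective (fun j : Fin r => a ^ (j : ℕ)) fun b => by
    obtain ⟨j, rfl⟩ := hA.gen b
    exact ⟨⟨j % r, Nat.mod_lt _ hA.prime.pos⟩, (pow_eq_pow_mod j hA.pow_eq).symm⟩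
  have hzp : ∀ b, b ∈ Subgroup.zpowers a := fun b => by
    obtain ⟨j, rfl⟩ := hA.gen b
    exact Subgroup.npow_mem_zpowers a j
  haveI : IsCyclic A := ⟨⟨a, hzp⟩⟩
  haveI : Group.IsSolvable A := by
    letI : CommGroup A := IsCyclic.commGroup
    infer_instance
  have hcard : Nat.card A ∣ r := by
    have hc0 : Nat.card (Subgroup.zpowers a) = Nat.card A := by
      rw [(Subgroup.eq_top_iff' _).2 hzp, Subgroup.card_top]
    rw [← hc0, Nat.card_zpowers]
    exact orderOf_dvd_of_pow_eq_one hA.pow_eq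
  obtain ⟨c, hc, hcq⟩ := CfsgLib.Coprime.exists_fixed_mem_coset_of_isSolvable (low N P (i + 1))
    (hP.isInvariant_low hi)
    (((hA.prime.coprime_iff_not_dvd.2 hA.cop).coprime_dvd_left hcard).coprime_dvd_right
      (card_subgroup_dvd_card _)) (q r : G) hall
  have hcP : c ∈ P (i + 1) := by
    have := mul_mem (q r).2 (low_le hi hcq)
    rwa [mul_inv_cancel_left] at this
  have h1 := h0 ⟨c, hcP⟩ (hc a)
  have h2 : f.1 ((q r)⁻¹ * ⟨c, hcP⟩) = 0 := f.2.2 _ hcq
  rw [f.2.1, h1, add_zero, addFun.map_inv, neg_eq_zero, hfq] at h2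
  exact (mul_eq_zero.1 h2).resolve_left (hP.sys K hA i hi).hkr

/-- A fixed element killing the fixed points above modulo the fixed kernel fixes the averages of the moved elements. -/
theorem conj_av {K : Type} [Field K] {i : ℕ} (hi : i + 1 < N) [CharP K (p (i + 1))] {k : ℕ} (hki : k ≤ i) {u : G}
    (hu : u ∈ P k) (hua : a • u = u) (hkill : u ∈ actKer (P (i + 1) ⊓ fixBy a) (kc N P a (i + 1)))
    {g : levMod N P K i} (hg : ∀ d : P (i + 1), (d : G) ∈ kc N P a (i + 1) → g.1 d = 0) :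
    levOp hi (MulAut.conj u) (hP.pres_conj hki hu) ((hP.sys K hA i hi).av g) = (hP.sys K hA i hi).av g := by
  set D := hP.sys K hA i hi with hD
  have hcomm : ∀ w, D.S (levOp hi (MulAut.conj u) (hP.pres_conj hki hu) w) =
      levOp hi (MulAut.conj u) (hP.pres_conj hki hu) (D.S w) := by
    intro w
    have h1 : Pres N P ((MulAut.conj u).trans (MulDistribMulAction.toMulEquiv G a)) i := fun j hj hjN x =>
      (hP.pres_conj hki hu j hj hjN x).trans (hP.pres_act a i j hj hjN _)
    rw [← Module.End.mul_apply, ← Module.End.mul_apply]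
    refine LinearMap.congr_fun ?_ w
    exact (levOp_mul hi (hP.pres_act a i) (hP.pres_conj hki hu) h1 fun y _ => rfl).trans
      (levOp_mul hi (hP.pres_conj hki hu) (hP.pres_act a i) h1 fun y _ => by
        simp [smul_mul', hua]).symm
  refine sub_eq_zero.1 (hP.fixed_eq_zero hA hi (by rw [map_sub, hcomm, D.S_av]) fun d hd => ?_)
  have hz : u⁻¹ * (d : G) * u ∈ P (i + 1) :=
    (mem_normalizer_iff''.1 (hP.tower.le_normalizer (hki.trans (Nat.le_succ i)) hi hu) _).1 d.2
  have hfz : a • (u⁻¹ * (d : G) * u) = u⁻¹ * (d : G) * u := by rw [smul_mul', smul_mul', smul_inv', hua, hd]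
  rw [Submodule.coe_sub, Pi.sub_apply, sub_eq_zero,
    levOp_apply hi _ _ _ (y := d) (z := ⟨_, hz⟩) (by simp [mul_assoc]),
    hP.av_apply_fixed hA hi g (e := ⟨_, hz⟩) hfz, hP.av_apply_fixed hA hi g hd]
  congr 1
  have hd' : disp u⁻¹ (d : G) ∈ kc N P a (i + 1) :=
    (mem_actKer.1 (inv_mem hkill)).2 _ ⟨d.2, hd⟩
  rw [show (⟨_, hz⟩ : P (i + 1)) = d * ⟨disp u⁻¹ (d : G), ((kc_le hi) hd').1⟩ from
    Subtype.ext (by simp [disp, mul_assoc]), g.2.1, hg ⟨disp u⁻¹ (d : G), ((kc_le hi) hd').1⟩ hd', add_zero]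

/-- **The fixed kernels act trivially on the live parts.** -/
theorem triv {i : ℕ} (hi : i + 1 < N) : hP.Triv hA i := by
  obtain ⟨d, hd⟩ : ∃ d, i + d + 2 = N := ⟨N - 2 - i, by omega⟩
  induction d generalizing i with
  | zero =>
    intro K _ _ hi' _ χ hχ hl x hx v hv
    obtain ⟨B, hB, hkill⟩ := hP.exists_B hA (K := K) hi' (fun h => absurd h (by omega))
    rw [kc_succ hi', Subgroup.mem_inf] at hx
    exact (hP.sys K hA i hi').trivial_of_fixes hB hχ hl (hP.sys_σ_fixed hA hi' hx.1.2)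
      (fun g hg hgS => hP.conj_av hA hi' le_rfl x.2 hx.1.2 hx.2 (hkill g hg hgS)) hv
  | succ d ih =>
    intro K _ _ hi' _ χ hχ hl x hx v hv
    obtain ⟨B, hB, hkill⟩ := hP.exists_B hA (K := K) hi' (fun h => ih h (by omega))
    rw [kc_succ hi', Subgroup.mem_inf] at hx
    exact (hP.sys K hA i hi').trivial_of_fixes hB hχ hl (hP.sys_σ_fixed hA hi' hx.1.2)
      (fun g hg hgS => hP.conj_av hA hi' le_rfl x.2 hx.1.2 hx.2 (hkill g hg hgS)) hv

theorem exists_B' {K : Type} [Field K] [IsAlgClosed K] {i : ℕ} (hi : i + 1 < N) [CharP K (p (i + 1))] :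
    ∃ B : Set (levMod N P K i), (hP.sys K hA i hi).Spans B ∧
      ∀ g ∈ B, (hP.sys K hA i hi).S g ≠ g → ∀ d : P (i + 1), (d : G) ∈ kc N P a (i + 1) → g.1 d = 0 :=
  hP.exists_B hA hi fun h => hP.triv hA h

/-- A live part has a fixed element above it outside the fixed kernel. -/
theorem exists_fixed_not_kc {K : Type} [Field K] [IsAlgClosed K] {i : ℕ} (hi : i + 1 < N) [CharP K (p (i + 1))]
    {χ : P i → K} (hχ : (hP.sys K hA i hi).IsComp χ) (hl : (hP.sys K hA i hi).Live χ) :
    ¬ P (i + 1) ⊓ fixBy a ≤ kc N P a (i + 1) := by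
  intro hle
  obtain ⟨B, hB, hkill⟩ := hP.exists_B' hA (K := K) hi
  obtain ⟨g, hg, hgS, hge⟩ := (hP.sys K hA i hi).exists_moved hB hχ hl
  apply hge
  rw [hP.fixed_eq_zero hA hi ((hP.sys K hA i hi).S_av g) fun d hd => ?_, map_zero]
  rw [hP.av_apply_fixed hA hi g hd, hkill g hg hgS d (hle ⟨d.2, hd⟩), mul_zero]

theorem cen_of_displacement {i : ℕ} (hi : i < N) (h : ∀ y ∈ P i, y⁻¹ * a • y ∈ low N P i) : Cen A N P i := by
  intro b y hy
  obtain ⟨j, rfl⟩ := hA.gen b
  induction j with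
  | zero => simp
  | succ j ih =>
    rw [pow_succ', mul_smul, show y⁻¹ * a • (a ^ j • y) = (y⁻¹ * a • y) * a • (y⁻¹ * a ^ j • y) by
      rw [smul_mul', smul_inv']; group]
    exact mul_mem (h y hy) (hP.isInvariant_low hi a _ ih)

/-- A level moved by the operators has a part moved, or moved inside, by them. -/
theorem exists_displaced {K : Type} [Field K] [IsAlgClosed K] {i : ℕ} (hi : i + 1 < N) [CharP K (p (i + 1))]
    (hc : ¬ Cen A N P i) :
    ∃ χ, (hP.sys K hA i hi).IsComp χ ∧ ∃ t, ∃ v ∈ (hP.sys K hA i hi).space χ,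
      (hP.sys K hA i hi).ρ (t⁻¹ * (hP.sys K hA i hi).σ t) v ≠ v := by
  by_contra hcon
  push Not at hcon
  refine hc (hP.cen_of_displacement hA (by omega) fun y hy => hP.ker_le_low (by omega) ?_)
  exact hP.mem_ker_of_ρ_eq_one hA hi (x := (⟨y, hy⟩ : P i)⁻¹ * (hP.sys K hA i hi).σ ⟨y, hy⟩)
    ((hP.sys K hA i hi).ρ_eq_one_of_forall fun χ hχ => hcon χ hχ _)

/-- Above the first level, a moved level has a live part. -/
theorem exists_live {K : Type} [Field K] [IsAlgClosed K] {i : ℕ} (hi : i + 1 + 1 < N)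
    [CharP K (p (i + 1 + 1))] (hc : ¬ Cen A N P (i + 1)) :
    ∃ χ, (hP.sys K hA (i + 1) hi).IsComp χ ∧ (hP.sys K hA (i + 1) hi).Live χ := by
  obtain ⟨χ, hχ, hR⟩ := hP.exists_displaced hA (K := K) hi hc
  exact ⟨χ, hχ, hP.live_of_displaced hA hi hχ hR⟩

end IsGood

end CfsgLib.Turull
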