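import Cfsg.Agent.Turull.DualPair
import Mathlib.FieldTheory.IsAlgClosed.AlgebraicClosure
import Mathlib.Algebra.CharP.Two

/-!
A fixed part moved inside and stabilized by a group without fixed points on its quotient has a fixed vector.
-/

set_option autoImplicit false
set_option linter.style.haveILetI false
set_option linter.unusedSectionVars false

namespace CfsgLib.Turull

open scoped commutatorElement

theorem exists_generators {V : Type*} [Group V] [Finite V] (j : ℕ) :
    ∃ g : Fin j → V, Subgroup.closure (Set.range g) = ⊤ ∨ 2 ^ j ≤ Nat.card (Subgroup.closure (Set.range g)) := by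
  induction j with
  | zero => exact ⟨Fin.elim0, Or.inr (by simp only [pow_zero]; exact Nat.card_pos)⟩
  | succ j ih =>
    obtain ⟨g, hg⟩ := ih
    by_cases htop : Subgroup.closure (Set.range g) = ⊤
    · refine ⟨Fin.snoc g 1, Or.inl (eq_top_iff.2 ?_)⟩
      rw [← htop]
      refine Subgroup.closure_mono ?_
      rintro _ ⟨i, rfl⟩
      exact ⟨i.castSucc, Fin.snoc_castSucc _ _ _⟩
    · have hcard := hg.resolve_left htop
      obtain ⟨x, hx⟩ : ∃ x, x ∉ Subgroup.closure (Set.range g) := by
        by_contra hcon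
        push Not at hcon
        exact htop (eq_top_iff.2 fun x _ => hcon x)
      refine ⟨Fin.snoc g x, Or.inr ?_⟩
      have hle : Subgroup.closure (Set.range g) ≤ Subgroup.closure (Set.range (Fin.snoc g x : Fin (j + 1) → V)) := by
        refine Subgroup.closure_mono ?_
        rintro _ ⟨i, rfl⟩
        exact ⟨i.castSucc, Fin.snoc_castSucc _ _ _⟩
      obtain ⟨c, hc⟩ := Subgroup.card_dvd_of_le hle
      have hne : c ≠ 1 := fun h1 => by
        subst h1
        rw [mul_one] at hc
        exact hx ((Subgroup.eq_of_le_of_card_ge hle hc.le).ge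
          (Subgroup.subset_closure ⟨Fin.last j, Fin.snoc_last _ _⟩))
      have hc0 : c ≠ 0 := fun h0 => by
        rw [h0, mul_zero] at hc
        exact absurd hc Nat.card_pos.ne'
      rw [hc, pow_succ]
      exact Nat.mul_le_mul hcard (by omega)

variable {k : Type*} [Field k] {T : Type*} [Group T] [Finite T] {X : Type*} [AddCommGroup X] [Module k X]

/-- The additive functions vanishing on a subgroup. -/
def addFun (K : Type*) [Field K] (Z : Subgroup T) : Submodule K (T → K) where
  carrier := {f | (∀ a b, f (a * b) = f a + f b) ∧ ∀ z ∈ Z, f z = 0}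
  add_mem' := fun {f g} hf hg => ⟨fun a b => by simp only [Pi.add_apply, hf.1, hg.1]; abel,
    fun z hz => by simp only [Pi.add_apply, hf.2 z hz, hg.2 z hz, add_zero]⟩
  zero_mem' := ⟨fun a b => by simp, fun z _ => rfl⟩
  smul_mem' := fun c f hf => ⟨fun a b => by simp only [Pi.smul_apply, hf.1, smul_add],
    fun z hz => by simp only [Pi.smul_apply, hf.2 z hz, smul_zero]⟩

namespace addFun

variable {K : Type*} [Field K] {Z : Subgroup T}

theorem map_one (f : addFun K Z) : f.1 1 = 0 := f.2.2 1 Z.one_mem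

theorem map_inv (f : addFun K Z) (a : T) : f.1 a⁻¹ = -f.1 a := by
  have := f.2.1 a⁻¹ a
  rw [inv_mul_cancel, map_one] at this
  exact eq_neg_of_add_eq_zero_left this.symm

/-- The zeros of an additive function. -/
def zeros (f : addFun K Z) : Subgroup T where
  carrier := {t | f.1 t = 0}
  one_mem' := map_one f
  mul_mem' := fun {a b} ha hb => show f.1 (a * b) = 0 by rw [f.2.1, ha, hb, add_zero]
  inv_mem' := fun {a} ha => show f.1 a⁻¹ = 0 by rw [map_inv, ha, neg_zero]

theorem le_zeros (f : addFun K Z) : Z ≤ zeros f := fun z hz => f.2.2 z hz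

theorem eq_of_mul_inv_mem (f : addFun K Z) {a b : T} (h : f.1 (a * b⁻¹) = 0) : f.1 a = f.1 b := by
  rwa [f.2.1, map_inv, ← sub_eq_add_neg, sub_eq_zero] at h

/-- Composition with the inverse of an automorphism preserving the subgroup. -/
def compOp (η : MulAut T) (hη : ∀ z ∈ Z, η⁻¹ z ∈ Z) : Module.End K (addFun K Z) where
  toFun f := ⟨fun t => f.1 (η⁻¹ t), fun a b => by beta_reduce; rw [_root_.map_mul, f.2.1], fun z hz => f.2.2 _ (hη z hz)⟩
  map_add' f g := rfl
  map_smul' c f := rfl

theorem compOp_apply (η : MulAut T) (hη : ∀ z ∈ Z, η⁻¹ z ∈ Z) (f : addFun K Z) (t : T) :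
    (compOp η hη f).1 t = f.1 (η⁻¹ t) := rfl

end addFun

namespace Sys.IsComp

variable {D : Sys k T X} {χ : T → k} (h : D.IsComp χ) {θ : MulAut T}

theorem mem_zsub_of_comm (hθ : ∀ s t, χ ⁅θ s, θ t⁆ = χ ⁅s, t⁆) {z : T} (hz : z ∈ h.zsub) : θ⁻¹ z ∈ h.zsub := by
  refine h.mem_zsub.2 ((h.supp _).2 fun t => ?_)
  rw [← hθ, MulAut.apply_inv_self]
  exact h.comm_of_supp z hz _

include h in
theorem inv_comm (hθ : ∀ s t, χ ⁅θ s, θ t⁆ = χ ⁅s, t⁆) (s t : T) : χ ⁅θ⁻¹ s, θ⁻¹ t⁆ = χ ⁅s, t⁆ := by
  rw [← hθ, MulAut.apply_inv_self, MulAut.apply_inv_self]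

variable (hp : D.p = 2) (hpow : ∀ t, t ^ D.p ∈ h.zsub)
include hp hpow

theorem comm_sq (v t : T) : χ ⁅v, t⁆ = 1 ∨ χ ⁅v, t⁆ = -1 := by
  refine mul_self_eq_one_iff.1 ?_
  rw [← h.comm_mul_right]
  have hm : t * t ∈ h.zsub := by
    have := hpow t
    rwa [hp, pow_two] at this
  rw [h.comm_inv (t * t) v, h.comm_of_supp _ hm v, inv_one]

theorem two_ne : (1 : k) ≠ -1 := by
  intro h1
  apply D.hkp
  rw [hp]
  linear_combination h1

variable (K : Type*) [Field K] [CharP K 2]

open scoped Classical in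
theorem bit_add (v a b : T) :
    (if χ ⁅v, a * b⁆ = 1 then (0 : K) else 1) =
      (if χ ⁅v, a⁆ = 1 then (0 : K) else 1) + (if χ ⁅v, b⁆ = 1 then (0 : K) else 1) := by
  have hne := h.two_ne hp hpow
  rw [h.comm_mul_right]
  rcases h.comm_sq hp hpow v a with h1 | h1 <;> rcases h.comm_sq hp hpow v b with h2 | h2 <;>
    simp [h1, h2, Ne.symm hne, CharTwo.add_self_eq_zero]

open scoped Classical in
/-- The commutator form as an additive function. -/
noncomputable def bit (v : T) : addFun K h.zsub :=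
  ⟨fun t => if χ ⁅v, t⁆ = 1 then 0 else 1, fun a b => h.bit_add hp hpow K v a b, fun z hz => by
    beta_reduce
    rw [if_pos (by rw [h.comm_inv z v, h.comm_of_supp z hz v, inv_one])]⟩

theorem bit_apply (v t : T) [Decidable (χ ⁅v, t⁆ = 1)] :
    (h.bit hp hpow K v).1 t = if χ ⁅v, t⁆ = 1 then 0 else 1 := by
  show @ite K _ (Classical.propDecidable _) (0 : K) 1 = _
  split <;> simp [*]

theorem bit_eq_zero_iff (v t : T) : (h.bit hp hpow K v).1 t = 0 ↔ χ ⁅v, t⁆ = 1 := by
  classical
  rw [bit_apply]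
  split <;> simp [*]

theorem bit_congr {v w s t : T} (hvw : χ ⁅v, t⁆ = χ ⁅w, s⁆) :
    (h.bit hp hpow K v).1 t = (h.bit hp hpow K w).1 s := by
  classical
  rw [bit_apply, bit_apply, hvw]

theorem bit_symm (v t : T) : (h.bit hp hpow K v).1 t = (h.bit hp hpow K t).1 v := by
  classical
  rw [bit_apply, bit_apply, h.comm_inv t v]
  rcases h.comm_sq hp hpow t v with h1 | h1 <;> simp [h1, Ne.symm (h.two_ne hp hpow)]

theorem bit_mul (v w : T) : h.bit hp hpow K (v * w) = h.bit hp hpow K v + h.bit hp hpow K w := by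
  refine Subtype.ext (funext fun t => ?_)
  rw [Submodule.coe_add, Pi.add_apply, bit_symm, (h.bit hp hpow K t).2.1, bit_symm h hp hpow K t v,
    bit_symm h hp hpow K t w]

theorem span_bit : Submodule.span K (Set.range (h.bit hp hpow K)) = ⊤ := by
  classical
  letI := Fintype.ofFinite T
  suffices hs : ∀ s : Finset T, ∀ f : addFun K h.zsub,
      (∀ t, (∀ v ∈ s, (h.bit hp hpow K v).1 t = 0) → f.1 t = 0) →
        f ∈ Submodule.span K (Set.range (h.bit hp hpow K)) by
    refine eq_top_iff.2 fun f _ => hs Finset.univ f fun t ht => f.2.2 t ((h.supp t).2 fun v => ?_)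
    have := (h.bit_eq_zero_iff hp hpow K v t).1 (ht v (Finset.mem_univ v))
    rw [h.comm_inv v t, this, inv_one]
  intro s
  induction s using Finset.induction with
  | empty =>
    intro f hf
    rw [show f = 0 from Subtype.ext (funext fun t => hf t (by simp))]
    exact Submodule.zero_mem _
  | @insert a s ha ih =>
    intro f hf
    by_cases hex : ∃ t₀, (∀ v ∈ s, (h.bit hp hpow K v).1 t₀ = 0) ∧ (h.bit hp hpow K a).1 t₀ ≠ 0
    · obtain ⟨t₀, h0, ha0⟩ := hex
      have h1 : (h.bit hp hpow K a).1 t₀ = 1 := by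
        rw [bit_apply] at ha0 ⊢
        split at ha0
        · exact absurd rfl ha0
        · next hne => rw [if_neg hne]
      have hmem := ih (f - f.1 t₀ • h.bit hp hpow K a) fun t ht => ?_
      · have := Submodule.add_mem _ hmem
          (Submodule.smul_mem _ (f.1 t₀) (Submodule.subset_span (Set.mem_range_self a)))
        rwa [sub_add_cancel] at this
      rw [Submodule.coe_sub, Pi.sub_apply, Submodule.coe_smul, Pi.smul_apply, smul_eq_mul]
      by_cases hb : (h.bit hp hpow K a).1 t = 0
      · rw [hb, mul_zero, sub_zero]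
        refine hf t fun v hv => ?_
        rcases Finset.mem_insert.1 hv with rfl | hv
        · exact hb
        · exact ht v hv
      · have hb1 : (h.bit hp hpow K a).1 t = 1 := by
          rw [bit_apply] at hb ⊢
          split at hb
          · exact absurd rfl hb
          · next hne => rw [if_neg hne]
        rw [hb1, mul_one, sub_eq_zero]
        refine addFun.eq_of_mul_inv_mem f (hf _ fun v hv => ?_)
        rw [(h.bit hp hpow K v).2.1, addFun.map_inv, CharTwo.neg_eq]
        rcases Finset.mem_insert.1 hv with rfl | hv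
        · rw [hb1, h1, CharTwo.add_self_eq_zero]
        · rw [ht v hv, h0 v hv, add_zero]
    · push Not at hex
      refine ih f fun t ht => hf t fun v hv => ?_
      rcases Finset.mem_insert.1 hv with rfl | hv
      · exact hex t ht
      · exact ht v hv

/-- The duality by the commutator form. -/
noncomputable def dualMap : Module.Dual K (addFun K h.zsub) →ₗ[K] addFun K h.zsub where
  toFun φ := ⟨fun v => φ (h.bit hp hpow K v), fun a b => by beta_reduce; rw [bit_mul, map_add], fun z hz => by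
    beta_reduce
    rw [show h.bit hp hpow K z = 0 from Subtype.ext (funext fun t => by
      rw [bit_symm]; exact (h.bit hp hpow K t).2.2 z hz), _root_.map_zero]⟩
  map_add' _ _ := rfl
  map_smul' _ _ := rfl

theorem dualMap_bijective : Function.Bijective (h.dualMap hp hpow K) := by
  have hinj : Function.Injective (h.dualMap hp hpow K) := by
    rw [injective_iff_map_eq_zero]
    intro φ hφ
    refine LinearMap.ext fun f => ?_
    refine Submodule.span_induction (p := fun f _ => φ f = 0) ?_ (map_zero φ)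
      (fun a b _ _ ha hb => by rw [map_add, ha, hb, add_zero]) (fun c a _ ha => by rw [map_smul, ha, smul_zero])
      (show f ∈ Submodule.span K (Set.range (h.bit hp hpow K)) by rw [h.span_bit hp hpow K]; trivial)
    rintro _ ⟨v, rfl⟩
    exact congrFun (congrArg Subtype.val hφ) v
  exact ⟨hinj, (LinearMap.injective_iff_surjective_of_finrank_eq_finrank Subspace.dual_finrank_eq).1 hinj⟩

/-- The invariant form on the additive functions. -/
noncomputable def form : addFun K h.zsub →ₗ[K] Module.Dual K (addFun K h.zsub) :=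
  (LinearEquiv.ofBijective (h.dualMap hp hpow K) (h.dualMap_bijective hp hpow K)).symm.toLinearMap

theorem form_inj {x : addFun K h.zsub} (hx : h.form hp hpow K x = 0) : x = 0 :=
  (LinearEquiv.ofBijective _ (h.dualMap_bijective hp hpow K)).symm.map_eq_zero_iff.1 hx

theorem form_compOp {η : MulAut T} (hη : ∀ s t, χ ⁅η s, η t⁆ = χ ⁅s, t⁆) (x y : addFun K h.zsub) :
    h.form hp hpow K (addFun.compOp η (fun _ hz => h.mem_zsub_of_comm hη hz) x)
      (addFun.compOp η (fun _ hz => h.mem_zsub_of_comm hη hz) y) = h.form hp hpow K x y := by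
  set e := LinearEquiv.ofBijective (h.dualMap hp hpow K) (h.dualMap_bijective hp hpow K) with he
  set φ := h.form hp hpow K x with hφ
  have hx : h.dualMap hp hpow K φ = x := e.apply_symm_apply x
  have hηi : ∀ s t, χ ⁅η⁻¹ s, η⁻¹ t⁆ = χ ⁅s, t⁆ := h.inv_comm hη
  set op' : Module.End K (addFun K h.zsub) :=
    addFun.compOp η⁻¹ (fun _ hz => h.mem_zsub_of_comm hηi hz) with hop
  have hkey : h.dualMap hp hpow K (φ.comp op') = addFun.compOp η (fun _ hz => h.mem_zsub_of_comm hη hz) x := by
    refine Subtype.ext (funext fun v => ?_)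
    show φ (op' (h.bit hp hpow K v)) = x.1 (η⁻¹ v)
    conv_rhs => rw [← hx]
    show _ = φ (h.bit hp hpow K (η⁻¹ v))
    congr 1
    refine Subtype.ext (funext fun t => ?_)
    rw [hop, addFun.compOp_apply, inv_inv]
    refine h.bit_congr hp hpow K ?_
    conv_rhs => rw [← hη, MulAut.apply_inv_self]
  have h2 : h.form hp hpow K (addFun.compOp η (fun _ hz => h.mem_zsub_of_comm hη hz) x) = φ.comp op' := by
    rw [← hkey]
    exact e.symm_apply_apply (φ.comp op')
  rw [h2, LinearMap.comp_apply]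
  congr 1
  refine Subtype.ext (funext fun t => ?_)
  rw [hop, addFun.compOp_apply, addFun.compOp_apply, inv_inv, MulAut.inv_apply_self]

end Sys.IsComp

/-- **No inert parts.** -/
theorem Sys.exists_fixed_of_group [IsAlgClosed k] [FiniteDimensional k X] {D : Sys k T X} {χ : T → k}
    (h : D.IsComp χ) (hχ : ∀ t, χ (D.σ t) = χ t) (hR : ∃ t, ∃ v ∈ D.space χ, D.ρ (t⁻¹ * D.σ t) v ≠ v)
    {U : Type*} [Group U] [Finite U] {q : ℕ} (hq : q.Prime) (hUq : IsPGroup q U) (hqp : q ≠ D.p) (hqr : q ≠ D.r)
    (θ : U →* MulAut T) (σU : MulAut U) (hσU : σU ^ D.r = 1)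
    (hθσ : ∀ u t, D.σ (θ u t) = θ (σU u) (D.σ t)) (AU : Subgroup U) (hAU : ∀ s t : U, ⁅s, t⁆ ∈ AU)
    (hAU2 : ∀ a ∈ AU, ∀ (u : U) t, θ ⁅a, u⁆ t * t⁻¹ ∈ h.zsub) (hAUσ : ∀ a ∈ AU, σU a ∈ AU)
    (hpow : ∀ t, t ^ D.p ∈ h.zsub) (hcomm : ∀ u s t, χ ⁅θ u s, θ u t⁆ = χ ⁅s, t⁆)
    (hgen : ∀ N : Subgroup T, h.zsub ≤ N → (∀ u t, θ u t * t⁻¹ ∈ N) → N = ⊤) :
    ∃ v ∈ D.space χ, v ≠ 0 ∧ D.S v = v := by
  classical
  by_contra hcon
  push Not at hcon
  obtain ⟨hp2, m, hm, hr, hcard⟩ := inert_shape h hχ hR fun v hv hS => by_contra fun hv0 => hcon v hv hv0 hS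
  haveI : Fact (Nat.Prime 2) := ⟨Nat.prime_two⟩
  set K := AlgebraicClosure (ZMod 2)
  haveI : CharP K 2 := charP_of_injective_algebraMap (algebraMap (ZMod 2) K).injective 2
  have hq2 : q ≠ 2 := hp2 ▸ hqp
  have hcast : ∀ a : ℕ, a.Prime → a ≠ 2 → (a : K) ≠ 0 := fun a ha ha2 h0 =>
    ha2 ((Nat.prime_dvd_prime_iff_eq Nat.prime_two ha).1 ((CharP.cast_eq_zero_iff K 2 a).1 h0)).symm
  have hr2 : D.r ≠ 2 := fun h2 => D.hpr (hp2.trans h2.symm)
  have hσc : ∀ s t, χ ⁅D.σ s, D.σ t⁆ = χ ⁅s, t⁆ := fun s t => by rw [← map_commutatorElement, hχ]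
  let op : ∀ η : MulAut T, (∀ s t, χ ⁅η s, η t⁆ = χ ⁅s, t⁆) → Module.End K (addFun K h.zsub) :=
    fun η hη => addFun.compOp η fun _ hz => h.mem_zsub_of_comm hη hz
  have hop : ∀ η hη (f : addFun K h.zsub) t, (op η hη f).1 t = f.1 (η⁻¹ t) := fun _ _ _ _ => rfl
  let S : Module.End K (addFun K h.zsub) := op D.σ hσc
  have hSpow : ∀ (j : ℕ) (f : addFun K h.zsub) t, ((S ^ j) f).1 t = f.1 ((D.σ ^ j)⁻¹ t) := by
    intro j
    induction j with
    | zero => intro f t; simp
    | succ j ih =>
      intro f t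
      rw [pow_succ, Module.End.mul_apply, ih, show ∀ x, (S f).1 x = f.1 (D.σ⁻¹ x) from fun _ => rfl, pow_succ,
        mul_inv_rev, MulAut.mul_apply]
  let E : Sys K U (addFun K h.zsub) :=
    { ρ :=
        { toFun := fun u => op (θ u) (hcomm u)
          map_one' := LinearMap.ext fun f => Subtype.ext (funext fun t => by simp [hop])
          map_mul' := fun a b => LinearMap.ext fun f => Subtype.ext (funext fun t => by simp [hop]) }
      A := AU
      hTA := hAU
      hA := fun a ha u => LinearMap.ext fun f => Subtype.ext (funext fun t => by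
        show f.1 ((θ ⁅a, u⁆)⁻¹ t) = f.1 t
        refine (addFun.eq_of_mul_inv_mem f (f.2.2 _ ?_)).symm
        have := hAU2 a ha u ((θ ⁅a, u⁆)⁻¹ t)
        rwa [MulAut.apply_inv_self] at this)
      σ := σU
      hσA := hAUσ
      S := S
      r := D.r
      p := q
      hr := D.hr
      hp := hq
      hpr := hqr
      hσ := hσU
      hS := LinearMap.ext fun f => Subtype.ext (funext fun t => by rw [hSpow, D.hσ]; simp)
      compat := fun u => LinearMap.ext fun f => Subtype.ext (funext fun t => by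
        show f.1 ((θ u)⁻¹ (D.σ⁻¹ t)) = f.1 (D.σ⁻¹ ((θ (σU u))⁻¹ t))
        refine congrArg f.1 ?_
        apply (θ u).injective
        apply D.σ.injective
        rw [MulAut.apply_inv_self, MulAut.apply_inv_self, hθσ, MulAut.apply_inv_self, MulAut.apply_inv_self])
      hT := hUq
      hkp := hcast q hq hq2
      hkr := hcast D.r D.hr hr2 }
  obtain ⟨ζ, hζ⟩ := exists_primitive (k := K) (N := D.r) (hcast D.r D.hr hr2)
  haveI : NeZero D.r := ⟨D.hr.ne_zero⟩
  -- few eigenvectors away from the fixed ones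
  obtain ⟨g, hg⟩ := exists_generators (V := h.mV hχ) (2 * m)
  have hgtop : Subgroup.closure (Set.range g) = ⊤ :=
    hg.elim id fun hle => Subgroup.eq_top_of_le_card _ (by rw [hcard]; exact hle)
  have hcount : ∑ c ∈ (Finset.univ : Finset (Fin D.r)).filter (fun c : Fin D.r => (c : ℕ) ≠ 0),
      Module.finrank K (Turull.eig S (ζ ^ (c : ℕ))) ≤ 2 * m := by
    let ev : addFun K h.zsub →ₗ[K] (Fin (2 * m) → K) :=
      { toFun := fun f i => f.1 (h.rep hχ (g i))
        map_add' := fun _ _ => rfl
        map_smul' := fun _ _ => rfl }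
    have hker : LinearMap.ker ev ≤ Turull.eig S (ζ ^ ((0 : Fin D.r) : ℕ)) := by
      intro f hf
      rw [mem_eig, Fin.val_zero, pow_zero, one_smul]
      have hcl : ∀ v : h.mV hχ, f.1 (h.rep hχ v) = 0 := by
        intro v
        refine Subgroup.closure_induction (p := fun v _ => f.1 (h.rep hχ v) = 0) ?_ ?_ ?_ ?_
          (show v ∈ Subgroup.closure (Set.range g) by rw [hgtop]; trivial)
        · rintro _ ⟨i, rfl⟩
          exact congrFun (LinearMap.mem_ker.1 hf) i
        · rw [h.rep_one, addFun.map_one]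
        · intro a b _ _ ha hb
          have hm' := f.2.2 _ (h.mem_zsub.2 (h.rep_mul_mem hχ a b))
          rw [f.2.1, f.2.1, addFun.map_inv, ha, hb] at hm'
          simpa using hm'
        · intro a _ ha
          have hm' := f.2.2 _ (h.mem_zsub.2 (h.rep_mul_mem hχ a⁻¹ a))
          rw [f.2.1, f.2.1, addFun.map_inv, ha, inv_mul_cancel, h.rep_one, addFun.map_one] at hm'
          simpa using hm'
      refine Subtype.ext (funext fun t => ?_)
      show f.1 (D.σ⁻¹ t) = f.1 t
      obtain ⟨s, rfl⟩ := D.σ.surjective t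
      rw [MulAut.inv_apply_self]
      refine (addFun.eq_of_mul_inv_mem f ?_).symm
      have hv : h.autBar D.σ hχ (s : T ⧸ h.zsub) / (s : T ⧸ h.zsub) ∈ h.mV hχ := mem_moveG.2 ⟨_, rfl⟩
      set v : h.mV hχ := ⟨_, hv⟩
      have hm' : f.1 (D.σ s * s⁻¹ * (h.rep hχ v)⁻¹) = 0 := f.2.2 _ (by
        rw [← QuotientGroup.eq_one_iff, QuotientGroup.mk_mul, QuotientGroup.mk_inv, h.mk_rep,
          mul_inv_eq_one, QuotientGroup.mk_mul, QuotientGroup.mk_inv]
        exact (div_eq_mul_inv _ _).symm)
      rwa [f.2.1, addFun.map_inv, hcl v, neg_zero, add_zero] at hm'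
    have h1 := ev.finrank_range_add_finrank_ker
    have h2 : Module.finrank K (LinearMap.range ev) ≤ 2 * m := by
      refine (Submodule.finrank_le _).trans ?_
      rw [Module.finrank_pi, Fintype.card_fin]
    have h3 := Submodule.finrank_mono hker
    have h4 := sum_finrank_eig (G := S) (hcast D.r D.hr hr2) E.hS hζ
    rw [← Finset.sum_filter_add_sum_filter_not Finset.univ (fun c : Fin D.r => (c : ℕ) ≠ 0),
      show (Finset.univ : Finset (Fin D.r)).filter (fun c : Fin D.r => ¬ (c : ℕ) ≠ 0) = {0} by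
        ext c; simp [Fin.val_eq_zero_iff], Finset.sum_singleton] at h4
    omega
  refine E.no_pairing hq2 hm hr hζ hcount (fun hS => ?_)
    (fun f => ⟨fun t => f.1 t ^ 2, fun a b => by beta_reduce; rw [f.2.1, CharTwo.add_sq],
      fun z hz => by beta_reduce; rw [f.2.2 z hz, zero_pow two_ne_zero]⟩)
    (fun f hf => Subtype.ext (funext fun t => pow_eq_zero_iff two_ne_zero |>.1 (congrFun (congrArg Subtype.val hf) t)))
    (fun c f => Subtype.ext (funext fun t => mul_pow c (f.1 t) 2)) (fun f => rfl) (fun u f => rfl)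
    (h.form hp2 hpow K)
    (fun x hx => h.form_inj hp2 hpow K (LinearMap.ext hx))
    (fun x y => h.form_compOp hp2 hpow K hσc x y) (fun u x y => h.form_compOp hp2 hpow K (hcomm u) x y)
    (fun f hf => ?_)
  · have hnt := h.nontrivial_mV hχ hR
    rw [nontrivial_iff_exists_ne (1 : h.mV hχ)] at hnt
    obtain ⟨v, hv⟩ := hnt
    obtain ⟨w, hw⟩ := mem_moveG.1 v.2
    induction w using QuotientGroup.induction_on with
    | _ s =>
      refine hv (Subtype.ext (hw.symm.trans ?_))
      rw [Subgroup.coe_one, div_eq_one, Sys.IsComp.autBar_mk]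
      refine QuotientGroup.eq.2 (h.mem_zsub.2 ((h.supp _).2 fun x => ?_))
      have hfx : ∀ (b : addFun K h.zsub), b.1 ((D.σ s)⁻¹ * s) = 0 := fun b => by
        have := congrFun (congrArg Subtype.val (LinearMap.congr_fun hS b)) (D.σ s)
        simp only [E, S, hop, MulAut.inv_apply_self, Module.End.one_apply] at this
        rw [b.2.1, addFun.map_inv, ← this, neg_add_cancel]
      have := (h.bit_eq_zero_iff hp2 hpow K x _).1 (hfx (h.bit hp2 hpow K x))
      rw [h.comm_inv x, this, inv_one]
  · have hN := hgen (addFun.zeros f) (addFun.le_zeros f) fun u t => by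
      have := congrFun (congrArg Subtype.val (hf u)) (θ u t)
      simp only [E, MonoidHom.coe_mk, OneHom.coe_mk, hop, MulAut.inv_apply_self] at this
      show f.1 (θ u t * t⁻¹) = 0
      rw [f.2.1, addFun.map_inv, this, add_neg_cancel]
    exact Subtype.ext (funext fun t => (hN.ge (Subgroup.mem_top t) : f.1 t = 0))

end CfsgLib.Turull
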