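import Cfsg.Agent.Turull.TowerFix
import Cfsg.Agent.Turull.NoInert
import Mathlib.Algebra.Module.ZMod
import Mathlib.LinearAlgebra.Dual.Lemmas

/-!
The modules carried by the levels of a minimal tower.
-/

set_option autoImplicit false
set_option linter.style.haveILetI false
set_option linter.unusedSectionVars false

namespace CfsgLib.Turull

open Subgroup
open scoped commutatorElement

variable {G : Type*} [Group G]

/-- An automorphism of the group restricted to a subgroup it preserves. -/
def restrictAut (H : Subgroup G) (η : G ≃* G) (hη : ∀ x, x ∈ H ↔ η x ∈ H) : MulAut H where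
  toFun x := ⟨η x, (hη x).1 x.2⟩
  invFun x := ⟨η.symm x, (hη _).2 (by rw [MulEquiv.apply_symm_apply]; exact x.2)⟩
  left_inv x := Subtype.ext (η.symm_apply_apply x)
  right_inv x := Subtype.ext (η.apply_symm_apply x)
  map_mul' x y := Subtype.ext (map_mul η (x : G) y)

theorem restrictAut_apply (H : Subgroup G) (η : G ≃* G) (hη : ∀ x, x ∈ H ↔ η x ∈ H) (x : H) :
    ((restrictAut H η hη x : H) : G) = η x := rfl

theorem restrictAut_symm_apply (H : Subgroup G) (η : G ≃* G) (hη : ∀ x, x ∈ H ↔ η x ∈ H) (x : H) :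
    (((restrictAut H η hη).symm x : H) : G) = η.symm x := rfl

theorem restrictAut_inv_apply (H : Subgroup G) (η : G ≃* G) (hη : ∀ x, x ∈ H ↔ η x ∈ H) (x : H) :
    (((restrictAut H η hη)⁻¹ x : H) : G) = η.symm x := rfl

section Separation

variable {T : Type*} [Group T] [Finite T] {K : Type*} [Field K] {q : ℕ}

theorem addFun.map_pow {Z : Subgroup T} (f : addFun K Z) (t : T) (n : ℕ) : f.1 (t ^ n) = n * f.1 t := by
  induction n with
  | zero => rw [pow_zero, addFun.map_one]; simp
  | succ n ih => rw [pow_succ, f.2.1, ih]; push_cast; ring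

/-- Additive functions with values in the prime field separate points modulo a subgroup with elementary quotient. -/
theorem exists_addFun_ne [Fact q.Prime] [CharP K q] (Z : Subgroup T) (hZc : ∀ s t : T, ⁅s, t⁆ ∈ Z)
    (hZp : ∀ t : T, t ^ q ∈ Z) {t : T} (ht : t ∉ Z) :
    ∃ f : addFun K Z, f.1 t ≠ 0 ∧ ∀ s, ∃ n : ℕ, f.1 s = n := by
  haveI : Z.Normal := ⟨fun n hn g => by
    rw [show g * n * g⁻¹ = ⁅g, n⁆ * n by simp [commutatorElement_def]]
    exact Z.mul_mem (hZc g n) hn⟩
  have hcomm : ∀ a b : T ⧸ Z, a * b = b * a := by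
    intro a b
    induction a using QuotientGroup.induction_on with
    | _ s =>
      induction b using QuotientGroup.induction_on with
      | _ u =>
        rw [← QuotientGroup.mk_mul, ← QuotientGroup.mk_mul, QuotientGroup.eq]
        have h := hZc u⁻¹ s⁻¹
        simpa [commutatorElement_def, mul_assoc] using h
  letI : CommGroup (T ⧸ Z) := { (inferInstance : Group (T ⧸ Z)) with mul_comm := hcomm }
  have hexp : ∀ w : T ⧸ Z, w ^ q = 1 := fun w => by
    induction w using QuotientGroup.induction_on with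
    | _ s => rw [← QuotientGroup.mk_pow]; exact (QuotientGroup.eq_one_iff _).2 (hZp s)
  haveI : Module (ZMod q) (Additive (T ⧸ Z)) :=
    AddCommGroup.zmodModule fun w => Additive.toMul.injective (by rw [toMul_nsmul]; exact hexp _)
  obtain ⟨φ, hφ⟩ : ∃ φ : Module.Dual (ZMod q) (Additive (T ⧸ Z)), φ (Additive.ofMul (t : T ⧸ Z)) ≠ 0 := by
    by_contra hcon
    push Not at hcon
    exact ht ((QuotientGroup.eq_one_iff t).1 ((Module.forall_dual_apply_eq_zero_iff (ZMod q) _).1 hcon))
  refine ⟨⟨fun s => ZMod.castHom dvd_rfl K (φ (Additive.ofMul (s : T ⧸ Z))), fun a b => ?_, fun z hz => ?_⟩,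
    fun h0 => hφ ((ZMod.castHom dvd_rfl K).injective ((h0 : ZMod.castHom dvd_rfl K _ = 0).trans (map_zero _).symm)),
    fun s => ⟨(φ (Additive.ofMul (s : T ⧸ Z))).val, ?_⟩⟩
  · simp [QuotientGroup.mk_mul, ofMul_mul]
  · simp [(QuotientGroup.eq_one_iff z).2 hz]
  · show ZMod.castHom dvd_rfl K _ = _
    rw [ZMod.castHom_apply, ZMod.natCast_val]

/-- A separating family with values in the prime field spans the additive functions. -/
theorem span_top_of_separating [CharP K q] [Fact q.Prime] {Z : Subgroup T} (F : Set (addFun K Z))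
    (hval : ∀ f ∈ F, ∀ t, ∃ n : ℕ, f.1 t = n) (hsep : ∀ t, (∀ f ∈ F, f.1 t = 0) → t ∈ Z) :
    Submodule.span K F = ⊤ := by
  classical
  haveI : Finite F := by
    haveI : Fact (0 < q) := ⟨(Fact.out : q.Prime).pos⟩
    refine Finite.of_injective (fun f : F => fun t => ((Classical.choose (hval f.1 f.2 t) : ℕ) : ZMod q))
      fun f g hfg => Subtype.ext (Subtype.ext (funext fun t => ?_))
    have h := congrFun hfg t
    have h' : (((Classical.choose (hval f.1 f.2 t) : ℕ)) : K) = (((Classical.choose (hval g.1 g.2 t) : ℕ)) : K) := by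
      have := congrArg (ZMod.castHom dvd_rfl K) h
      rwa [map_natCast, map_natCast] at this
    rw [Classical.choose_spec (hval f.1 f.2 t), Classical.choose_spec (hval g.1 g.2 t), h']
  letI := Fintype.ofFinite F
  suffices hs : ∀ s : Finset F, ∀ f : addFun K Z, (∀ t, (∀ g ∈ s, g.1.1 t = 0) → f.1 t = 0) →
      f ∈ Submodule.span K F by
    exact eq_top_iff.2 fun f _ => hs Finset.univ f fun t ht => f.2.2 t
      (hsep t fun g hg => ht ⟨g, hg⟩ (Finset.mem_univ _))
  intro s
  induction s using Finset.induction with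
  | empty =>
    intro f hf
    rw [show f = 0 from Subtype.ext (funext fun t => hf t (by simp))]
    exact Submodule.zero_mem _
  | @insert a s ha ih =>
    intro f hf
    by_cases hex : ∃ t₀, (∀ g ∈ s, g.1.1 t₀ = 0) ∧ a.1.1 t₀ ≠ 0
    · obtain ⟨t₀, h0, ha0⟩ := hex
      have hmem := ih (f - (f.1 t₀ / a.1.1 t₀) • a.1) fun t ht => ?_
      · have := Submodule.add_mem _ hmem (Submodule.smul_mem _ (f.1 t₀ / a.1.1 t₀) (Submodule.subset_span a.2))
        rwa [sub_add_cancel] at this
      rw [Submodule.coe_sub, Pi.sub_apply, Submodule.coe_smul, Pi.smul_apply, smul_eq_mul, sub_eq_zero]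
      obtain ⟨n₀, hn₀⟩ := hval _ a.2 t₀
      obtain ⟨n, hn⟩ := hval _ a.2 t
      -- the value at `t` is a multiple of the value at `t₀`
      have hn0 : (n₀ : ZMod q) ≠ 0 := fun h => ha0 (by
        rw [hn₀, ← map_natCast (ZMod.castHom dvd_rfl K) n₀, h, map_zero])
      set l := ((n : ZMod q) / n₀).val with hl
      have hval' : a.1.1 t = (l : K) * a.1.1 t₀ := by
        rw [hn, hn₀, ← map_natCast (ZMod.castHom dvd_rfl K) n, ← map_natCast (ZMod.castHom dvd_rfl K) l,
          ← map_natCast (ZMod.castHom dvd_rfl K) n₀, ← map_mul, hl, ZMod.natCast_zmod_val, div_mul_cancel₀ _ hn0]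
      have hft : f.1 (t * (t₀ ^ l)⁻¹) = 0 := by
        refine hf _ fun g hg => ?_
        rw [g.1.2.1, addFun.map_inv, addFun.map_pow]
        rcases Finset.mem_insert.1 hg with rfl | hg
        · rw [hval', add_neg_cancel]
        · rw [ht g hg, h0 g hg, mul_zero, neg_zero, add_zero]
      rw [addFun.eq_of_mul_inv_mem f hft, addFun.map_pow, hval']
      field_simp
    · push Not at hex
      refine ih f fun t ht => hf t fun g hg => ?_
      rcases Finset.mem_insert.1 hg with rfl | hg
      · exact hex t ht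
      · exact ht g hg

end Separation

variable (N : ℕ) (P : ℕ → Subgroup G)

/-- An automorphism preserving the levels from the `i`-th one upwards. -/
def Pres (η : G ≃* G) (i : ℕ) : Prop := ∀ j, i ≤ j → j < N → ∀ x, x ∈ P j ↔ η x ∈ P j

/-- The module of a level. -/
abbrev levMod (K : Type*) [Field K] (i : ℕ) : Submodule K (P (i + 1) → K) :=
  addFun K ((low N P (i + 1)).subgroupOf (P (i + 1)))

variable {N P}

theorem Pres.mono {η : G ≃* G} {i j : ℕ} (h : Pres N P η i) (hij : i ≤ j) : Pres N P η j :=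
  fun l hl => h l (hij.trans hl)

theorem Pres.symm {η : G ≃* G} {i : ℕ} (h : Pres N P η i) : Pres N P η.symm i :=
  fun j hj hjN x => by rw [h j hj hjN (η.symm x), MulEquiv.apply_symm_apply]

theorem Pres.mem_low {η : G ≃* G} {i : ℕ} (h : Pres N P η i) (hi : i + 1 < N) (x : G) :
    x ∈ low N P (i + 1) ↔ η x ∈ low N P (i + 1) := by
  simp only [low, Subgroup.mem_inf]
  exact and_congr (h _ (Nat.le_succ i) hi x) (mem_fixer_iff_of_equiv η (h i le_rfl (by omega))
    (fun y => mem_ker_iff_of_equiv η hi (fun j hj hj' => h j (by omega) hj') y) x)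

variable [Finite G] {K : Type*} [Field K]

/-- The operator of an automorphism on the module of a level. -/
noncomputable def levOp {i : ℕ} (hi : i + 1 < N) (η : G ≃* G) (h : Pres N P η i) :
    Module.End K (levMod N P K i) :=
  addFun.compOp (K := K) (Z := (low N P (i + 1)).subgroupOf (P (i + 1)))
    (restrictAut (P (i + 1)) η (h _ (Nat.le_succ i) hi)) fun z hz => by
    rw [Subgroup.mem_subgroupOf] at hz ⊢
    rw [restrictAut_inv_apply]
    exact (h.symm.mem_low hi _).1 hz

theorem levOp_apply {i : ℕ} (hi : i + 1 < N) (η : G ≃* G) (h : Pres N P η i) (f : levMod N P K i)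
    {y z : P (i + 1)} (hyz : η (z : G) = (y : G)) : (levOp hi η h f).1 y = f.1 z := by
  rw [levOp, addFun.compOp_apply]
  refine congrArg f.1 (Subtype.ext ?_)
  rw [restrictAut_inv_apply, ← hyz, MulEquiv.symm_apply_apply]

theorem levOp_ext {i : ℕ} (hi : i + 1 < N) {η η' : G ≃* G} (h : Pres N P η i) (h' : Pres N P η' i)
    (e : ∀ y ∈ P (i + 1), η y = η' y) : levOp (K := K) hi η h = levOp hi η' h' := by
  refine LinearMap.ext fun f => Subtype.ext (funext fun y => ?_)
  have hz : η.symm (y : G) ∈ P (i + 1) := (h.symm _ (Nat.le_succ i) hi _).1 y.2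
  rw [levOp_apply hi η h f (y := y) (z := ⟨_, hz⟩) (η.apply_symm_apply _),
    levOp_apply hi η' h' f (y := y) (z := ⟨_, hz⟩) ((e _ hz).symm.trans (η.apply_symm_apply _))]

theorem levOp_mul {i : ℕ} (hi : i + 1 < N) {η η' η'' : G ≃* G} (h : Pres N P η i) (h' : Pres N P η' i)
    (h'' : Pres N P η'' i) (e : ∀ y ∈ P (i + 1), η (η' y) = η'' y) :
    levOp (K := K) hi η h * levOp hi η' h' = levOp hi η'' h'' := by
  refine LinearMap.ext fun f => Subtype.ext (funext fun y => ?_)
  have hz : η.symm (y : G) ∈ P (i + 1) := (h.symm _ (Nat.le_succ i) hi _).1 y.2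
  have hw : η'.symm (η.symm (y : G)) ∈ P (i + 1) := (h'.symm _ (Nat.le_succ i) hi _).1 hz
  rw [Module.End.mul_apply, levOp_apply hi η h _ (y := y) (z := ⟨_, hz⟩) (η.apply_symm_apply _),
    levOp_apply hi η' h' f (y := ⟨_, hz⟩) (z := ⟨_, hw⟩) (η'.apply_symm_apply _),
    levOp_apply hi η'' h'' f (y := y) (z := ⟨_, hw⟩) (by
      rw [← e _ hw, MulEquiv.apply_symm_apply, MulEquiv.apply_symm_apply])]

theorem levOp_refl {i : ℕ} (hi : i + 1 < N) {η : G ≃* G} (h : Pres N P η i) (e : ∀ y ∈ P (i + 1), η y = y) :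
    levOp (K := K) hi η h = 1 := by
  refine LinearMap.ext fun f => Subtype.ext (funext fun y => ?_)
  rw [levOp_apply hi η h f (y := y) (z := y) (e _ y.2)]
  rfl

/-- The operator as an equivalence. -/
noncomputable def levEquiv {i : ℕ} (hi : i + 1 < N) (η : G ≃* G) (h : Pres N P η i) :
    levMod N P K i ≃ₗ[K] levMod N P K i :=
  LinearEquiv.ofLinearMap (levOp hi η h) (levOp hi η.symm h.symm)
    (by
      rw [← Module.End.mul_eq_comp, levOp_mul hi h h.symm (η'' := MulEquiv.refl G) (fun j _ _ x => Iff.rfl)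
        (fun y _ => η.apply_symm_apply y)]
      exact levOp_refl hi _ fun y _ => rfl)
    (by
      rw [← Module.End.mul_eq_comp, levOp_mul hi h.symm h (η'' := MulEquiv.refl G) (fun j _ _ x => Iff.rfl)
        (fun y _ => η.symm_apply_apply y)]
      exact levOp_refl hi _ fun y _ => rfl)

theorem levEquiv_apply {i : ℕ} (hi : i + 1 < N) (η : G ≃* G) (h : Pres N P η i) (f : levMod N P K i) :
    levEquiv hi η h f = levOp hi η h f := rfl

/-! ### The representation of a level -/

variable {A : Type*} [Group A] [MulDistribMulAction A G] {p : ℕ → ℕ}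

/-- The data of a cyclic group of operators of prime order coprime to the group. -/
structure CyclicOp (G : Type*) [Group G] {A : Type*} [Group A] [MulDistribMulAction A G] (a : A) (r : ℕ) :
    Prop where
  prime : r.Prime
  pow_eq : a ^ r = 1
  gen : ∀ b : A, ∃ j : ℕ, a ^ j = b
  cop : ¬ r ∣ Nat.card G

namespace IsGood

variable (hP : IsGood A N P p)
include hP

theorem pres_conj {k i : ℕ} (hki : k ≤ i) {x : G} (hx : x ∈ P k) : Pres N P (MulAut.conj x) i :=
  fun _ hj hjN y => mem_iff_conj_of_mem_normalizer (hP.tower.le_normalizer (hki.trans hj) hjN hx) y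

theorem pres_act (b : A) (i : ℕ) : Pres N P (MulDistribMulAction.toMulEquiv G b) i :=
  fun j _ hjN y => smul_mem_iff_of_invariant (hP.tower.inv j hjN) b y

theorem lev_comm {i : ℕ} (hi : i < N) (s t : P i) : ⁅s, t⁆ ∈ (low N P i).subgroupOf (P i) :=
  hP.commutator_mem_low hi s.2 t.2

theorem lev_pow {i : ℕ} (hi : i < N) (t : P i) : t ^ p i ∈ (low N P i).subgroupOf (P i) :=
  hP.pow_mem_low hi t.2

theorem ne_r {a : A} {r : ℕ} (hA : CyclicOp G a r) {i : ℕ} (hi : i < N) : p i ≠ r := by
  intro h
  apply hA.cop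
  have hne : Nontrivial (P i) := (nontrivial_iff_ne_bot _).2 (hP.ne_bot hi)
  haveI := Fact.mk (hP.tower.prime i hi)
  obtain ⟨n, hn, hc⟩ := (hP.tower.pgroup i hi).nontrivial_iff_card.1 hne
  refine dvd_trans ?_ (card_subgroup_dvd_card (P i))
  rw [hc, ← h]
  exact dvd_pow_self _ (by omega)

theorem conj_ker_fix {i : ℕ} (hi : i + 1 < N) {c : G} (hc : c ∈ ker N P i) (f : levMod N P K i) :
    levOp hi (MulAut.conj c) (hP.pres_conj le_rfl (ker_le (by omega) hc)) f = f := by
  refine Subtype.ext (funext fun y => ?_)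
  have hz : c⁻¹ * (y : G) * c ∈ P (i + 1) :=
    (mem_normalizer_iff''.1 (hP.tower.norm i (i + 1) (by omega) hi (ker_le (by omega) hc)) _).1 y.2
  rw [levOp_apply hi _ _ f (y := y) (z := ⟨_, hz⟩) (by simp [mul_assoc])]
  have hd := hP.ker_le_low hi (disp_mem_ker hi (inv_mem hc) y.2)
  refine addFun.eq_of_mul_inv_mem f ?_
  have e : (⟨_, hz⟩ : P (i + 1)) * y⁻¹ = y * ⟨disp c⁻¹ (y : G), low_le hi hd⟩ * y⁻¹ :=
    Subtype.ext (by simp [disp, mul_assoc])
  rw [e, f.2.1, f.2.1, addFun.map_inv, add_neg_cancel_comm]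
  exact f.2.2 _ hd

variable (K) in
/-- The representation of a level on the module above it. -/
noncomputable def sys {a : A} {r : ℕ} (hA : CyclicOp G a r) (i : ℕ) (hi : i + 1 < N) [CharP K (p (i + 1))] :
    Sys K (P i) (levMod N P K i) where
  ρ :=
    { toFun := fun x => levOp hi (MulAut.conj (x : G)) (hP.pres_conj le_rfl x.2)
      map_one' := levOp_refl hi _ fun y _ => by simp
      map_mul' := fun x y => (levOp_mul hi _ _ _ fun z _ => by simp [mul_assoc]).symm }
  A := (low N P i).subgroupOf (P i)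
  hTA := hP.lev_comm (by omega)
  hA := fun b hb t => LinearMap.ext fun f => by
    show levOp hi (MulAut.conj ((⁅b, t⁆ : P i) : G)) (hP.pres_conj le_rfl (⁅b, t⁆ : P i).2) f = f
    refine hP.conj_ker_fix hi ?_ f
    have := hP.commutator_low_le (i := i) (by omega) (commutator_mem_commutator t.2 hb)
    rw [← commutatorElement_inv] at this
    exact inv_mem_iff.1 this
  σ := restrictAut (P i) (MulDistribMulAction.toMulEquiv G a) (hP.pres_act a i i le_rfl (by omega))
  hσA := fun b hb => (smul_mem_iff_of_invariant (hP.isInvariant_low (by omega)) a _).1 hb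
  S := levOp hi (MulDistribMulAction.toMulEquiv G a) (hP.pres_act a i)
  r := r
  p := p i
  hr := hA.prime
  hp := hP.tower.prime i (by omega)
  hpr := hP.ne_r hA (by omega)
  hσ := by
    refine MulEquiv.ext fun x => Subtype.ext ?_
    have key : ∀ j : ℕ, (((restrictAut (P i) (MulDistribMulAction.toMulEquiv G a)
        (hP.pres_act a i i le_rfl (by omega)) ^ j) x : P i) : G) = a ^ j • (x : G) := by
      intro j
      induction j with
      | zero => simp
      | succ j ih =>
        rw [pow_succ', MulAut.mul_apply, restrictAut_apply, MulDistribMulAction.toMulEquiv_apply, ih, pow_succ',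
          mul_smul]
    rw [key, hA.pow_eq, one_smul]
    rfl
  hS := by
    have key : ∀ j : ℕ, (levOp hi (MulDistribMulAction.toMulEquiv G a) (hP.pres_act a i) :
        Module.End K (levMod N P K i)) ^ j =
          levOp hi (MulDistribMulAction.toMulEquiv G (a ^ j)) (hP.pres_act (a ^ j) i) := by
      intro j
      induction j with
      | zero => rw [pow_zero, eq_comm]; exact levOp_refl hi _ fun y _ => by simp
      | succ j ih =>
        rw [pow_succ', ih]
        exact levOp_mul hi _ _ _ fun y _ => by simp [pow_succ', mul_smul]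
    rw [key]
    exact levOp_refl hi _ fun y _ => by simp [hA.pow_eq]
  compat := fun t => by
    have h1 : Pres N P ((MulAut.conj (t : G)).trans (MulDistribMulAction.toMulEquiv G a)) i :=
      fun j hj hjN x => (hP.pres_conj le_rfl t.2 j hj hjN x).trans (hP.pres_act a i j hj hjN _)
    exact (levOp_mul hi (hP.pres_act a i) (hP.pres_conj le_rfl t.2) h1 fun y _ => rfl).trans
      (levOp_mul hi (hP.pres_conj le_rfl ((restrictAut (P i) (MulDistribMulAction.toMulEquiv G a)
        (hP.pres_act a i i le_rfl (by omega))) t).2) (hP.pres_act a i) h1 fun y _ => by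
        simp [restrictAut_apply, smul_mul']).symm
  hT := hP.tower.pgroup i (by omega)
  hkp := fun h0 => by
    refine hP.tower.adj i hi (((Nat.prime_dvd_prime_iff_eq (hP.tower.prime (i + 1) hi)
      (hP.tower.prime i (by omega))).1 ((CharP.cast_eq_zero_iff K (p (i + 1)) _).1 h0)).symm)
  hkr := fun h0 => by
    refine hP.ne_r hA hi ((Nat.prime_dvd_prime_iff_eq (hP.tower.prime (i + 1) hi) hA.prime).1
      ((CharP.cast_eq_zero_iff K (p (i + 1)) _).1 h0))

end IsGood

end CfsgLib.Turull
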