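import Cfsg.Agent.Turull.Count
import Cfsg.Agent.Turull.Arith

/-!
An implementing operator that is almost scalar on an eigenspace of another one.
-/

set_option autoImplicit false
set_option linter.style.haveILetI false
set_option linter.unusedSectionVars false

namespace CfsgLib.Turull

variable {k : Type*} [Field k] {V : Type*} [CommGroup V] [Finite V]
variable {W : Type*} [AddCommGroup W] [Module k W]

/-- An operator implementing an automorphism. -/
def Impl (M : V → Module.End k W) (θ : MulAut V) (d : V → k) (G : Module.End k W) : Prop :=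
  ∀ v, G * M v = d v • (M (θ v) * G)

/-- No nontrivial power up to `N` has a nontrivial fixed point. -/
def Semireg (θ : MulAut V) (N : ℕ) : Prop :=
  θ ^ N = 1 ∧ ∀ i : ℕ, ¬ N ∣ i → ∀ v, (θ ^ i) v = v → v = 1

/-- The operator is a scalar plus a map into a line on the subspace. -/
def RankOne (g : Module.End k W) (E : Submodule k W) : Prop :=
  ∃ (c : k) (x₀ : W), x₀ ∈ E ∧ ∀ x ∈ E, ∃ t : k, g x = c • x + t • x₀

theorem Semireg.mul {θ η : MulAut V} {N N' : ℕ} (h : Semireg θ N) (h' : Semireg η N') (hc : Commute θ η)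
    (hco : N.Coprime N') : Semireg (θ * η) (N * N') := by
  refine ⟨by rw [hc.mul_pow, pow_mul, h.1, one_pow, one_mul, Nat.mul_comm, pow_mul, h'.1, one_pow],
    fun i hi v hv => ?_⟩
  have hj : ∀ j : ℕ, ((θ * η) ^ (i * j)) v = v := by
    intro j
    induction j with
    | zero => simp
    | succ j ih => rw [Nat.mul_succ, pow_add, MulAut.mul_apply, hv, ih]
  by_cases hN : N ∣ i
  · refine h'.2 (i * N) (fun hd => hi ?_) v ?_
    · exact hco.mul_dvd_of_dvd_of_dvd hN (hco.symm.dvd_of_dvd_mul_right hd)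
    · have := hj N
      rwa [hc.mul_pow, MulAut.mul_apply, Nat.mul_comm i N, pow_mul θ, h.1, one_pow, MulAut.one_apply,
        Nat.mul_comm N i] at this
  · refine h.2 (i * N') (fun hd => hN (hco.dvd_of_dvd_mul_right hd)) v ?_
    have := hj N'
    rwa [hc.mul_pow, MulAut.mul_apply, Nat.mul_comm i N', pow_mul η, h'.1, one_pow, MulAut.one_apply,
      Nat.mul_comm N' i] at this

theorem injective_of_pow_scalar {G : Module.End k W} {N : ℕ} (hN : 0 < N) {c : k} (hc : c ≠ 0)
    (h : G ^ N = c • 1) : Function.Injective G := by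
  intro x y hxy
  have e : ∀ z, (G ^ N) z = c • z := fun z => by rw [h]; rfl
  have h1 := congrArg (G ^ (N - 1)) hxy
  rw [← Module.End.mul_apply, ← Module.End.mul_apply, ← pow_succ, Nat.sub_add_cancel hN, e, e] at h1
  exact smul_right_injective W hc h1

theorem RankOne.exists_functional [FiniteDimensional k W] {g : Module.End k W} {E : Submodule k W}
    (h : RankOne g E) (hg : ∀ x ∈ E, g x ∈ E) :
    ∃ (c : k) (φ : E →ₗ[k] k) (x : E), g.restrict hg = c • 1 + φ.smulRight x := by
  obtain ⟨c, x₀, hx₀, hx⟩ := h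
  by_cases h0 : x₀ = 0
  · refine ⟨c, 0, 0, LinearMap.ext fun x => Subtype.ext ?_⟩
    obtain ⟨t, ht⟩ := hx x x.2
    simp [ht, h0]
  obtain ⟨ψ, hψ⟩ : ∃ ψ : W →ₗ[k] k, ψ x₀ ≠ 0 := by
    by_contra h1
    push Not at h1
    exact h0 ((Module.forall_dual_apply_eq_zero_iff k x₀).1 h1)
  refine ⟨c, (ψ x₀)⁻¹ • (ψ.comp (g - c • 1)).comp E.subtype, ⟨x₀, hx₀⟩,
    LinearMap.ext fun x => Subtype.ext ?_⟩
  obtain ⟨t, ht⟩ := hx x x.2
  simp [ht, hψ, mul_comm t]

section Semiregular

variable [IsAlgClosed k] [FiniteDimensional k W] [Nontrivial W] [Nontrivial V] [Fintype V]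
variable {C : Factor k V} {M : V → Module.End k W} (h : IsRep C M) (hirr : IsIrr M)
  (hV : (Fintype.card V : k) ≠ 0)
  {σ : MulAut V} {r : ℕ} {dσ : V → k} {G : Module.End k W} (hσ : Semireg σ r) (hr : r.Prime) (hrk : (r : k) ≠ 0)
  (hGσ : Impl M σ dσ G) (hG : G ^ r = 1) {ζ : k} (hζ : IsPrimitiveRoot ζ r)

include h hirr hV in
theorem two_le_finrank : 2 ≤ Module.finrank k W := by
  have h1 := h.card_eq hirr hV
  have h2 : 1 < Nat.card V := Finite.one_lt_card
  rw [h1] at h2
  by_contra hlt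
  have : Module.finrank k W ≤ 1 := by omega
  have := Nat.mul_le_mul this this
  omega

include h hirr hV hσ hr hrk hGσ hG hζ in
theorem semireg_bound {θ : MulAut V} {o : ℕ} {dg : V → k} {g : Module.End k W} {cg : k}
    (hθ : Semireg θ o) (ho : 0 < o) (hcσ : Commute σ θ) (hco : r.Coprime o) (hgθ : Impl M θ dg g)
    (hgc : g ^ o = cg • 1) (hcg : cg ≠ 0) (hGg : g * G = G * g)
    (hchar : (o : k) ≠ 0 ∨ ∃ q e : ℕ, q.Prime ∧ CharP k q ∧ o = q ^ e) :
    r * o * ∑ i : Fin r, Module.finrank k (cent (g.restrict (mapsTo_eig hGg (ζ ^ (i : ℕ))))) ≤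
        Module.finrank k W * Module.finrank k W + (r * o - 1) ∧
      ∀ i : Fin r, Module.finrank k (eig G (ζ ^ (i : ℕ))) * Module.finrank k (eig G (ζ ^ (i : ℕ))) ≤
        o * Module.finrank k (cent (g.restrict (mapsTo_eig hGg (ζ ^ (i : ℕ))))) := by
  refine ⟨?_, fun i => sq_le_mul_finrank_cent hcg ho ?_ hchar⟩
  · refine le_trans (Nat.mul_le_mul_left _ ((sum_finrank_cent_le hrk hG hζ hGg).trans ?_))
      (finrank_cent_le h hirr hV (G := G * g) (σ * θ) (fun v => dg v * dσ (θ v)) (fun v => ?_)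
        (Nat.mul_pos hr.pos ho) (hσ.mul hθ hcσ hco).1 (hσ.mul hθ hcσ hco).2 ?_)
    · refine Submodule.finrank_mono fun a ha => ?_
      obtain ⟨ha1, ha2⟩ := ha
      rw [mem_cent] at *
      rw [← mul_assoc, ha1, mul_assoc, ha2, mul_assoc]
    · rw [mul_assoc, hgθ v, mul_smul_comm, ← mul_assoc, hGσ (θ v), smul_mul_assoc, smul_smul, mul_assoc,
        MulAut.mul_apply]
    · exact fun x y hxy => injective_of_pow_scalar ho hcg hgc
        (injective_of_pow_scalar (G := G) hr.pos one_ne_zero (by rw [hG, one_smul]) hxy)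
  · refine LinearMap.ext fun x => Subtype.ext ?_
    rw [Module.End.pow_restrict]
    simp [hgc]

include h hirr hV hσ hr hrk hGσ hG hζ in
theorem semireg_scalar {θ : MulAut V} {o : ℕ} {dg : V → k} {g : Module.End k W} {cg : k}
    (hθ : Semireg θ o) (ho : 2 ≤ o) (hcσ : Commute σ θ) (hco : r.Coprime o) (hgθ : Impl M θ dg g)
    (hgc : g ^ o = cg • 1) (hcg : cg ≠ 0) (hGg : g * G = G * g)
    (hchar : (o : k) ≠ 0 ∨ ∃ q e : ℕ, q.Prime ∧ CharP k q ∧ o = q ^ e) (a : Fin r)
    (hd : 1 ≤ Module.finrank k (eig G (ζ ^ (a : ℕ))))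
    (hs : ∃ c : k, ∀ x ∈ eig G (ζ ^ (a : ℕ)), g x = c • x) :
    o = 2 ∧ Module.finrank k (eig G (ζ ^ (a : ℕ))) = 1 ∧
      (∀ b, b ≠ a → Module.finrank k (eig G (ζ ^ (b : ℕ))) = 2) ∧ Module.finrank k W + 1 = 2 * r := by
  obtain ⟨h1, h2⟩ := semireg_bound h hirr hV hσ hr hrk hGσ hG hζ hθ (by omega) hcσ hco hgθ hgc hcg hGg hchar
  refine scalar_block (sum_finrank_eig hrk hG hζ) h1 hr.two_le ho (two_le_finrank h hirr hV) h2
    (fun b hb => finrank_cent_pos _ hb) (fun b hb => two_le_finrank_cent _ hb) ?_ hd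
  obtain ⟨c, hc⟩ := hs
  refine (finrank_cent_of_scalar (c := c) (LinearMap.ext fun x => Subtype.ext ?_)).ge
  simpa using hc x x.2

include h hirr hV hσ hr hrk hGσ hG hζ in
theorem semireg_rank {θ : MulAut V} {o : ℕ} {dg : V → k} {g : Module.End k W} {cg : k}
    (hθ : Semireg θ o) (ho : 2 ≤ o) (hcσ : Commute σ θ) (hco : r.Coprime o) (hgθ : Impl M θ dg g)
    (hgc : g ^ o = cg • 1) (hcg : cg ≠ 0) (hGg : g * G = G * g)
    (hchar : (o : k) ≠ 0 ∨ ∃ q e : ℕ, q.Prime ∧ CharP k q ∧ o = q ^ e) (a : Fin r)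
    (hd : 2 ≤ Module.finrank k (eig G (ζ ^ (a : ℕ)))) (hrk1 : RankOne g (eig G (ζ ^ (a : ℕ)))) :
    (o = 2 ∧ Module.finrank k (eig G (ζ ^ (a : ℕ))) ≤ 3) ∨
      (o = 3 ∧ Module.finrank k (eig G (ζ ^ (a : ℕ))) = 2 ∧ Module.finrank k W + 1 = 3 * r) := by
  obtain ⟨h1, h2⟩ := semireg_bound h hirr hV hσ hr hrk hGσ hG hζ hθ (by omega) hcσ hco hgθ hgc hcg hGg hchar
  refine rank_block (sum_finrank_eig hrk hG hζ) h1 hr.two_le ho h2
    (fun b hb => finrank_cent_pos _ hb) (fun b hb => two_le_finrank_cent _ hb) ?_ hd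
  obtain ⟨c, φ, x, hx⟩ := hrk1.exists_functional (mapsTo_eig hGg (ζ ^ (a : ℕ)))
  exact finrank_cent_rank_one φ x hx (by omega)

/-- The orbit sum of an operator. -/
noncomputable def orbitSum (G : Module.End k W) (r : ℕ) : Module.End k W := ∑ j ∈ Finset.range r, G ^ j

include h hirr hV hσ hr hrk hGσ hG in
/-- If a fixed vector is not spanned by the orbit sums of its translates then the space is small. -/
theorem finrank_le_of_notMem (hcop : r.Coprime (Nat.card V)) {w : W} (hw : G w = w) (hw0 : w ≠ 0)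
    (hnot : w ∉ Submodule.span k {x | ∃ v, (∀ c : k, M v w ≠ c • w) ∧ x = orbitSum G r (M v w)}) :
    Module.finrank k W + r ≤ 1 + r * Module.finrank k (eig G 1) := by
  classical
  obtain ⟨ψ, hψw, hψ⟩ := Submodule.exists_dual_map_eq_bot_of_notMem hnot inferInstance
  have hψ0 : ∀ v, (∀ c : k, M v w ≠ c • w) → ψ (orbitSum G r (M v w)) = 0 := fun v hv => by
    have hm : orbitSum G r (M v w) ∈
        Submodule.span k {x | ∃ v, (∀ c : k, M v w ≠ c • w) ∧ x = orbitSum G r (M v w)} :=
      Submodule.subset_span ⟨v, hv, rfl⟩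
    have := Submodule.mem_map_of_mem (f := ψ) hm
    rwa [hψ, Submodule.mem_bot] at this
  set ψ' : W →ₗ[k] k := ψ.comp (orbitSum G r) with hψ'
  let L : Subgroup V :=
    { carrier := {v | ∃ c : k, M v w = c • w}
      one_mem' := show ∃ c : k, M 1 w = c • w from ⟨1, by rw [h.one, one_smul]; rfl⟩
      mul_mem' := fun {a b} ha hb => by
        obtain ⟨ca, ha⟩ := ha
        obtain ⟨cb, hb⟩ := hb
        refine ⟨(C.c a b)⁻¹ * (cb * ca), ?_⟩
        have e := h.mul_apply a b w
        rw [hb, map_smul, ha, smul_smul] at e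
        have e2 := congrArg (fun z => (C.c a b)⁻¹ • z) e
        simp only [smul_smul, inv_mul_cancel₀ (C.ne a b), one_smul] at e2
        rw [← e2]
      inv_mem' := fun {a} ha => by
        obtain ⟨ca, ha⟩ := ha
        have hca : ca ≠ 0 := fun h0 => h.apply_ne_zero a hw0 (by rw [ha, h0, zero_smul])
        refine ⟨ca⁻¹ * C.c a⁻¹ a, ?_⟩
        have e := h.mul_apply a⁻¹ a w
        rw [inv_mul_cancel, h.one, Module.End.one_apply, ha, map_smul] at e
        have e2 := congrArg (fun z => ca⁻¹ • z) e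
        simp only [smul_smul, inv_mul_cancel₀ hca, one_smul] at e2
        exact e2 }
  have hpow : ∀ (j : ℕ) (v : V), ∃ c : k, c ≠ 0 ∧ (G ^ j) (M v w) = c • M ((σ ^ j) v) w := by
    intro j v
    induction j with
    | zero => exact ⟨1, one_ne_zero, by simp⟩
    | succ j ih =>
      obtain ⟨c, hc, ih⟩ := ih
      have e : G (M ((σ ^ j) v) w) = dσ ((σ ^ j) v) • M (σ ((σ ^ j) v)) (G w) :=
        LinearMap.congr_fun (hGσ ((σ ^ j) v)) w
      rw [hw] at e
      refine ⟨c * dσ ((σ ^ j) v), mul_ne_zero hc fun hd => ?_, ?_⟩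
      · rw [hd, zero_smul] at e
        exact h.apply_ne_zero _ hw0
          ((injective_of_pow_scalar hr.pos one_ne_zero (by rw [hG, one_smul])) (e.trans (map_zero G).symm))
      · rw [pow_succ', Module.End.mul_apply, ih, map_smul, e, smul_smul, pow_succ', MulAut.mul_apply]
  have hLσ : ∀ v ∈ L, ∀ j : ℕ, (σ ^ j) v ∈ L := by
    rintro v ⟨c, hc⟩ j
    obtain ⟨d, hd, e⟩ := hpow j v
    refine ⟨d⁻¹ * c, ?_⟩
    have hwj : (G ^ j) w = w := by
      clear e
      induction j with
      | zero => rfl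
      | succ j ih => rw [pow_succ', Module.End.mul_apply, ih, hw]
    rw [hc, map_smul, hwj] at e
    rw [mul_smul, e, smul_smul, inv_mul_cancel₀ hd, one_smul]
  have hψ'0 : ∀ v, v ∉ L → ψ' (M v w) = 0 := fun v hv => hψ0 v fun c hc => hv ⟨c, hc⟩
  have hψ'w : ψ' w ≠ 0 := by
    have hfix : ∀ j : ℕ, (G ^ j) w = w := fun j => by
      induction j with
      | zero => rfl
      | succ j ih => rw [pow_succ', Module.End.mul_apply, ih, hw]
    rw [hψ', LinearMap.comp_apply, orbitSum, LinearMap.sum_apply, Finset.sum_congr rfl fun j _ => hfix j,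
      Finset.sum_const, Finset.card_range, ← Nat.cast_smul_eq_nsmul k, map_smul, smul_eq_mul]
    exact mul_ne_zero hrk hψw
  -- representatives of the orbits outside `L`
  let good : Finset V → Prop := fun R => (∀ v ∈ R, v ∉ L) ∧
    ∀ v ∈ R, ∀ v' ∈ R, ∀ j : ℕ, v⁻¹ * (σ ^ j) v' ∈ L → v = v'
  obtain ⟨R, hR, hmax⟩ := (Finset.univ.filter good).exists_max_image Finset.card
    ⟨∅, Finset.mem_filter.2 ⟨Finset.mem_univ _, by simp [good]⟩⟩
  obtain ⟨hRL, hRdist⟩ := (Finset.mem_filter.1 hR).2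
  have hcover : ∀ u, u ∉ L → ∃ v ∈ R, ∃ j : ℕ, u⁻¹ * (σ ^ j) v ∈ L := by
    intro u hu
    by_contra hcon
    push Not at hcon
    have huR : u ∉ R := fun hu' => hcon u hu' 0 (by simp)
    have hg : good (insert u R) := by
      refine ⟨fun v hv => ?_, fun v hv v' hv' j hj => ?_⟩
      · rcases Finset.mem_insert.1 hv with rfl | hv
        · exact hu
        · exact hRL v hv
      · rcases Finset.mem_insert.1 hv with h1 | h1 <;> rcases Finset.mem_insert.1 hv' with h2 | h2
        · rw [h1, h2]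
        · rw [h1] at hj; exact absurd hj (hcon v' h2 j)
        · rw [h2] at hj
          refine absurd ?_ (hcon v h1 (r * j - j))
          have := inv_mem (hLσ _ hj (r * j - j))
          rwa [map_mul, ← MulAut.mul_apply, ← pow_add, map_inv, mul_inv_rev, inv_inv,
            show r * j - j + j = r * j by have := Nat.le_mul_of_pos_left j hr.pos; omega, pow_mul, hσ.1,
            one_pow, MulAut.one_apply] at this
        · exact hRdist v h1 v' h2 j hj
    have := hmax _ (Finset.mem_filter.2 ⟨Finset.mem_univ _, hg⟩)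
    rw [Finset.card_insert_of_notMem huR] at this
    omega
  have hfree : ∀ v ∈ R, ∀ j : ℕ, j < r → v⁻¹ * (σ ^ j) v ∈ L → j = 0 := by
    intro v hv j hj hmem
    by_contra hj0
    apply hRL v hv
    -- the product over the orbit of `σ ^ j` is fixed, hence trivial
    have hstep : ∀ m : ℕ, v⁻¹ * (σ ^ (j * m)) v ∈ L := by
      intro m
      induction m with
      | zero => simp
      | succ m ih =>
        have h2 := L.mul_mem hmem (hLσ _ ih j)
        rwa [map_mul, map_inv, ← MulAut.mul_apply, ← pow_add, mul_assoc, mul_inv_cancel_left, ← Nat.add_comm,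
          ← Nat.mul_succ] at h2
    set P := ∏ m ∈ Finset.range r, (σ ^ (j * m)) v with hP
    have hPfix : (σ ^ j) P = P := by
      rw [hP, map_prod]
      have a1 := Finset.prod_range_succ (fun m => (σ ^ (j * m)) v) r
      rw [Finset.prod_range_succ' (fun m => (σ ^ (j * m)) v) r] at a1
      have e0 : (σ ^ (j * r)) v = (σ ^ (j * 0)) v := by rw [Nat.mul_comm j r, pow_mul, hσ.1, one_pow, Nat.mul_zero, pow_zero]
      rw [e0] at a1
      refine (Finset.prod_congr rfl fun m _ => ?_).trans (mul_right_cancel a1)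
      rw [← MulAut.mul_apply, ← pow_add, Nat.mul_succ, Nat.add_comm]
    have hP1 : P = 1 := hσ.2 j (fun hd => hj0 (Nat.eq_zero_of_dvd_of_lt hd hj)) P hPfix
    have h3 : ∏ m ∈ Finset.range r, (v⁻¹ * (σ ^ (j * m)) v) ∈ L := L.prod_mem fun m _ => hstep m
    rw [Finset.prod_mul_distrib, ← hP, hP1, mul_one, Finset.prod_const, Finset.card_range, inv_pow,
      inv_mem_iff] at h3
    obtain ⟨m, hm⟩ := exists_pow_eq_self_of_coprime (x := v) (n := r)
      (hcop.coprime_dvd_right (orderOf_dvd_natCard v))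
    exact hm ▸ pow_mem h3 m
  -- the orbit sums are independent
  let f : Option R → eig G (1 : k) := fun x => match x with
    | none => ⟨w, by rw [mem_eig, hw, one_smul]⟩
    | some v => ⟨orbitSum G r (M v.1 w), by
        rw [mem_eig, one_smul, orbitSum, ← Module.End.mul_apply, Finset.mul_sum]
        have a1 := Finset.sum_range_succ (fun i => G ^ i) r
        rw [Finset.sum_range_succ' (fun i => G ^ i) r, pow_zero, hG] at a1
        simp only [← pow_succ']
        rw [add_right_cancel a1]⟩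
  have hcc : ∀ (v₀ u : V), ψ' (M v₀⁻¹ (M u w)) = C.c v₀⁻¹ u * ψ' (M (v₀⁻¹ * u) w) := fun v₀ u => by
    rw [h.mul_apply, map_smul, smul_eq_mul]
  have hterm : ∀ (v₀ u : V), v₀⁻¹ * u ∉ L → ψ' (M v₀⁻¹ (M u w)) = 0 := fun v₀ u hu => by
    rw [hcc, hψ'0 _ hu, mul_zero]
  have hev : ∀ (v₀ v : V), ψ' (M v₀⁻¹ (orbitSum G r (M v w))) =
      ∑ j ∈ Finset.range r, ψ' (M v₀⁻¹ ((G ^ j) (M v w))) := fun v₀ v => by
    rw [orbitSum, LinearMap.sum_apply, map_sum, map_sum]
  have hzero : ∀ (v₀ v : V) (j : ℕ), v₀⁻¹ * (σ ^ j) v ∉ L → ψ' (M v₀⁻¹ ((G ^ j) (M v w))) = 0 := by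
    intro v₀ v j hj
    obtain ⟨c, -, e⟩ := hpow j v
    rw [e, map_smul, map_smul, hterm _ _ hj, smul_zero]
  have hli : LinearIndependent k f := by
    rw [Fintype.linearIndependent_iff]
    intro t ht x
    have hsum : ∑ x, t x • (f x : W) = 0 := by
      have := congrArg Subtype.val ht
      simpa only [AddSubmonoidClass.coe_finsetSum, SetLike.val_smul, ZeroMemClass.coe_zero] using this
    -- test against the vector of each orbit
    have hsome : ∀ v : R, t (some v) = 0 := by
      intro v₀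
      have e := congrArg (fun y => ψ' (M v₀.1⁻¹ y)) hsum
      simp only [map_sum, map_smul, map_zero, smul_eq_mul] at e
      rw [Fintype.sum_option, Finset.sum_eq_single v₀ (fun v _ hne => ?_)
        (fun hh => absurd (Finset.mem_univ _) hh)] at e
      · have hn : ψ' (M v₀.1⁻¹ w) = 0 :=
          hψ'0 _ fun hmem => hRL _ v₀.2 (inv_mem_iff.1 hmem)
        have hs : ψ' (M v₀.1⁻¹ (orbitSum G r (M v₀.1 w))) ≠ 0 := by
          rw [hev, Finset.sum_eq_single_of_mem 0 (Finset.mem_range.2 hr.pos) fun j hj hj0 =>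
            hzero _ _ j fun hmem => hj0 (hfree _ v₀.2 j (Finset.mem_range.1 hj) hmem)]
          rw [pow_zero, Module.End.one_apply, hcc, inv_mul_cancel, h.one, Module.End.one_apply]
          exact mul_ne_zero (C.ne _ _) hψ'w
        simp only [f, hn, mul_zero, zero_add] at e
        exact (mul_eq_zero.1 e).resolve_right hs
      · simp only [f]
        rw [hev, Finset.sum_eq_zero fun j _ => hzero _ _ j fun hmem =>
          hne (Subtype.ext (hRdist _ v₀.2 _ v.2 j hmem)).symm, mul_zero]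
    cases x with
    | some v => exact hsome v
    | none =>
      rw [Fintype.sum_option] at hsum
      simp only [f, hsome, zero_smul, Finset.sum_const_zero, add_zero] at hsum
      exact (smul_eq_zero.1 hsum).resolve_right hw0
  have hd := hli.fintype_card_le_finrank
  rw [Fintype.card_option, Fintype.card_coe] at hd
  -- the orbits span everything
  let g : Option (R × Fin r) → W := fun x => match x with
    | none => w
    | some vj => (G ^ (vj.2 : ℕ)) (M vj.1.1 w)
  have hspan : Submodule.span k (Set.range g) = ⊤ := by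
    rw [eq_top_iff, ← h.span_orbit hirr hw0, Submodule.span_le]
    rintro _ ⟨u, rfl⟩
    have hkey : ∀ (x : V) (l : V), l ∈ L → ∃ c : k, M (x * l) w = c • M x w := fun x l hl => by
      obtain ⟨c, hc⟩ := hl
      refine ⟨(C.c x l)⁻¹ * c, ?_⟩
      have e := h.mul_apply x l w
      rw [hc, map_smul] at e
      rw [mul_smul, e, smul_smul, inv_mul_cancel₀ (C.ne _ _), one_smul]
    by_cases hu : u ∈ L
    · obtain ⟨c, hc⟩ := hu
      simp only [hc, SetLike.mem_coe]
      exact Submodule.smul_mem _ c (Submodule.subset_span ⟨none, rfl⟩)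
    · obtain ⟨v, hv, j, hj⟩ := hcover u hu
      obtain ⟨c, hc⟩ := hkey ((σ ^ j) v) (u⁻¹ * (σ ^ j) v)⁻¹ (inv_mem hj)
      rw [mul_inv_rev, inv_inv, mul_inv_cancel_left] at hc
      obtain ⟨c', hc', e⟩ := hpow (j % r) v
      have hmod : σ ^ (j % r) = σ ^ j := (pow_eq_pow_mod j hσ.1).symm
      rw [hmod] at e
      simp only [SetLike.mem_coe, hc]
      refine Submodule.smul_mem _ c ?_
      rw [← inv_smul_smul₀ hc' (M ((σ ^ j) v) w), ← e]
      exact Submodule.smul_mem _ _ (Submodule.subset_span ⟨some (⟨v, hv⟩, ⟨j % r, Nat.mod_lt _ hr.pos⟩), rfl⟩)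
  have hn := (finrank_range_le_card (R := k) g)
  rw [Set.finrank, hspan, finrank_top, Fintype.card_option, Fintype.card_prod, Fintype.card_coe,
    Fintype.card_fin] at hn
  have h5 : r * (R.card + 1) ≤ r * Module.finrank k (eig G (1 : k)) := Nat.mul_le_mul_left r hd
  rw [Nat.mul_add, Nat.mul_one, Nat.mul_comm] at h5
  omega

end Semiregular

end CfsgLib.Turull
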