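import Cfsg.Agent.Turull.Transfer

/-!
An operator implementing a fixed-point-free automorphism that is almost scalar on an eigenspace.
-/

set_option autoImplicit false
set_option linter.style.haveILetI false
set_option linter.unusedSectionVars false

namespace CfsgLib.Turull

variable {k : Type*} [Field k] {V : Type*} [CommGroup V] [Finite V]
variable {W : Type*} [AddCommGroup W] [Module k W]

/-- An automorphism with a power fixing a point and exponent prime to it fixes the point. -/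
theorem apply_eq_of_pow_apply_eq {θ : MulAut V} {o i : ℕ} (ho : o.Prime) (hθ : θ ^ o = 1) (hi : ¬ o ∣ i)
    {v : V} (hv : (θ ^ i) v = v) : θ v = v := by
  obtain ⟨m, -, hm⟩ := Nat.exists_mul_mod_eq_one_of_coprime
    (Nat.Coprime.symm ((ho.coprime_iff_not_dvd).2 hi)) ho.one_lt
  have hpow : ∀ j : ℕ, ((θ ^ i) ^ j) v = v := fun j => by
    induction j with
    | zero => rfl
    | succ j ih => rw [pow_succ, MulAut.mul_apply, hv, ih]
  have h1 := hpow m
  rwa [← pow_mul, pow_eq_pow_mod _ hθ, hm, pow_one] at h1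

theorem Semireg.of_prime {θ : MulAut V} {o : ℕ} (ho : o.Prime) (hθ : θ ^ o = 1)
    (hfix : ∀ v, θ v = v → v = 1) : Semireg θ o :=
  ⟨hθ, fun _ hi v hv => hfix v (apply_eq_of_pow_apply_eq ho hθ hi hv)⟩

theorem Semireg.eq_one_of_apply_eq {θ : MulAut V} {o : ℕ} (h : Semireg θ o) (ho : 2 ≤ o) {v : V}
    (hv : θ v = v) : v = 1 :=
  h.2 1 (fun hd => by have := Nat.le_of_dvd Nat.one_pos hd; omega) v (by rwa [pow_one])

/-- The divisor of the number of non-trivial points. -/
theorem Semireg.dvd_card_sub_one {θ : MulAut V} {o : ℕ} (h : Semireg θ o) (ho : o.Prime) :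
    o ∣ Nat.card V - 1 := by
  haveI := Fact.mk ho
  have hord : IsPGroup o (Subgroup.zpowers θ) := fun x => ⟨1, by
    obtain ⟨j, hj⟩ := Subgroup.mem_zpowers_iff.1 x.2
    refine Subtype.ext ?_
    rw [pow_one, Subgroup.coe_pow, ← hj, ← zpow_natCast, ← zpow_mul, mul_comm, zpow_mul, zpow_natCast, h.1,
      one_zpow]
    rfl⟩
  have hm := hord.card_modEq_card_fixedPoints V
  have h1 : Nat.card (MulAction.fixedPoints (Subgroup.zpowers θ) V) = 1 := by
    rw [Nat.card_eq_one_iff_unique]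
    refine ⟨⟨fun x y => Subtype.ext ?_⟩, ⟨⟨1, fun g => map_one (g : MulAut V)⟩⟩⟩
    have e : ∀ z : MulAction.fixedPoints (Subgroup.zpowers θ) V, (z : V) = 1 := fun z =>
      h.eq_one_of_apply_eq ho.two_le (z.2 ⟨θ, Subgroup.mem_zpowers _⟩)
    rw [e x, e y]
  rw [h1] at hm
  exact (Nat.modEq_iff_dvd' Nat.card_pos).1 hm.symm

theorem Semireg.apply_eq_inv {θ : MulAut V} (h : Semireg θ 2) (v : V) : θ v = v⁻¹ := by
  have h2 : θ (θ v) = v := by
    rw [← MulAut.mul_apply, ← pow_two, h.1]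
    rfl
  exact eq_inv_of_mul_eq_one_left (h.eq_one_of_apply_eq le_rfl (by rw [map_mul, h2, mul_comm]))

/-- The operator is a scalar, or close to one, on the subspace. -/
def Almost (r : ℕ) (g : Module.End k W) (E : Submodule k W) : Prop :=
  (∃ c : k, ∀ x ∈ E, g x = c • x) ∨
    (2 ≤ Module.finrank k E ∧ RankOne g E ∧ Module.finrank k W + r ≤ 1 + r * Module.finrank k E)

theorem hchar_of_prime {o : ℕ} (ho : o.Prime) (e : ℕ) :
    ((o ^ e : ℕ) : k) ≠ 0 ∨ ∃ q e' : ℕ, q.Prime ∧ CharP k q ∧ o ^ e = q ^ e' := by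
  by_cases h : (o : k) = 0
  · exact Or.inr ⟨o, e, ho, (CharP.charP_iff_prime_eq_zero ho).2 h, rfl⟩
  · exact Or.inl (by rw [Nat.cast_pow]; exact pow_ne_zero _ h)

section Semiregular

variable [IsAlgClosed k] [FiniteDimensional k W] [Nontrivial W] [Fintype V]
variable {C : Factor k V} {M : V → Module.End k W} (h : IsRep C M) (hirr : IsIrr M)

include h hirr in
/-- A power implementing the identity of an implementer of a fixed-point-free automorphism is a scalar. -/
theorem pow_scalar {θ : MulAut V} {o : ℕ} (hθ : θ ^ o = 1) (hfix : ∀ v, θ v = v → v = 1) {d : V → k}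
    {f : Module.End k W} (hf : Impl M θ d f) (hfi : Function.Injective f) :
    ∃ c : k, c ≠ 0 ∧ f ^ o = c • 1 := by
  obtain ⟨x, hx⟩ := exists_ne (0 : W)
  have hfo : Function.Injective ⇑(f ^ o) := by rw [Module.End.coe_pow]; exact hfi.iterate o
  have hfx : ∀ z : W, z ≠ 0 → (f ^ o) z ≠ 0 := fun z hz h0 => hz (hfo (h0.trans (map_zero (f ^ o)).symm))
  set s := iterScalar θ d o with hs
  have hI : Impl M 1 s (f ^ o) := fun v => by
    rw [hf.pow o v, hθ]
  have hmul : ∀ v w, s v * s w = s (v * w) := fun v w => by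
    have := hI.cocycle h hfo v w
    rw [MulAut.one_apply, MulAut.one_apply, mul_comm (C.c v w)] at this
    exact mul_right_cancel₀ (C.ne v w) this
  have hinv : ∀ v, s (θ v) = s v := fun v => by
    have e1 : (f ^ o) (f (M v x)) = (d v * s (θ v)) • M (θ v) ((f ^ o) (f x)) := by
      rw [hf.apply, map_smul, hI.apply, smul_smul, MulAut.one_apply]
    have e2 : f ((f ^ o) (M v x)) = (s v * d v) • M (θ v) (f ((f ^ o) x)) := by
      rw [hI.apply, map_smul, hf.apply, smul_smul, MulAut.one_apply]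
    have hc : ∀ z, (f ^ o) (f z) = f ((f ^ o) z) := fun z => by
      rw [← Module.End.mul_apply, ← pow_succ, pow_succ']; rfl
    rw [hc, hc, e2] at e1
    have := smul_left_injective k
      (h.apply_ne_zero (θ v) fun h0 => hfx x hx (hfi (h0.trans (map_zero f).symm))) e1
    rw [mul_comm] at this
    exact (mul_left_cancel₀ (hf.d_ne_zero h hfi v) this).symm
  have hone : ∀ v, s v = 1 := fun v => by
    have hbij : Function.Surjective fun w : V => w⁻¹ * θ w := by
      refine Finite.surjective_of_injective fun a b hab => ?_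
      have hab' : a⁻¹ * θ a = b⁻¹ * θ b := hab
      refine div_eq_one.1 (hfix _ ?_)
      rw [map_div, div_eq_div_iff_mul_eq_mul]
      have := congrArg (fun z => a * b * z) hab'
      rw [show a * b * (a⁻¹ * θ a) = b * θ a by rw [mul_comm a b, mul_assoc, mul_inv_cancel_left],
        show a * b * (b⁻¹ * θ b) = a * θ b by rw [mul_assoc, mul_inv_cancel_left]] at this
      rw [mul_comm]; exact this
    obtain ⟨w, hw⟩ := hbij v
    have hne : s w ≠ 0 := hI.d_ne_zero h hfo w
    have h1 := hmul w (w⁻¹ * θ w)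
    rw [mul_inv_cancel_left, hinv] at h1
    rw [← hw]
    exact (mul_eq_left₀ hne).1 h1
  obtain ⟨c, hc⟩ := h.eq_scalar hirr (f ^ o) fun v z => by
    rw [hI.apply, hone, one_smul, MulAut.one_apply]
  refine ⟨c, fun h0 => hfx x hx ?_, hc⟩
  rw [hc, h0, zero_smul, LinearMap.zero_apply]

variable [Nontrivial V] (hV : (Fintype.card V : k) ≠ 0)
  {σ : MulAut V} {r : ℕ} {dσ : V → k} {G : Module.End k W} (hσ : Semireg σ r) (hr : r.Prime) (hrk : (r : k) ≠ 0)
  (hGσ : Impl M σ dσ G) (hG : G ^ r = 1) {ζ : k} (hζ : IsPrimitiveRoot ζ r)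

include h hirr hV hσ hr hrk hGσ hG hζ in
/-- A fixed-point-free operator almost scalar on an eigenspace has order two. -/
theorem semireg_two {θ : MulAut V} {o : ℕ} {e : V → k} {g : Module.End k W} {N : ℕ} (hθ : Semireg θ o)
    (ho : 2 ≤ o) (hcσ : Commute σ θ) (hco : r.Coprime o) (hgθ : Impl M θ e g) (hN : 0 < N) (hgN : g ^ N = 1)
    (hGg : g * G = G * g) (hchar : (o : k) ≠ 0 ∨ ∃ q e : ℕ, q.Prime ∧ CharP k q ∧ o = q ^ e) (a : Fin r)
    (hd : 1 ≤ Module.finrank k (eig G (ζ ^ (a : ℕ)))) (hal : Almost r g (eig G (ζ ^ (a : ℕ)))) : o = 2 := by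
  obtain ⟨c, hc, hgo⟩ := pow_scalar h hirr hθ.1 (fun v hv => hθ.eq_one_of_apply_eq ho hv) hgθ
    (injective_of_pow_scalar hN one_ne_zero (hgN.trans (one_smul k _).symm))
  rcases hal with hs | ⟨h2, hr1, hb⟩
  · exact (semireg_scalar h hirr hV hσ hr hrk hGσ hG hζ hθ ho hcσ hco hgθ hgo hc hGg hchar a hd hs).1
  · rcases semireg_rank h hirr hV hσ hr hrk hGσ hG hζ hθ ho hcσ hco hgθ hgo hc hGg hchar a h2 hr1 with
      ⟨h1, -⟩ | ⟨-, h3, h4⟩
    · exact h1
    · exfalso
      rw [h3] at hb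
      have := hr.two_le
      omega

end Semiregular

end CfsgLib.Turull
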