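import Cfsg.Agent.Turull.Decomp

/-!
An operator of prime order that is almost scalar on an eigenspace implements the inversion.
-/

set_option autoImplicit false
set_option linter.style.haveILetI false
set_option linter.unusedSectionVars false

namespace CfsgLib.Turull

theorem iterScalar_of_fixed {k : Type*} [Field k] {V : Type*} [CommGroup V] {θ : MulAut V} {e : V → k} {a : V}
    (ha : θ a = a) (n : ℕ) : iterScalar θ e n a = e a ^ n := by
  have hp : ∀ j : ℕ, (θ ^ j) a = a := fun j => by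
    induction j with
    | zero => rfl
    | succ j ih => rw [pow_succ', MulAut.mul_apply, ih, ha]
  induction n with
  | zero => simp [iterScalar]
  | succ n ih => rw [iterScalar, ih, hp, pow_succ]

theorem odd_of_sq_eq {p : ℕ} (hp : p.Prime) (hp2 : p ≠ 2) {m i : ℕ} (h : m * m = p ^ i) : m % 2 = 1 := by
  have h1 : Odd (m * m) := h ▸ ((hp.odd_of_ne_two hp2).pow)
  exact Nat.odd_iff.1 (Nat.odd_mul.1 h1).1

theorem pin_arith {r o m nB d p i j : ℕ} (hr : r.Prime) (hp : p.Prime) (ho : 2 ≤ o) (hop : o ≠ p)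
    (hm : r + 1 ≤ m * m) (hmi : m * m = p ^ i) (hnj : nB * nB = p ^ j) (hdvd : r ∣ m * m - 1)
    (hnB : r * o + 1 ≤ nB * nB) (hd : d ≤ 3) (hd3 : d = 3 → o = 2) (hn : m * nB + r ≤ 1 + r * d) : False := by
  have := hr.two_le
  rcases Nat.lt_or_ge d 3 with h | h
  · have h1 : m * nB ≤ r + 1 := by
      have : r * d ≤ r * 2 := Nat.mul_le_mul_left r (by omega)
      omega
    have h2 : r * 2 + 1 ≤ nB * nB := le_trans (by nlinarith) hnB
    have h3 : (m * m) * (nB * nB) ≤ (r + 1) * (r + 1) := by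
      have := Nat.mul_le_mul h1 h1
      linarith [show m * m * (nB * nB) = m * nB * (m * nB) by ring]
    nlinarith [Nat.mul_le_mul hm h2]
  · obtain rfl : d = 3 := by omega
    have hp2 : p ≠ 2 := by
      rintro rfl
      exact hop (hd3 rfl)
    have hmo := odd_of_sq_eq hp hp2 hmi
    have hno := odd_of_sq_eq hp hp2 hnj
    have hm3 : 3 ≤ m := by
      by_contra hlt
      interval_cases m <;> simp_all <;> omega
    have hn3 : 3 ≤ nB := by
      by_contra hlt
      have : 2 * 2 ≤ r * o := Nat.mul_le_mul hr.two_le ho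
      interval_cases nB <;> omega
    have hrm : r ≤ m + 1 := by
      have e : m * m - 1 = (m + 1) * (m - 1) := by
        have := Nat.sq_sub_sq m 1
        simpa [pow_two] using this
      rw [e] at hdvd
      rcases hr.dvd_mul.1 hdvd with h' | h'
      · exact Nat.le_of_dvd (by omega) h'
      · have := Nat.le_of_dvd (by omega) h'
        omega
    have h9 : 3 * 3 ≤ m * nB := Nat.mul_le_mul hm3 hn3
    have h10 : m * 3 ≤ m * nB := Nat.mul_le_mul_left m hn3
    have h11 : r ≤ 4 := by omega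
    interval_cases r <;> first | omega | exact absurd hr (by decide)

variable {k : Type*} [Field k] [IsAlgClosed k] {V : Type*} [CommGroup V] [Finite V] [Fintype V]
variable {W : Type*} [AddCommGroup W] [Module k W] [FiniteDimensional k W] [Nontrivial W] [Nontrivial V]
variable {C : Factor k V} {M : V → Module.End k W} (h : IsRep C M) (hirr : IsIrr M)
  (hV : (Fintype.card V : k) ≠ 0)
  {σ : MulAut V} {r : ℕ} {dσ : V → k} {G : Module.End k W} (hσ : Semireg σ r) (hr : r.Prime) (hrk : (r : k) ≠ 0)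
  (hGσ : Impl M σ dσ G) (hG : G ^ r = 1) {ζ : k} (hζ : IsPrimitiveRoot ζ r)

include h hirr hV hσ hr hrk hGσ hG hζ in
/-- **Pinning.** An implementer of prime order almost scalar on an eigenspace implements the inversion. -/
theorem pin {p : ℕ} (hp : p.Prime) (hpr : p ≠ r) (hVp : IsPGroup p V) {θ : MulAut V} {o : ℕ} (ho : o.Prime)
    (hop : o ≠ p) (hor : o ≠ r) (hθ : θ ^ o = 1) (hθ1 : θ ≠ 1) (hcσ : Commute σ θ) {e : V → k}
    {g : Module.End k W} {N : ℕ} (hgθ : Impl M θ e g) (hN : 0 < N) (hgN : g ^ N = 1) (hθN : θ ^ N = 1)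
    (hrN : r.Coprime N) (hNp : N.Coprime p) (hGg : g * G = G * g) (a : Fin r)
    (hd : 1 ≤ Module.finrank k (eig G (ζ ^ (a : ℕ)))) (hal : Almost r g (eig G (ζ ^ (a : ℕ)))) :
    o = 2 ∧ ∀ v, θ v = v⁻¹ := by
  classical
  have hgi := injective_of_pow_scalar hN one_ne_zero (hgN.trans (one_smul k _).symm)
  have hGi := injective_of_pow_scalar hr.pos one_ne_zero (hG.trans (one_smul k _).symm)
  have hco : r.Coprime o := (Nat.coprime_primes hr ho).2 (Ne.symm hor)
  have hopc : o.Coprime p := (Nat.coprime_primes ho hp).2 hop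
  by_cases hfix : ∀ v, θ v = v → v = 1
  · have hs := Semireg.of_prime ho hθ hfix
    have h2 : o = 2 := semireg_two h hirr hV hσ hr hrk hGσ hG hζ hs ho.two_le hcσ hco hgθ hN hgN hGg
      (by simpa using hchar_of_prime (k := k) ho 1) a hd hal
    subst h2
    exact ⟨rfl, hs.apply_eq_inv⟩
  exfalso
  push Not at hfix
  obtain ⟨a₀, ha₀, ha₀1⟩ := hfix
  -- the two factors
  set A := fixG θ with hA
  set B := moveG θ with hB
  have hdec : ∀ v, ∃ a ∈ A, ∃ b ∈ B, a * b = v := exists_fix_mul_move hθ hVp hopc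
  have hdisj : ∀ v, v ∈ A → v ∈ B → v = 1 := fun v => eq_one_of_mem_fixG_moveG hθ hVp hopc
  have horth : ∀ a ∈ A, ∀ b ∈ B, C.b a b = 1 := fun a ha b hb => b_fix_move h hgθ hgi ha hb
  obtain ⟨hAnd, hBnd⟩ := nondeg_on h hdec horth
  have hσAm : ∀ x ∈ A, σ x ∈ A := fun x hx => apply_mem_fixG hcσ hx
  have hσBm : ∀ x ∈ B, σ x ∈ B := fun x hx => apply_mem_moveG hcσ hx
  have hθBm : ∀ x ∈ B, θ x ∈ B := fun x hx => apply_mem_moveG (Commute.refl θ) hx
  haveI : Nontrivial B := by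
    obtain ⟨v, hv⟩ : ∃ v, θ v ≠ v := by
      by_contra hcon
      push Not at hcon
      exact hθ1 (MulEquiv.ext hcon)
    exact ⟨⟨⟨θ v / v, mem_moveG.2 ⟨v, rfl⟩⟩, 1, fun h1 => hv (div_eq_one.1 (congrArg Subtype.val h1))⟩⟩
  haveI : Nontrivial A := ⟨⟨⟨a₀, ha₀⟩, 1, fun h1 => ha₀1 (congrArg Subtype.val h1)⟩⟩
  have hσA : ∃ a ∈ A, σ a ≠ a :=
    ⟨a₀, ha₀, fun h1 => ha₀1 (hσ.eq_one_of_apply_eq hr.two_le h1)⟩
  have hemul : ∀ x ∈ A, ∀ y ∈ A, e x * e y = e (x * y) := fun x hx y hy => by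
    have h1 := hgθ.cocycle h hgi x y
    rw [mem_fixG.1 hx, mem_fixG.1 hy, mul_comm (C.c x y)] at h1
    exact mul_right_cancel₀ (C.ne x y) h1
  have he : ∀ x ∈ A, e x = 1 := by
    intro x hx
    have h1 : e 1 = 1 := by
      have := hemul 1 A.one_mem 1 A.one_mem
      rw [one_mul] at this
      exact (mul_eq_left₀ (hgθ.d_ne_zero h hgi 1)).1 this
    have hpow : ∀ j : ℕ, e (x ^ j) = e x ^ j := fun j => by
      induction j with
      | zero => rw [pow_zero, pow_zero, h1]
      | succ j ih => rw [pow_succ, pow_succ, ← hemul _ (pow_mem hx j) _ hx, ih]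
    obtain ⟨i, hi⟩ := hVp x
    have h2 : e x ^ p ^ i = 1 := by rw [← hpow, hi, h1]
    have h3 : e x ^ N = 1 := by
      rw [← iterScalar_of_fixed (mem_fixG.1 hx)]
      exact hgθ.iterScalar_eq_one h hθN one_ne_zero (hgN.trans (one_smul k _).symm) x
    have h4 := pow_gcd_eq_one.2 ⟨h3, h2⟩
    rwa [(hNp.pow_right i).gcd_eq_one, pow_one] at h4
  -- an irreducible representation of the complement, with its implementers
  letI : Fintype B := Fintype.ofFinite B
  have hVB : (Fintype.card B : k) ≠ 0 := by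
    obtain ⟨c, hc⟩ := Subgroup.card_subgroup_dvd_card B
    intro h0
    apply hV
    rw [← Nat.card_eq_fintype_card, hc, Nat.card_eq_fintype_card, Nat.cast_mul, h0, zero_mul]
  have hMB := h.on B hBnd
  obtain ⟨U, hUinv, hUnt, hU, hUirr⟩ := exists_irr hMB
  haveI := hUnt
  set MU : B → Module.End k U := fun b => (M b).restrict (hUinv b) with hMU
  set σB := autOn B σ hσBm with hσB
  set θB := autOn B θ hθBm with hθB
  have hGB : Impl (fun b : B => M b) σB (fun b => dσ b) G := fun b => hGσ b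
  have hgB : Impl (fun b : B => M b) θB (fun b => e b) g := fun b => hgθ b
  have hσBs : Semireg σB r := hσ.autOn B hσBm
  have hθBs : Semireg θB o := Semireg.of_prime ho
    (MulEquiv.ext fun x => Subtype.ext (by rw [hθB, autOn_pow_apply, hθ]; rfl))
    fun v hv => Subtype.ext (hdisj _ (mem_fixG.2 (congrArg Subtype.val hv)) v.2)
  have hθBN : θB ^ N = 1 := MulEquiv.ext fun x => Subtype.ext (by rw [hθB, autOn_pow_apply, hθN]; rfl)
  obtain ⟨F, hF, hFr⟩ := exists_impl hU hUirr hVB hMB hGB hr.pos hσBs.1 one_ne_zero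
    (hG.trans (one_smul k _).symm)
  obtain ⟨f, hf, hfN⟩ := exists_impl hU hUirr hVB hMB hgB hN hθBN one_ne_zero (hgN.trans (one_smul k _).symm)
  have hcB : Commute σB θB := MulEquiv.ext fun x => Subtype.ext (DFunLike.congr_fun hcσ.eq (x : V))
  have hfF : f * F = F * f :=
    impl_commute hU hUirr hMB hGB hgB hGi hgi hGg hcB hF hf hr.pos hN hFr hfN hrN
  obtain ⟨ι, hιf, cI, lam, Φ, hlam, hΦG, hΦg, hcI⟩ := exists_decomp h hirr hV hr hrk hGσ hG hζ hgθ hN hgN hGg
    A B (fun x hx => mem_fixG.1 hx) hdec horth he hσA hU hUirr hVB U.subtype (fun b x => rfl)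
    (fun h0 => by
      obtain ⟨x, hx⟩ := exists_ne (0 : U)
      exact hx (Subtype.ext (LinearMap.congr_fun h0 x)))
    (σB := σB) (θB := θB) (fun b => rfl) (fun b => rfl) hF hFr hf hfN hfF
  haveI := hιf
  haveI : NeZero r := ⟨hr.ne_zero⟩
  obtain ⟨cf, hcf0, hfo⟩ := pow_scalar hU hUirr hθBs.1 (fun v hv => hθBs.eq_one_of_apply_eq ho.two_le hv) hf
    (injective_of_pow_scalar hN one_ne_zero (hfN.trans (one_smul k _).symm))
  -- the eigenspace
  set bI : ι → Fin r := fun i => a - cI i with hbI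
  have hbne : ∀ i j, cI i ≠ cI j → bI i ≠ bI j := fun i j hij h' => hij (sub_right_injective h')
  have hmem : ∀ x : ι → U, Φ x ∈ eig G (ζ ^ (a : ℕ)) ↔ ∀ i, x i ∈ eig F (ζ ^ (bI i : ℕ)) := by
    intro x
    rw [mem_eig, hΦG, ← map_smul, Φ.injective.eq_iff, funext_iff]
    refine forall_congr' fun i => ?_
    rw [Pi.smul_apply, mem_eig, ← pow_mul_pow_sub hζ.pow_eq_one (cI i) a, mul_smul]
    exact (smul_right_injective U (pow_ne_zero _ (hζ.ne_zero hr.ne_zero))).eq_iff
  have hda : Module.finrank k (eig G (ζ ^ (a : ℕ))) =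
      ∑ i, Module.finrank k (eig F (ζ ^ (bI i : ℕ))) := by
    rw [← Module.finrank_pi_fintype k]
    exact LinearEquiv.finrank_eq
      { toFun := fun x i => ⟨Φ.symm (x : W) i, (hmem (Φ.symm (x : W))).1 (by simp) i⟩
        invFun := fun y => ⟨Φ fun i => (y i : U), (hmem _).2 fun i => (y i).2⟩
        map_add' := fun x y => funext fun i => Subtype.ext (by simp)
        map_smul' := fun c x => funext fun i => Subtype.ext (by simp)
        left_inv := fun x => Subtype.ext (Φ.apply_symm_apply _)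
        right_inv := fun y => funext fun i => Subtype.ext (congrFun (Φ.symm_apply_apply _) i) }
  have hn : Module.finrank k W = Fintype.card ι * Module.finrank k U := by
    rw [← Φ.finrank_eq, Module.finrank_pi_fintype, Finset.sum_const, Finset.card_univ, smul_eq_mul]
  have hcardV : Nat.card V = Nat.card A * Nat.card B := by
    rw [← Nat.card_prod]
    refine (Nat.card_eq_of_bijective (fun x : A × B => (x.1 : V) * x.2) ⟨fun x y hxy => ?_, fun v => ?_⟩).symm
    · have h1 : (y.1 : V)⁻¹ * x.1 = y.2 * (x.2 : V)⁻¹ := by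
        rw [inv_mul_eq_iff_eq_mul, ← mul_assoc, eq_mul_inv_iff_mul_eq]
        exact hxy
      have h2 := hdisj _ (mul_mem (inv_mem y.1.2) x.1.2) (h1 ▸ mul_mem y.2.2 (inv_mem x.2.2))
      have h3 : (x.1 : V) = y.1 := by rwa [inv_mul_eq_one, eq_comm] at h2
      exact Prod.ext (Subtype.ext h3) (Subtype.ext (mul_left_cancel (hxy.trans (by rw [h3]))))
    · obtain ⟨x, hx, y, hy, hxy⟩ := hdec v
      exact ⟨(⟨x, hx⟩, ⟨y, hy⟩), hxy⟩
  set m := Fintype.card ι
  set nB := Module.finrank k U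
  have hcardB : Nat.card B = nB * nB := hU.card_eq hUirr hVB
  have hcardA : Nat.card A = m * m := by
    have h1 : Nat.card A * (nB * nB) = m * m * (nB * nB) := by
      rw [← hcardB, ← hcardV, h.card_eq hirr hV, hn, hcardB]
      ring
    have hnBpos : 0 < nB * nB := hcardB ▸ Nat.card_pos
    exact Nat.eq_of_mul_eq_mul_right hnBpos h1
  have hsc : ∀ i, (∃ c, ∀ x ∈ eig F (ζ ^ (bI i : ℕ)), f x = c • x) →
      1 ≤ Module.finrank k (eig F (ζ ^ (bI i : ℕ))) →
      o = 2 ∧ Module.finrank k (eig F (ζ ^ (bI i : ℕ))) = 1 ∧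
        (∀ b, b ≠ bI i → Module.finrank k (eig F (ζ ^ (b : ℕ))) = 2) ∧ nB + 1 = 2 * r := fun i hi hpos =>
    semireg_scalar hU hUirr hVB hσBs hr hrk hF hFr hζ hθBs ho.two_le hcB hco hf hfo hcf0 hfF
      (by simpa using hchar_of_prime (k := k) ho 1) (bI i) hpos hi
  have hsingle : ∀ i x, x ∈ eig F (ζ ^ (bI i : ℕ)) → Φ (Pi.single i x) ∈ eig G (ζ ^ (a : ℕ)) := by
    intro i x hx
    refine (hmem _).2 fun j => ?_
    rcases eq_or_ne j i with rfl | hj
    · rwa [Pi.single_eq_same]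
    · rw [Pi.single_eq_of_ne hj]; exact Submodule.zero_mem _
  have hgsingle : ∀ i x, g (Φ (Pi.single i x)) = Φ (Pi.single i (lam • f x)) := by
    intro i x
    rw [hΦg]
    congr 1
    funext j
    rcases eq_or_ne j i with rfl | hj
    · simp
    · simp [Pi.single_eq_of_ne hj]
  obtain ⟨i₁, j₁, hij₁⟩ := hcI
  have hother : ∀ i, ∃ j, bI j ≠ bI i := by
    intro i
    by_cases h1 : cI i₁ = cI i
    · exact ⟨j₁, hbne _ _ fun h2 => hij₁ (h1.trans h2.symm)⟩
    · exact ⟨i₁, hbne _ _ h1⟩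
  rcases hal with ⟨c, hc⟩ | ⟨hd2, ⟨c, x₀, hx₀, hx⟩, hb⟩
  · have hscal : ∀ i, ∃ c', ∀ x ∈ eig F (ζ ^ (bI i : ℕ)), f x = c' • x := fun i =>
      ⟨lam⁻¹ * c, fun x hx => by
        have h1 := hc _ (hsingle i x hx)
        rw [hgsingle, ← Φ.map_smul, Φ.injective.eq_iff] at h1
        have h2 := congrFun h1 i
        rw [Pi.single_eq_same, Pi.smul_apply, Pi.single_eq_same] at h2
        rw [← inv_smul_smul₀ hlam (f x), h2, smul_smul]⟩
    obtain ⟨i, hi⟩ : ∃ i, 1 ≤ Module.finrank k (eig F (ζ ^ (bI i : ℕ))) := by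
      by_contra hcon
      push Not at hcon
      rw [hda, Finset.sum_eq_zero fun i _ => by have := hcon i; omega] at hd
      omega
    obtain ⟨-, -, h3, -⟩ := hsc i (hscal i) hi
    obtain ⟨j, hj⟩ := hother i
    have h4 := h3 _ hj
    have := (hsc j (hscal j) (by omega)).2.1
    omega
  -- a scalar plus a map into a line
  set c' := lam⁻¹ * c with hc'
  let Sc : ι → Prop := fun i => ∀ x ∈ eig F (ζ ^ (bI i : ℕ)), f x = c' • x
  have hline : ∀ i x, x ∈ eig F (ζ ^ (bI i : ℕ)) →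
      ∃ t : k, (Pi.single i (lam • f x - c • x) : ι → U) = t • Φ.symm x₀ := by
    intro i x hx'
    obtain ⟨t, ht⟩ := hx _ (hsingle i x hx')
    refine ⟨t, Φ.injective ?_⟩
    rw [Pi.single_sub, Pi.single_smul i c, map_sub, ← hgsingle, ht, map_smul, map_smul,
      LinearEquiv.apply_symm_apply, add_sub_cancel_left]
  have hone : ∀ i j, ¬ Sc i → ¬ Sc j → i = j := by
    intro i j hi hj
    simp only [Sc] at hi hj
    push Not at hi hj
    obtain ⟨x, hx', hxne⟩ := hi
    obtain ⟨y, hy', hyne⟩ := hj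
    by_contra hij
    obtain ⟨t, ht⟩ := hline i x hx'
    obtain ⟨s, hs⟩ := hline j y hy'
    have hne : ∀ z : U, f z ≠ c' • z → lam • f z - c • z ≠ 0 := fun z hz h0 => hz (by
      rw [hc', ← smul_smul, ← sub_eq_zero.1 h0, inv_smul_smul₀ hlam])
    have h1 := congrFun ht j
    have h2 := congrFun hs j
    rw [Pi.single_eq_of_ne (Ne.symm hij)] at h1
    rw [Pi.single_eq_same] at h2
    have ht0 : t ≠ 0 := fun h0 => hne x hxne (by
      have := congrFun ht i
      rwa [Pi.single_eq_same, h0, zero_smul] at this)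
    rw [Pi.smul_apply, eq_comm, smul_eq_zero] at h1
    rw [Pi.smul_apply, h1.resolve_left ht0, smul_zero] at h2
    exact hne y hyne h2
  have hdvdA : r ∣ m * m - 1 := hcardA ▸ (hσ.autOn A hσAm).dvd_card_sub_one hr
  by_cases hex : ∃ i, Sc i ∧ 1 ≤ Module.finrank k (eig F (ζ ^ (bI i : ℕ)))
  · obtain ⟨i, hi, hpos⟩ := hex
    obtain ⟨-, h1, h3, h4⟩ := hsc i ⟨c', hi⟩ hpos
    obtain ⟨j, hj⟩ := hother i
    have hnS : ∀ l, bI l ≠ bI i → ¬ Sc l := fun l hl hS => by
      have h5 := h3 _ hl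
      have := (hsc l ⟨c', hS⟩ (by omega)).2.1
      omega
    have hda' : Module.finrank k (eig G (ζ ^ (a : ℕ))) = m + 1 := by
      rw [hda, Finset.sum_congr rfl fun l _ => show Module.finrank k (eig F (ζ ^ (bI l : ℕ))) =
        1 + if l = j then 1 else 0 from ?_, Finset.sum_add_distrib]
      · simp [m]
      by_cases hl : bI l = bI i
      · rw [hl, h1, if_neg fun hlj => hj ((congrArg bI hlj).symm.trans hl)]
      · rw [h3 _ hl, if_pos (hone _ _ (hnS l hl) (hnS j hj))]
    rw [hn, hda'] at hb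
    have hm2 : 2 ≤ m := by
      have : i ≠ j := fun h' => hj (h' ▸ rfl)
      exact Fintype.one_lt_card_iff.2 ⟨i, j, this⟩
    have h6 : m * (nB + 1) = m * (2 * r) := by rw [h4]
    have h7 : 2 * r ≤ m * r := Nat.mul_le_mul_right r hm2
    have := hr.two_le
    nlinarith [Nat.mul_le_mul hm2 hr.two_le]
  push Not at hex
  obtain ⟨i₀, hi₀⟩ : ∃ i, 1 ≤ Module.finrank k (eig F (ζ ^ (bI i : ℕ))) := by
    by_contra hcon
    push Not at hcon
    rw [hda, Finset.sum_eq_zero fun i _ => by have := hcon i; omega] at hd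
    omega
  have hnS₀ : ¬ Sc i₀ := fun hS => by have := hex i₀ hS; omega
  have hd₀ : Module.finrank k (eig G (ζ ^ (a : ℕ))) = Module.finrank k (eig F (ζ ^ (bI i₀ : ℕ))) := by
    rw [hda]
    refine Finset.sum_eq_single i₀ (fun l _ hl => ?_) (fun hh => absurd (Finset.mem_univ _) hh)
    by_contra hne
    exact hl (hone _ _ (fun hS => by have := hex l hS; omega) hnS₀)
  have hr1 : RankOne f (eig F (ζ ^ (bI i₀ : ℕ))) := by
    refine ⟨c', Φ.symm x₀ i₀, (hmem _).1 (by rwa [LinearEquiv.apply_symm_apply]) i₀, fun x hx' => ?_⟩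
    obtain ⟨t, ht⟩ := hline i₀ x hx'
    refine ⟨lam⁻¹ * t, ?_⟩
    have h1 := congrFun ht i₀
    rw [Pi.single_eq_same, Pi.smul_apply, sub_eq_iff_eq_add'] at h1
    rw [← inv_smul_smul₀ hlam (f x), h1, smul_add, smul_smul, smul_smul]
  rw [hd₀] at hb hd2
  rw [hn] at hb
  have hrankB := semireg_rank hU hUirr hVB hσBs hr hrk hF hFr hζ hθBs ho.two_le hcB hco hf hfo hcf0 hfF
    (by simpa using hchar_of_prime (k := k) ho 1) (bI i₀) hd2 hr1
  have hA1 : r + 1 ≤ m * m := by
    have h1 := (hσ.autOn A hσAm).dvd_card_sub_one hr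
    have h2 : 1 < Nat.card A := Finite.one_lt_card
    rw [← hcardA]
    have := Nat.le_of_dvd (by omega) h1
    omega
  have hB1 : r * o + 1 ≤ nB * nB := by
    have h1 : r * o ∣ Nat.card B - 1 :=
      hco.mul_dvd_of_dvd_of_dvd (hσBs.dvd_card_sub_one hr) (hθBs.dvd_card_sub_one ho)
    have h2 : 1 < Nat.card B := Finite.one_lt_card
    rw [← hcardB]
    have := Nat.le_of_dvd (by omega) h1
    omega
  haveI := Fact.mk hp
  obtain ⟨i, hi⟩ := IsPGroup.iff_card.1 (hVp.to_subgroup A)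
  obtain ⟨j, hj⟩ := IsPGroup.iff_card.1 (hVp.to_subgroup B)
  rw [hcardA] at hi
  rw [hcardB] at hj
  rcases hrankB with ⟨ho2, hd3⟩ | ⟨-, hd3, -⟩
  · exact pin_arith hr hp ho.two_le hop hA1 hi hj hdvdA hB1 hd3 (fun _ => ho2) hb
  · exact pin_arith hr hp ho.two_le hop hA1 hi hj hdvdA hB1 (by omega) (fun h' => by omega) hb

end CfsgLib.Turull
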