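import Mathlib.LinearAlgebra.Eigenspace.Triangularizable
import Mathlib.FieldTheory.IsAlgClosed.Basic
import Mathlib.GroupTheory.PGroup
import Mathlib.GroupTheory.Commutator.Basic
import Mathlib.RingTheory.IntegralDomain
import Mathlib.RingTheory.Artinian.Module
import Mathlib.LinearAlgebra.FiniteDimensional.Basic

/-!
A group of prime power order that is nilpotent of class at most two on a module, with a compatible operator:
the decomposition of the module by the characters of the centres of the homogeneous parts.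
-/

set_option autoImplicit false
set_option linter.style.haveILetI false
set_option linter.unusedSectionVars false

namespace CfsgLib.Turull

open scoped commutatorElement

/-- A representation that is of class at most two relative to `A`, with a compatible operator of prime order. -/
structure Sys (k : Type*) [Field k] (T : Type*) [Group T] (X : Type*) [AddCommGroup X] [Module k X] where
  ρ : T →* Module.End k X
  A : Subgroup T
  hTA : ∀ s t : T, ⁅s, t⁆ ∈ A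
  hA : ∀ a ∈ A, ∀ t : T, ρ ⁅a, t⁆ = 1
  σ : MulAut T
  hσA : ∀ a ∈ A, σ a ∈ A
  S : Module.End k X
  r : ℕ
  p : ℕ
  hr : r.Prime
  hp : p.Prime
  hpr : p ≠ r
  hσ : σ ^ r = 1
  hS : S ^ r = 1
  compat : ∀ t, S * ρ t = ρ (σ t) * S
  hT : IsPGroup p T
  hkp : (p : k) ≠ 0
  hkr : (r : k) ≠ 0

/-- A vector common to a commuting family of operators on an invariant subspace. -/
theorem exists_joint_eigen {k X ι : Type*} [Field k] [IsAlgClosed k] [AddCommGroup X] [Module k X]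
    [FiniteDimensional k X] (f : ι → Module.End k X) (W : Submodule k X) (hW : W ≠ ⊥)
    (hinv : ∀ i, ∀ v ∈ W, f i v ∈ W) (hcomm : ∀ i j, ∀ v ∈ W, f i (f j v) = f j (f i v)) :
    ∃ v ∈ W, v ≠ 0 ∧ ∀ i, ∃ c : k, f i v = c • v := by
  obtain ⟨U, ⟨hUW, hU0, hUinv⟩, hmin⟩ := exists_minimal_of_wellFoundedLT
    (fun U : Submodule k X => U ≤ W ∧ U ≠ ⊥ ∧ ∀ i, ∀ v ∈ U, f i v ∈ U) ⟨W, le_rfl, hW, hinv⟩
  obtain ⟨v, hv, hv0⟩ := Submodule.exists_mem_ne_zero_of_ne_bot hU0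
  refine ⟨v, hUW hv, hv0, fun i => ?_⟩
  haveI : Nontrivial U := Submodule.nontrivial_iff_ne_bot.2 hU0
  obtain ⟨c, hc⟩ := Module.End.exists_eigenvalue ((f i).restrict (hUinv i))
  obtain ⟨u, hu⟩ := hc.exists_hasEigenvector
  let U' : Submodule k X := U ⊓ LinearMap.ker (f i - c • LinearMap.id)
  have hmem : ∀ x, x ∈ U' ↔ x ∈ U ∧ f i x = c • x := fun x => by
    simp [U', sub_eq_zero]
  have hle : U ≤ U' := by
    refine hmin ⟨inf_le_left.trans hUW, ?_, fun j x hx => ?_⟩ inf_le_left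
    · intro h
      have : (u : X) ∈ U' := (hmem u).2 ⟨u.2, congrArg Subtype.val hu.apply_eq_smul⟩
      rw [h, Submodule.mem_bot] at this
      exact hu.2 (Subtype.ext this)
    · rw [hmem] at hx ⊢
      refine ⟨hUinv j x hx.1, ?_⟩
      rw [hcomm i j x (hUW hx.1), hx.2, map_smul]
  exact ⟨c, ((hmem v).1 (hle hv)).2⟩

variable {k : Type*} [Field k] {T : Type*} [Group T] [Finite T] {X : Type*} [AddCommGroup X] [Module k X]

namespace Sys

variable (D : Sys k T X)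

theorem ρ_mul (s t : T) (v : X) : D.ρ (s * t) v = D.ρ s (D.ρ t v) := by rw [map_mul]; rfl

theorem ρ_one (v : X) : D.ρ 1 v = v := by rw [map_one]; rfl

theorem ρ_inv (t : T) (v : X) : D.ρ t⁻¹ (D.ρ t v) = v := by rw [← D.ρ_mul, inv_mul_cancel, D.ρ_one]

theorem ρ_inj (t : T) {v : X} (h : D.ρ t v = 0) : v = 0 := by
  rw [← D.ρ_inv t v, h, map_zero]

theorem S_ρ (t : T) (v : X) : D.S (D.ρ t v) = D.ρ (D.σ t) (D.S v) := LinearMap.congr_fun (D.compat t) v

include D in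
theorem card_ne_zero : (Nat.card T : k) ≠ 0 := by
  haveI := Fact.mk D.hp
  obtain ⟨n, hn⟩ := IsPGroup.iff_card.1 D.hT
  rw [hn, Nat.cast_pow]
  exact pow_ne_zero _ D.hkp

include D in
theorem dvd_card_ne_zero {m : ℕ} (h : m ∣ Nat.card T) : (m : k) ≠ 0 := by
  obtain ⟨c, hc⟩ := h
  intro h0
  exact D.card_ne_zero (by rw [hc, Nat.cast_mul, h0, zero_mul])

/-- A character of the centre of a homogeneous part, extended by zero. -/
structure IsComp (χ : T → k) : Prop where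
  supp : ∀ z, χ z ≠ 0 ↔ ∀ t, χ ⁅z, t⁆ = 1
  mul : ∀ z w, χ z ≠ 0 → χ (z * w) = χ z * χ w
  one : χ 1 = 1
  hA : ∀ a ∈ D.A, χ a ≠ 0
  eig : ∃ v : X, v ≠ 0 ∧ ∀ z, χ z ≠ 0 → D.ρ z v = χ z • v

/-- The part of the module belonging to a character. -/
def space (χ : T → k) : Submodule k X where
  carrier := {v | ∀ z, χ z ≠ 0 → D.ρ z v = χ z • v}
  add_mem' := fun ha hb z hz => by rw [map_add, ha z hz, hb z hz, smul_add]
  zero_mem' := fun z _ => by rw [map_zero, smul_zero]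
  smul_mem' := fun c v hv z hz => by rw [map_smul, hv z hz, smul_comm]

theorem mem_space {χ : T → k} {v : X} : v ∈ D.space χ ↔ ∀ z, χ z ≠ 0 → D.ρ z v = χ z • v := Iff.rfl

variable {D} {χ ψ : T → k}

namespace IsComp

variable (h : D.IsComp χ)
include h

theorem comm_val (a : T) (ha : a ∈ D.A) (t : T) : χ ⁅a, t⁆ = 1 := by
  obtain ⟨v, hv, hv'⟩ := h.eig
  have h1 := hv' ⁅a, t⁆ (h.hA _ (D.hTA a t))
  rw [D.hA a ha t] at h1
  have h2 : (χ ⁅a, t⁆ - 1) • v = 0 := by rw [sub_smul, one_smul, ← h1]; exact sub_self v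
  exact sub_eq_zero.1 ((smul_eq_zero.1 h2).resolve_right hv)

theorem mul_right_supp (z w : T) (hz : χ z ≠ 0) (hw : χ w ≠ 0) : χ (z * w) ≠ 0 := by
  rw [h.mul z w hz]; exact mul_ne_zero hz hw

theorem inv_supp (z : T) (hz : χ z ≠ 0) : χ z⁻¹ ≠ 0 ∧ χ z⁻¹ = (χ z)⁻¹ := by
  have h1 : χ z * χ z⁻¹ = 1 := by rw [← h.mul z z⁻¹ hz, mul_inv_cancel, h.one]
  exact ⟨right_ne_zero_of_mul_eq_one h1, (eq_inv_of_mul_eq_one_right h1)⟩

theorem comm_supp (s t : T) : χ ⁅s, t⁆ ≠ 0 := h.hA _ (D.hTA s t)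

theorem comm_inv (s t : T) : χ ⁅t, s⁆ = (χ ⁅s, t⁆)⁻¹ := by
  rw [← commutatorElement_inv, (h.inv_supp _ (h.comm_supp s t)).2]

theorem comm_mul_left (s₁ s₂ t : T) : χ ⁅s₁ * s₂, t⁆ = χ ⁅s₁, t⁆ * χ ⁅s₂, t⁆ := by
  have e : ⁅s₁ * s₂, t⁆ = ⁅s₁, ⁅s₂, t⁆⁆ * ⁅s₂, t⁆ * ⁅s₁, t⁆ := by
    simp [commutatorElement_def, mul_assoc]
  rw [e, h.mul _ _ (h.mul_right_supp _ _ (h.comm_supp _ _) (h.comm_supp _ _)), h.mul _ _ (h.comm_supp _ _),
    h.comm_inv ⁅s₂, t⁆ s₁, h.comm_val _ (D.hTA s₂ t) s₁, inv_one, one_mul, mul_comm]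

theorem comm_mul_right (s t₁ t₂ : T) : χ ⁅s, t₁ * t₂⁆ = χ ⁅s, t₁⁆ * χ ⁅s, t₂⁆ := by
  rw [h.comm_inv (t₁ * t₂) s, h.comm_mul_left, mul_inv, ← h.comm_inv, ← h.comm_inv]

theorem comm_of_supp (z : T) (hz : χ z ≠ 0) (t : T) : χ ⁅z, t⁆ = 1 := (h.supp z).1 hz t

theorem conj_val (t z : T) : χ (t * z * t⁻¹) = χ z := by
  rw [show t * z * t⁻¹ = ⁅t, z⁆ * z by simp [commutatorElement_def], h.mul _ _ (h.comm_supp t z)]
  by_cases hz : χ z = 0
  · simp [hz]
  · rw [h.comm_inv z t, h.comm_of_supp z hz t, inv_one, one_mul]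

theorem ρ_mem_space (t : T) {v : X} (hv : v ∈ D.space χ) : D.ρ t v ∈ D.space χ := by
  intro z hz
  have hz' : χ (t⁻¹ * z * t) = χ z := by
    have := h.conj_val t⁻¹ z
    rwa [inv_inv] at this
  rw [show z = t * (t⁻¹ * z * t) * t⁻¹ by group, D.ρ_mul, D.ρ_inv, D.ρ_mul,
    hv _ (hz' ▸ hz), map_smul, hz', ← hz', ← h.conj_val t (t⁻¹ * z * t)]

theorem smul_of_mem_space (s t : T) {v : X} (hv : v ∈ D.space χ) :
    D.ρ s (D.ρ t v) = χ ⁅s, t⁆ • D.ρ t (D.ρ s v) := by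
  rw [← D.ρ_mul, show s * t = ⁅s, t⁆ * (t * s) by simp [commutatorElement_def, mul_assoc], D.ρ_mul,
    h.ρ_mem_space _ hv _ (h.comm_supp s t), D.ρ_mul]

theorem space_ne_bot : D.space χ ≠ ⊥ := by
  obtain ⟨v, hv, hv'⟩ := h.eig
  exact fun h0 => hv (by simpa [h0] using (show v ∈ D.space χ from hv'))

end IsComp

variable (D) in
/-- The projection onto the part of a character, up to a scalar. -/
noncomputable def preProj (χ : T → k) : Module.End k X :=
  letI := Fintype.ofFinite T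
  ∑ t : T, (χ t)⁻¹ • D.ρ t

/-- The number of elements where a character does not vanish. -/
noncomputable def suppCard (_D : Sys k T X) (χ : T → k) : k :=
  letI := Fintype.ofFinite T
  ∑ t : T, (χ t)⁻¹ * χ t

variable (D) in
/-- The projection onto the part of a character. -/
noncomputable def proj (χ : T → k) : Module.End k X := (D.suppCard χ)⁻¹ • D.preProj χ

/-- The centre of the part of a character. -/
def IsComp.zsub (h : D.IsComp χ) : Subgroup T where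
  carrier := {z | χ z ≠ 0}
  one_mem' := by simp [h.one]
  mul_mem' := fun ha hb => h.mul_right_supp _ _ ha hb
  inv_mem' := fun ha => (h.inv_supp _ ha).1

theorem IsComp.mem_zsub (h : D.IsComp χ) {z : T} : z ∈ h.zsub ↔ χ z ≠ 0 := Iff.rfl

namespace IsComp

variable (h : D.IsComp χ)
include h

theorem suppCard_eq : D.suppCard χ = (Nat.card h.zsub : k) := by
  classical
  letI := Fintype.ofFinite T
  rw [suppCard, Nat.card_eq_fintype_card, Fintype.card_subtype, Finset.cast_card, Finset.sum_filter]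
  refine Finset.sum_congr rfl fun t _ => ?_
  by_cases ht : χ t = 0
  · rw [if_neg (fun h' => (h.mem_zsub.1 h') ht), ht, mul_zero]
  · rw [if_pos (h.mem_zsub.2 ht), inv_mul_cancel₀ ht]

theorem suppCard_ne_zero : D.suppCard χ ≠ 0 := by
  rw [h.suppCard_eq]
  exact D.dvd_card_ne_zero (Subgroup.card_subgroup_dvd_card _)

theorem preProj_apply_mem (v : X) : D.preProj χ v ∈ D.space χ := by
  intro w hw
  letI := Fintype.ofFinite T
  simp only [preProj, LinearMap.sum_apply, LinearMap.smul_apply, map_sum, map_smul, Finset.smul_sum,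
    ← D.ρ_mul, smul_smul]
  refine Fintype.sum_equiv (Equiv.mulLeft w) _ _ fun t => ?_
  rw [Equiv.coe_mulLeft, h.mul w t hw, mul_inv, ← mul_assoc, mul_inv_cancel₀ hw, one_mul]

theorem preProj_of_mem {v : X} (hv : v ∈ D.space χ) : D.preProj χ v = D.suppCard χ • v := by
  letI := Fintype.ofFinite T
  simp only [preProj, suppCard, LinearMap.sum_apply, LinearMap.smul_apply, Finset.sum_smul]
  refine Finset.sum_congr rfl fun t _ => ?_
  by_cases ht : χ t = 0
  · simp [ht]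
  · rw [hv t ht, smul_smul]

theorem proj_mem (v : X) : D.proj χ v ∈ D.space χ :=
  (D.space χ).smul_mem _ (h.preProj_apply_mem v)

theorem proj_of_mem {v : X} (hv : v ∈ D.space χ) : D.proj χ v = v := by
  rw [proj, LinearMap.smul_apply, h.preProj_of_mem hv, smul_smul, inv_mul_cancel₀ h.suppCard_ne_zero, one_smul]

theorem proj_ρ (t : T) (v : X) : D.proj χ (D.ρ t v) = D.ρ t (D.proj χ v) := by
  letI := Fintype.ofFinite T
  simp only [proj, preProj, LinearMap.smul_apply, LinearMap.sum_apply, map_smul, map_sum, ← D.ρ_mul]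
  congr 1
  refine Fintype.sum_equiv (MulAut.conj t⁻¹).toEquiv _ _ fun z => ?_
  show (χ z)⁻¹ • D.ρ (z * t) v = (χ (t⁻¹ * z * t⁻¹⁻¹))⁻¹ • D.ρ (t * (t⁻¹ * z * t⁻¹⁻¹)) v
  rw [h.conj_val, inv_inv]
  congr 2
  group

theorem eq_of_mem (h' : D.IsComp ψ) {v : X} (hv : v ≠ 0) (h1 : v ∈ D.space χ) (h2 : v ∈ D.space ψ) :
    χ = ψ := by
  have hval : ∀ z, χ z ≠ 0 → ψ z ≠ 0 → χ z = ψ z := fun z hz hz' => by
    have := (h1 z hz).symm.trans (h2 z hz')
    exact sub_eq_zero.1 ((smul_eq_zero.1 (by rw [sub_smul, this, sub_self] :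
      (χ z - ψ z) • v = 0)).resolve_right hv)
  have hsupp : ∀ z, χ z ≠ 0 ↔ ψ z ≠ 0 := fun z => by
    rw [h.supp, h'.supp]
    refine forall_congr' fun t => ?_
    rw [hval _ (h.comm_supp z t) (h'.comm_supp z t)]
  funext z
  by_cases hz : χ z = 0
  · rw [hz]
    by_contra hne
    exact (hsupp z).2 (Ne.symm hne) hz
  · exact hval z hz ((hsupp z).1 hz)

theorem proj_eq_zero (h' : D.IsComp ψ) (hne : χ ≠ ψ) {v : X} (hv : v ∈ D.space ψ) : D.proj χ v = 0 := by
  by_contra h0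
  refine hne (h.eq_of_mem h' h0 (h.proj_mem v) ?_)
  intro z hz
  rw [← h.proj_ρ, hv z hz, map_smul]

end IsComp

theorem finite_isComp : {χ : T → k | D.IsComp χ}.Finite := by
  classical
  refine Set.Finite.subset (Set.Finite.pi (fun _ : T =>
    ((Polynomial.nthRootsFinset (Nat.card T) (1 : k)).finite_toSet.union (Set.finite_singleton 0)))) ?_
  intro χ hχ
  rw [Set.mem_univ_pi]
  intro t
  by_cases ht : χ t = 0
  · exact Or.inr ht
  · refine Or.inl ?_
    rw [Finset.mem_coe, Polynomial.mem_nthRootsFinset Nat.card_pos]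
    have : ∀ n : ℕ, χ (t ^ n) = χ t ^ n := by
      intro n
      induction n with
      | zero => rw [pow_zero, pow_zero, hχ.one]
      | succ n ih => rw [pow_succ', pow_succ', hχ.mul t _ ht, ih]
    rw [← this, pow_card_eq_one', hχ.one]

/-- Every nonzero invariant subspace meets some part. -/
theorem exists_isComp [IsAlgClosed k] [FiniteDimensional k X] {W : Submodule k X} (hW : W ≠ ⊥)
    (hinv : ∀ t, ∀ v ∈ W, D.ρ t v ∈ W) :
    ∃ χ, D.IsComp χ ∧ ∃ v ∈ W, v ≠ 0 ∧ v ∈ D.space χ := by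
  classical
  obtain ⟨v, hvW, hv0, hv⟩ := exists_joint_eigen (fun a : D.A => D.ρ a) W hW (fun a => hinv a)
    (fun a b w _ => by
      rw [← D.ρ_mul, ← D.ρ_mul, show (a : T) * b = ⁅(a : T), (b : T)⁆ * (b * a) by
        simp [commutatorElement_def, mul_assoc], D.ρ_mul, D.hA a a.2]
      rfl)
  choose c hc using hv
  -- the eigenspace of `A`
  let W' : Submodule k X := W ⊓ ⨅ a : D.A, LinearMap.ker (D.ρ a - c a • LinearMap.id)
  have hmem : ∀ x, x ∈ W' ↔ x ∈ W ∧ ∀ a : D.A, D.ρ a x = c a • x := fun x => by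
    simp [W', sub_eq_zero]
  have hW'inv : ∀ t, ∀ x ∈ W', D.ρ t x ∈ W' := by
    intro t x hx
    rw [hmem] at hx ⊢
    refine ⟨hinv t x hx.1, fun a => ?_⟩
    rw [← D.ρ_mul, show (a : T) * t = ⁅(a : T), t⁆ * (t * a) by simp [commutatorElement_def, mul_assoc],
      D.ρ_mul, D.hA a a.2, D.ρ_mul, hx.2 a, map_smul]
    rfl
  let Z := {z : T // ∀ t, c ⟨⁅z, t⁆, D.hTA z t⟩ = 1}
  obtain ⟨w, hwW, hw0, hw⟩ := exists_joint_eigen (fun z : Z => D.ρ z.1) W'
    (fun h0 => hv0 (by simpa [h0] using (hmem v).2 ⟨hvW, hc⟩)) (fun z => hW'inv z.1)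
    (fun z z' x hx => by
      rw [← D.ρ_mul, ← D.ρ_mul, show z.1 * z'.1 = ⁅z.1, z'.1⁆ * (z'.1 * z.1) by
        simp [commutatorElement_def, mul_assoc], D.ρ_mul,
        ((hmem _).1 (hW'inv (z'.1 * z.1) x hx)).2 ⟨_, D.hTA z.1 z'.1⟩, z.2 z'.1, one_smul])
  choose d hd using hw
  have hwA : ∀ a : D.A, D.ρ a w = c a • w := ((hmem w).1 hwW).2
  have hzA : ∀ a (ha : a ∈ D.A) (t : T), c ⟨⁅a, t⁆, D.hTA a t⟩ = 1 := by
    intro a ha t
    have := hwA ⟨⁅a, t⁆, D.hTA a t⟩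
    rw [show D.ρ ⁅a, t⁆ w = w by rw [D.hA a ha t]; rfl] at this
    exact (smul_left_injective k hw0 (by simpa using this)).symm
  have huniq : ∀ {x y : k}, x • w = y • w → x = y := fun h => smul_left_injective k hw0 h
  have hdne : ∀ z : Z, d z ≠ 0 := fun z h0 => hw0 (D.ρ_inj z.1 (by rw [hd z, h0, zero_smul]))
  refine ⟨fun z => if h : ∀ t, c ⟨⁅z, t⁆, D.hTA z t⟩ = 1 then d ⟨z, h⟩ else 0, ?_,
    w, ((hmem w).1 hwW).1, hw0, ?_⟩
  swap
  · intro z hz
    beta_reduce at hz ⊢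
    by_cases h : ∀ t, c ⟨⁅z, t⁆, D.hTA z t⟩ = 1
    · rw [dif_pos h]; exact hd ⟨z, h⟩
    · exact absurd (dif_neg h) hz
  have hAval : ∀ a (ha : a ∈ D.A), (if h : ∀ t, c ⟨⁅a, t⁆, D.hTA a t⟩ = 1 then d ⟨a, h⟩ else 0) = c ⟨a, ha⟩ := by
    intro a ha
    rw [dif_pos (hzA a ha)]
    exact huniq ((hd ⟨a, hzA a ha⟩).symm.trans (hwA ⟨a, ha⟩))
  have hcomm : ∀ z t, (if h : ∀ s, c ⟨⁅⁅z, t⁆, s⁆, D.hTA ⁅z, t⁆ s⟩ = 1 then d ⟨⁅z, t⁆, h⟩ else 0) =
      c ⟨⁅z, t⁆, D.hTA z t⟩ := fun z t => hAval _ (D.hTA z t)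
  refine ⟨fun z => ?_, fun z z' hz => ?_, ?_, fun a ha => ?_, ⟨w, hw0, ?_⟩⟩
  · constructor
    · intro hz t
      show (if h : _ then _ else _) = (1 : k)
      rw [hcomm]
      by_contra hne
      exact hz (dif_neg fun h => hne (h t))
    · intro h
      have h' : ∀ t, c ⟨⁅z, t⁆, D.hTA z t⟩ = 1 := fun t => (hcomm z t).symm.trans (h t)
      show (if h : _ then _ else _) ≠ (0 : k)
      rw [dif_pos h']
      exact hdne _
  · have hz' : ∀ t, c ⟨⁅z, t⁆, D.hTA z t⟩ = 1 := by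
      by_contra hne
      exact hz (dif_neg hne)
    have hmul : ∀ t, c ⟨⁅z * z', t⁆, D.hTA _ t⟩ = c ⟨⁅z', t⁆, D.hTA _ t⟩ := by
      intro t
      refine huniq ?_
      rw [← hwA, ← hwA]
      simp only
      rw [show ⁅z * z', t⁆ = ⁅z, ⁅z', t⁆⁆ * ⁅z', t⁆ * ⁅z, t⁆ by simp [commutatorElement_def, mul_assoc],
        D.ρ_mul, D.ρ_mul, hwA ⟨_, D.hTA z t⟩, hz' t, one_smul, hwA ⟨_, D.hTA z' t⟩, map_smul,
        hwA ⟨_, D.hTA z ⁅z', t⁆⟩, hz' ⁅z', t⁆, one_smul]
    show (if h : _ then _ else _) = (if h : _ then _ else _) * (if h : _ then _ else _)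
    rw [dif_pos hz']
    by_cases h' : ∀ t, c ⟨⁅z', t⁆, D.hTA z' t⟩ = 1
    · have h3 : ∀ t, c ⟨⁅z * z', t⁆, D.hTA _ t⟩ = 1 := fun t => (hmul t).trans (h' t)
      rw [dif_pos h', dif_pos h3]
      refine huniq ?_
      rw [← hd ⟨z * z', h3⟩, mul_comm, mul_smul, ← hd ⟨z, hz'⟩, ← map_smul, ← hd ⟨z', h'⟩]
      exact D.ρ_mul z z' w
    · rw [dif_neg h', mul_zero]
      exact dif_neg fun h => h' fun t => (hmul t).symm.trans (h t)
  · show (if h : _ then _ else _) = (1 : k)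
    rw [hAval 1 (one_mem _)]
    refine huniq ?_
    rw [← hwA, one_smul]
    exact D.ρ_one w
  · show (if h : _ then _ else _) ≠ (0 : k)
    rw [dif_pos (hzA a ha)]
    exact hdne _
  · intro z hz
    beta_reduce at hz ⊢
    by_cases h : ∀ t, c ⟨⁅z, t⁆, D.hTA z t⟩ = 1
    · rw [dif_pos h]; exact hd ⟨z, h⟩
    · exact absurd (dif_neg h) hz

variable (D) in
theorem sum_proj [IsAlgClosed k] [FiniteDimensional k X] (v : X) :
    ∑ χ ∈ (D.finite_isComp).toFinset, D.proj χ v = v := by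
  classical
  set Q : Module.End k X := ∑ χ ∈ (D.finite_isComp).toFinset, D.proj χ - 1 with hQ
  have hQv : ∀ u, Q u = (∑ χ ∈ (D.finite_isComp).toFinset, D.proj χ u) - u := fun u => by
    simp [hQ, LinearMap.sum_apply]
  suffices h : LinearMap.range Q = ⊥ by
    have := (LinearMap.range_eq_bot.1 h)
    have h2 := hQv v
    rw [this, LinearMap.zero_apply, eq_comm, sub_eq_zero] at h2
    exact h2
  by_contra hne
  have hcomm : ∀ t u, Q (D.ρ t u) = D.ρ t (Q u) := fun t u => by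
    rw [hQv, hQv, map_sub, map_sum]
    congr 1
    refine Finset.sum_congr rfl fun χ hχ => ?_
    exact ((D.finite_isComp).mem_toFinset.1 hχ).proj_ρ t u
  obtain ⟨χ, hχ, w, hw, hw0, hwχ⟩ := D.exists_isComp hne (by
    rintro t _ ⟨u, rfl⟩
    exact ⟨D.ρ t u, hcomm t u⟩)
  obtain ⟨u, rfl⟩ := hw
  apply hw0
  have hmemχ := (D.finite_isComp).mem_toFinset.2 (show χ ∈ {χ : T → k | D.IsComp χ} from hχ)
  have h1 : D.proj χ (Q u) = 0 := by
    rw [hQv, map_sub, map_sum, Finset.sum_eq_single χ ?_ (fun h => absurd hmemχ h),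
      hχ.proj_of_mem (hχ.proj_mem u), sub_self]
    intro ψ hψ hne'
    have hψ' : D.IsComp ψ := (D.finite_isComp).mem_toFinset.1 hψ
    exact hχ.proj_eq_zero hψ' (Ne.symm hne') (hψ'.proj_mem u)
  rwa [hχ.proj_of_mem hwχ] at h1

/-! ### Transport by compatible operators -/

theorem IsComp.transport (h : D.IsComp χ) (θ : MulAut T) (hθ : ∀ a ∈ D.A, θ.symm a ∈ D.A)
    (Y : X ≃ₗ[k] X) (hY : ∀ t v, Y (D.ρ t v) = D.ρ (θ t) (Y v)) :
    D.IsComp (fun t => χ (θ.symm t)) := by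
  refine ⟨fun z => ?_, fun z w hz => ?_, by simp [h.one], fun a ha => h.hA _ (hθ a ha), ?_⟩
  · rw [h.supp]
    simp only [map_commutatorElement]
    constructor
    · exact fun h' t => h' _
    · intro h' t
      simpa using h' (θ t)
  · show χ (θ.symm (z * w)) = _
    rw [map_mul, h.mul _ _ hz]
  · obtain ⟨v, hv, hv'⟩ := h.eig
    refine ⟨Y v, fun h0 => hv (Y.map_eq_zero_iff.1 h0), fun z hz => ?_⟩
    have := congrArg Y (hv' (θ.symm z) hz)
    rwa [hY, map_smul, MulEquiv.apply_symm_apply] at this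

theorem proj_transport (θ : MulAut T) (Y : X ≃ₗ[k] X) (hY : ∀ t v, Y (D.ρ t v) = D.ρ (θ t) (Y v))
    (χ : T → k) (v : X) : D.proj (fun t => χ (θ.symm t)) (Y v) = Y (D.proj χ v) := by
  letI := Fintype.ofFinite T
  have e : D.suppCard (fun t => χ (θ.symm t)) = D.suppCard χ := by
    simp only [suppCard]
    exact Fintype.sum_equiv θ.symm.toEquiv _ _ fun t => rfl
  simp only [proj, preProj, e, LinearMap.smul_apply, LinearMap.sum_apply, map_smul, map_sum]
  congr 1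
  refine (Fintype.sum_equiv θ.toEquiv _ _ fun t => ?_).symm
  rw [hY]
  simp

end Sys

end CfsgLib.Turull
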