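import Cfsg.Agent.Turull.Rep
import Cfsg.Agent.Turull.Chars
import Cfsg.Agent.Coprime.Basic

/-!
What the averages of the moved elements of an invariant spanning set see of a representation of class two.
-/

set_option autoImplicit false
set_option linter.style.haveILetI false
set_option linter.unusedSectionVars false

namespace CfsgLib.Turull

open scoped commutatorElement

variable {k : Type*} [Field k] {T : Type*} [Group T] [Finite T] {X : Type*} [AddCommGroup X] [Module k X]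

namespace Sys

variable (D : Sys k T X)

/-- The sum over the orbit of the operator. -/
def av : Module.End k X := ∑ j ∈ Finset.range D.r, D.S ^ j

theorem S_mul_av : D.S * D.av = D.av := by
  have h : ∑ j ∈ Finset.range (D.r + 1), D.S ^ j = ∑ j ∈ Finset.range D.r, D.S ^ j + D.S ^ D.r :=
    Finset.sum_range_succ _ _
  rw [Finset.sum_range_succ' (fun j => D.S ^ j), pow_zero, D.hS] at h
  rw [av, Finset.mul_sum]
  simp only [← pow_succ']
  exact add_right_cancel h

theorem av_mul_S : D.av * D.S = D.av := by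
  have : D.av * D.S = D.S * D.av := by simp [av, Finset.sum_mul, Finset.mul_sum, ← pow_succ, ← pow_succ']
  rw [this, D.S_mul_av]

theorem S_av (v : X) : D.S (D.av v) = D.av v := LinearMap.congr_fun D.S_mul_av v

theorem av_apply (v : X) : D.av v = ∑ j ∈ Finset.range D.r, (D.S ^ j) v := by simp [av]

theorem pow_S_of_fixed {v : X} (h : D.S v = v) (j : ℕ) : (D.S ^ j) v = v := by
  induction j with
  | zero => rfl
  | succ j ih => rw [pow_succ', Module.End.mul_apply, ih, h]

theorem av_of_fixed {v : X} (h : D.S v = v) : D.av v = (D.r : k) • v := by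
  rw [av_apply, Finset.sum_congr rfl fun j _ => D.pow_S_of_fixed h j, Finset.sum_const, Finset.card_range,
    Nat.cast_smul_eq_nsmul]

theorem compat_pow (j : ℕ) (t : T) (v : X) :
    (D.S ^ j) (D.ρ t v) = D.ρ ((D.σ ^ j) t) ((D.S ^ j) v) := by
  induction j with
  | zero => rfl
  | succ j ih =>
    rw [pow_succ', Module.End.mul_apply, ih, D.S_ρ, pow_succ', MulAut.mul_apply]
    rfl

theorem S_pow_mod (j : ℕ) : D.S ^ j = D.S ^ (j % D.r) := pow_eq_pow_mod j D.hS

theorem σ_pow_mod (j : ℕ) : D.σ ^ j = D.σ ^ (j % D.r) := pow_eq_pow_mod j D.hσ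

theorem σ_pow_add (i j : ℕ) (t : T) : (D.σ ^ (i + j)) t = (D.σ ^ i) ((D.σ ^ j) t) := by
  rw [pow_add]; rfl

theorem σ_pow_mem {a : T} (ha : a ∈ D.A) (j : ℕ) : (D.σ ^ j) a ∈ D.A := by
  induction j with
  | zero => exact ha
  | succ j ih =>
    rw [show j + 1 = 1 + j by omega, D.σ_pow_add, pow_one]
    exact D.hσA _ ih

theorem σ_pow_r (t : T) (m : ℕ) : (D.σ ^ (D.r * m)) t = t := by
  rw [pow_mul, D.hσ, one_pow]; rfl

/-- The operator as an equivalence. -/
noncomputable def Se (j : ℕ) : X ≃ₗ[k] X :=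
  LinearEquiv.ofLinear (D.S ^ j) (D.S ^ (D.r * j - j)) (by
      rw [← Module.End.mul_eq_comp, ← pow_add, show j + (D.r * j - j) = D.r * j by
        have := Nat.le_mul_of_pos_left j D.hr.pos; omega, pow_mul, D.hS, one_pow]
      rfl)
    (by
      rw [← Module.End.mul_eq_comp, ← pow_add, show D.r * j - j + j = D.r * j by
        have := Nat.le_mul_of_pos_left j D.hr.pos; omega, pow_mul, D.hS, one_pow]
      rfl)

theorem Se_apply (j : ℕ) (v : X) : D.Se j v = (D.S ^ j) v := rfl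

/-- If some nontrivial power fixes something, so does the automorphism. -/
theorem eq_of_pow_eq {α : Type*} (F : ℕ → α) {d : ℕ} (hd : ¬ D.r ∣ d)
    (hstep : ∀ i, F (i + d) = F i) (hr : ∀ i m, F (i + D.r * m) = F i) : F 1 = F 0 := by
  have h : ∀ i m, F (i + d * m) = F i := by
    intro i m
    induction m with
    | zero => simp
    | succ m ih => rw [Nat.mul_succ, ← Nat.add_assoc, hstep, ih]
  obtain ⟨m, hm⟩ : ∃ m, d * m % D.r = 1 := by
    obtain ⟨m, -, hm⟩ := Nat.exists_mul_mod_eq_one_of_coprime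
      (Nat.Coprime.symm ((D.hr.coprime_iff_not_dvd).2 hd)) D.hr.one_lt
    exact ⟨m, hm⟩
  have h1 := h 0 m
  rw [Nat.zero_add, ← Nat.mod_add_div (d * m) D.r, hm, hr] at h1
  exact h1

theorem exists_fixed (N : Subgroup T) (hN : ∀ x ∈ N, D.σ x ∈ N) {t : T} (h : t⁻¹ * D.σ t ∈ N) :
    ∃ c, D.σ c = c ∧ t⁻¹ * c ∈ N := by
  haveI := Fact.mk D.hp
  have hord : orderOf D.σ ∣ D.r := orderOf_dvd_of_pow_eq_one D.hσ
  have hpow : ∀ j : ℕ, ∀ x ∈ N, (D.σ ^ j) x ∈ N := fun j => by
    induction j with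
    | zero => exact fun x hx => hx
    | succ j ih =>
      intro x hx
      rw [show j + 1 = 1 + j by omega, D.σ_pow_add, pow_one]
      exact hN _ (ih x hx)
  have hmem : ∀ a : Subgroup.zpowers D.σ, ∃ j : ℕ, (a : MulAut T) = D.σ ^ j := by
    intro a
    obtain ⟨j, hj⟩ := Submonoid.mem_powers_iff _ _ |>.1
      ((isOfFinOrder_iff_pow_eq_one.2 ⟨D.r, D.hr.pos, D.hσ⟩).mem_powers_iff_mem_zpowers.2 a.2)
    exact ⟨j, hj.symm⟩
  haveI : Finite (Subgroup.zpowers D.σ) := Nat.finite_of_card_ne_zero <| by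
    rw [Nat.card_zpowers]
    exact fun h0 => D.hr.ne_zero (Nat.eq_zero_of_zero_dvd (h0 ▸ hord))
  have hcop : (Nat.card (Subgroup.zpowers D.σ)).Coprime (Nat.card N) := by
    rw [Nat.card_zpowers]
    obtain ⟨n, hn⟩ := IsPGroup.iff_card.1 (D.hT.to_subgroup N)
    rw [hn]
    exact Nat.Coprime.coprime_dvd_left hord (((Nat.coprime_primes D.hr D.hp).2 (Ne.symm D.hpr)).pow_right n)
  have hfix : ∀ a : Subgroup.zpowers D.σ, t⁻¹ * a • t ∈ N := by
    intro a
    obtain ⟨j, hj⟩ := hmem a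
    show t⁻¹ * (a : MulAut T) t ∈ N
    rw [hj]
    clear hj
    induction j with
    | zero => simp
    | succ j ih =>
      rw [show j + 1 = 1 + j by omega, D.σ_pow_add, pow_one]
      rw [show t⁻¹ * D.σ ((D.σ ^ j) t) = (t⁻¹ * D.σ t) * D.σ (t⁻¹ * (D.σ ^ j) t) by
        rw [map_mul, map_inv]; group]
      exact N.mul_mem h (hN _ ih)
  letI : CommGroup (Subgroup.zpowers D.σ) := IsCyclic.commGroup
  haveI : Group.IsSolvable (Subgroup.zpowers D.σ) := inferInstance
  obtain ⟨c, hc, hc'⟩ := CfsgLib.Coprime.exists_fixed_mem_coset_of_isSolvable N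
    (fun a x hx => by
      obtain ⟨j, hj⟩ := hmem a
      show (a : MulAut T) x ∈ N
      rw [hj]; exact hpow j x hx) hcop t hfix
  exact ⟨c, hc ⟨D.σ, Subgroup.mem_zpowers _⟩, hc'⟩

variable {D} {χ : T → k}

theorem IsComp.comp_pow (h : D.IsComp χ) (j : ℕ) : D.IsComp (fun t => χ ((D.σ ^ j) t)) := by
  have hj : (D.σ ^ (D.r * j - j)).symm = D.σ ^ j := by
    refine MulEquiv.ext fun t => ?_
    refine (MulEquiv.symm_apply_eq _).2 ?_
    rw [← D.σ_pow_add, show D.r * j - j + j = D.r * j by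
      have := Nat.le_mul_of_pos_left j D.hr.pos; omega, D.σ_pow_r]
  have := h.transport (D.σ ^ (D.r * j - j)) (fun a ha => by rw [hj]; exact D.σ_pow_mem ha j)
    (D.Se (D.r * j - j)) (fun t v => D.compat_pow _ t v)
  rwa [hj] at this

theorem proj_pow (h : D.IsComp χ) (j : ℕ) (v : X) :
    D.proj χ ((D.S ^ j) v) = (D.S ^ j) (D.proj (fun t => χ ((D.σ ^ j) t)) v) := by
  have := D.proj_transport (D.σ ^ j) (D.Se j) (fun t v => D.compat_pow _ t v)
    (fun t => χ ((D.σ ^ j) t)) v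
  simpa [Se_apply] using this

theorem proj_S_fixed (h : D.IsComp χ) (hχ : ∀ t, χ (D.σ t) = χ t) (v : X) :
    D.proj χ (D.S v) = D.S (D.proj χ v) := by
  have := D.proj_pow h 1 v
  simpa [hχ] using this

theorem pow_fixed_char (hχ : ∀ t, χ (D.σ t) = χ t) (j : ℕ) (t : T) : χ ((D.σ ^ j) t) = χ t := by
  induction j with
  | zero => rfl
  | succ j ih =>
    rw [show j + 1 = 1 + j by omega, D.σ_pow_add, pow_one, hχ, ih]

theorem proj_av_fixed (h : D.IsComp χ) (hχ : ∀ t, χ (D.σ t) = χ t) (v : X) :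
    D.proj χ (D.av v) = D.av (D.proj χ v) := by
  rw [av_apply, av_apply, map_sum]
  refine Finset.sum_congr rfl fun j _ => ?_
  rw [D.proj_pow h]
  simp [pow_fixed_char hχ]

/-- The elements acting by scalars on all translates of a part. -/
def IsComp.z0 (h : D.IsComp χ) : Subgroup T :=
  ⨅ j : ℕ, h.zsub.comap (D.σ ^ j).toMonoidHom

theorem IsComp.mem_z0 (h : D.IsComp χ) {w : T} : w ∈ h.z0 ↔ ∀ j : ℕ, χ ((D.σ ^ j) w) ≠ 0 := by
  simp [z0, h.mem_zsub]

theorem IsComp.A_le_z0 (h : D.IsComp χ) : D.A ≤ h.z0 :=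
  fun _ ha => h.mem_z0.2 fun j => h.hA _ (D.σ_pow_mem ha j)

theorem IsComp.z0_pow_mem (h : D.IsComp χ) {w : T} (hw : w ∈ h.z0) (i : ℕ) : (D.σ ^ i) w ∈ h.z0 :=
  h.mem_z0.2 fun j => by rw [← D.σ_pow_add]; exact h.mem_z0.1 hw _

/-- The character of the `j`-th translate on the common scalar subgroup. -/
noncomputable def IsComp.hom (h : D.IsComp χ) (j : ℕ) : h.z0 →* kˣ where
  toFun w := Units.mk0 (χ ((D.σ ^ j) (w : T))) (h.mem_z0.1 w.2 j)
  map_one' := Units.ext (by simp [h.one])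
  map_mul' a b := Units.ext (by simp [h.mul _ _ (h.mem_z0.1 a.2 j)])

theorem IsComp.eq_fun {ψ : T → k} (h : D.IsComp χ) (h' : D.IsComp ψ) {N : Subgroup T} (hA : D.A ≤ N)
    (hN : h.zsub ≤ N) (heq : ∀ z ∈ N, χ z = ψ z) : χ = ψ := by
  have hsupp : ∀ z, χ z ≠ 0 ↔ ψ z ≠ 0 := fun z => by
    rw [h.supp, h'.supp]
    exact forall_congr' fun t => by rw [heq _ (hA (D.hTA z t))]
  funext z
  by_cases hz : χ z = 0
  · rw [hz]
    by_contra hne
    exact (hsupp z).2 (Ne.symm hne) hz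
  · exact heq z (hN hz)

theorem IsComp.fixed_of_hom_eq (h : D.IsComp χ) {j j' : ℕ} (hjj : j < j') (hj' : j' < D.r)
    (heq : h.hom j = h.hom j') : ∀ t, χ (D.σ t) = χ t := by
  have h1 : ∀ w ∈ h.z0, χ (D.σ w) = χ w := by
    intro w hw
    suffices h' : χ ((D.σ ^ 1) w) = χ ((D.σ ^ 0) w) by simpa using h'
    refine D.eq_of_pow_eq (fun i => χ ((D.σ ^ i) w)) (d := j' - j)
      (fun hd => by have := Nat.le_of_dvd (by omega) hd; omega) (fun i => ?_)
      (fun i m => by rw [D.σ_pow_add, D.σ_pow_r])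
    have hmem := h.z0_pow_mem hw (i + D.r * j - j)
    have := congrArg Units.val (DFunLike.congr_fun heq ⟨_, hmem⟩)
    simp only [IsComp.hom, MonoidHom.coe_mk, OneHom.coe_mk, Units.val_mk0, ← D.σ_pow_add] at this
    have hle : j ≤ D.r * j := Nat.le_mul_of_pos_left _ D.hr.pos
    rw [show j + (i + D.r * j - j) = i + D.r * j by omega,
      show j' + (i + D.r * j - j) = (i + (j' - j)) + D.r * j by omega, D.σ_pow_add, D.σ_pow_r,
      D.σ_pow_add, D.σ_pow_r] at this
    exact this.symm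
  -- hence the support is invariant
  have h2 : ∀ z, χ z ≠ 0 → χ (D.σ z) ≠ 0 := by
    intro z hz
    refine (h.supp _).2 fun t => ?_
    obtain ⟨t, rfl⟩ := D.σ.surjective t
    rw [← map_commutatorElement, h1 _ (h.A_le_z0 (D.hTA z t))]
    exact h.comm_of_supp z hz t
  have h3 : h.zsub ≤ h.z0 := fun z hz => h.mem_z0.2 fun i => by
    induction i with
    | zero => exact hz
    | succ i ih =>
      rw [show i + 1 = 1 + i by omega, D.σ_pow_add, pow_one]
      exact h2 _ ih
  have heq' : (fun t => χ ((D.σ ^ 1) t)) = χ := by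
    refine IsComp.eq_fun (h.comp_pow 1) h (N := h.z0) h.A_le_z0 (fun z hz => ?_)
      (fun z hz => by rw [pow_one]; exact h1 z hz)
    have hz' : χ ((D.σ ^ 1) z) ≠ 0 := hz
    have := h.z0_pow_mem (h3 hz') (D.r - 1)
    rwa [← D.σ_pow_add, show D.r - 1 + 1 = D.r * 1 by have := D.hr.one_lt; omega, D.σ_pow_r] at this
  intro t
  have := congrFun heq' t
  rwa [pow_one] at this

theorem IsComp.hom_injective (h : D.IsComp χ) (hmv : ∃ t, χ (D.σ t) ≠ χ t) :
    Function.Injective fun j : Fin D.r => h.hom j := by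
  intro a b hab
  by_contra hne
  obtain ⟨t, ht⟩ := hmv
  rcases lt_or_gt_of_ne (Fin.val_ne_of_ne hne) with hlt | hlt
  · exact ht (h.fixed_of_hom_eq hlt b.2 hab t)
  · exact ht (h.fixed_of_hom_eq hlt a.2 hab.symm t)

variable (D) in
/-- An invariant spanning set. -/
structure Spans (B : Set X) : Prop where
  inv : ∀ t, ∀ f ∈ B, D.ρ t f ∈ B
  span : Submodule.span k B = ⊤

variable {B : Set X}

/-- Semi-invariant maps killing the averages of the moved elements vanish. -/
theorem key (hB : D.Spans B) (W : Subgroup T) (hW : ∀ w ∈ W, ∀ i : ℕ, (D.σ ^ i) w ∈ W)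
    {Y : Type*} [AddCommGroup Y] [Module k Y] {ι₀ : Type*} [Fintype ι₀] (hι : Fintype.card ι₀ ≤ 2)
    (η : ι₀ → (W →* kˣ))
    (hinj : Function.Injective fun oj : ι₀ × Fin D.r =>
      fun w : W => η oj.1 ⟨(D.σ ^ (oj.2 : ℕ)) w, hW _ w.2 _⟩)
    (L : ι₀ → (X →ₗ[k] Y)) (hL : ∀ o (w : W) v, L o (D.ρ w v) = ((η o w : kˣ) : k) • L o v)
    (hkill : ∀ g ∈ B, D.S g ≠ g → ∑ o, L o (D.av g) = 0) : ∀ o, L o = 0 := by
  classical
  haveI := Fact.mk D.hp
  let χ : ι₀ × Fin D.r → (W →* kˣ) := fun oj =>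
    { toFun := fun w => η oj.1 ⟨(D.σ ^ (oj.2 : ℕ)) w, hW _ w.2 _⟩
      map_one' := by
        rw [show (⟨(D.σ ^ (oj.2 : ℕ)) ((1 : W) : T), hW _ (1 : W).2 _⟩ : W) = 1 from
          Subtype.ext (map_one _), map_one]
      map_mul' := fun a b => by
        rw [← map_mul]; congr 1; exact Subtype.ext (map_mul _ _ _) }
  have hexp : ∀ (f : X) (w : W), ∑ o, L o (D.av (D.ρ w f)) =
      ∑ oj : ι₀ × Fin D.r, ((χ oj w : kˣ) : k) • L oj.1 ((D.S ^ (oj.2 : ℕ)) f) := by
    intro f w
    rw [Fintype.sum_prod_type]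
    refine Finset.sum_congr rfl fun o _ => ?_
    rw [av_apply, map_sum, Finset.sum_range]
    refine Finset.sum_congr rfl fun j _ => ?_
    rw [D.compat_pow]
    exact hL o ⟨(D.σ ^ (j : ℕ)) w, hW _ w.2 _⟩ _
  have hfix : ∀ f ∈ B, D.S f = f → ∀ o, L o f = 0 := by
    intro f hf hSf o₁
    by_contra ho₁
    let χ' : {o // L o f ≠ 0} × Fin D.r → (W →* kˣ) := fun oj => χ (oj.1.1, oj.2)
    let A₀ : Subgroup W := ⨅ (o : {o // L o f ≠ 0}) (j : Fin D.r) (j' : Fin D.r),
      MonoidHom.eqLocus (χ' (o, j)) (χ' (o, j'))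
    have h := coeff_eq_zero_of_supported D.hp D.hr D.hpr (D.hT.to_subgroup W) D.hkp χ'
      (fun a b hab => by
        have := hinj (a₁ := (a.1.1, a.2)) (a₂ := (b.1.1, b.2))
          (funext fun w => DFunLike.congr_fun hab w)
        simp only [Prod.mk.injEq] at this
        exact Prod.ext (Subtype.ext this.1) this.2)
      A₀ (fun o j j' w hw => by
        simp only [A₀, Subgroup.mem_iInf] at hw
        exact hw o j j')
      (fun oj => L oj.1.1 f) (fun w hw => ?_)
      ((Fintype.card_subtype_le _).trans hι)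
    · exact ho₁ (congrFun h (⟨o₁, ho₁⟩, ⟨0, D.hr.pos⟩))
    have hnf : D.S (D.ρ w f) ≠ D.ρ w f := by
      intro hfx
      apply hw
      simp only [A₀, Subgroup.mem_iInf]
      have hj : ∀ (o : {o // L o f ≠ 0}) (j : Fin D.r), ((χ' (o, j) w : kˣ) : k) = η o.1 w := by
        intro o j
        have h1 := congrArg (L o.1) (D.pow_S_of_fixed hfx j)
        rw [D.compat_pow, D.pow_S_of_fixed hSf] at h1
        rw [show L o.1 (D.ρ ((D.σ ^ (j : ℕ)) w) f) = ((χ' (o, j) w : kˣ) : k) • L o.1 f from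
          hL o.1 ⟨_, hW _ w.2 _⟩ f, hL] at h1
        exact smul_left_injective k o.2 h1
      exact fun o j j' => Units.ext ((hj o j).trans (hj o j').symm)
    have h1 := hkill _ (hB.inv _ f hf) hnf
    rw [hexp, Fintype.sum_prod_type, ← Fintype.sum_subtype_add_sum_subtype (fun o => L o f ≠ 0)] at h1
    rw [Fintype.sum_prod_type]
    refine Eq.trans ?_ h1
    rw [Finset.sum_eq_zero (s := (Finset.univ : Finset {o // ¬ L o f ≠ 0})), add_zero]
    · refine Finset.sum_congr rfl fun o _ => Finset.sum_congr rfl fun j _ => ?_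
      rw [D.pow_S_of_fixed hSf]
    · intro o _
      refine Finset.sum_eq_zero fun j _ => ?_
      rw [D.pow_S_of_fixed hSf, not_not.1 o.2, smul_zero]
  intro o
  apply LinearMap.ext
  intro v
  refine Submodule.span_induction (p := fun v _ => L o v = 0) (fun f hf => ?_) (map_zero _)
    (fun a b _ _ ha hb => by rw [map_add, ha, hb, add_zero]) (fun c a _ ha => by rw [map_smul, ha, smul_zero])
    (show v ∈ Submodule.span k B by rw [hB.span]; trivial)
  by_cases hF : ∃ a : W, D.S (D.ρ a f) = D.ρ a f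
  · obtain ⟨a, ha⟩ := hF
    have h1 := hL o a f
    rw [hfix _ (hB.inv _ f hf) ha o] at h1
    exact (smul_eq_zero.1 h1.symm).resolve_left (Units.ne_zero _)
  · push Not at hF
    let A₀ : Subgroup W := ⊥
    have h := coeff_eq_zero_of_supported D.hp D.hr D.hpr (D.hT.to_subgroup W) D.hkp χ
      (fun a b hab => hinj (funext fun w => DFunLike.congr_fun hab w))
      A₀ (fun o j j' w hw => by rw [Subgroup.mem_bot.1 hw, map_one, map_one])
      (fun oj => L oj.1 ((D.S ^ (oj.2 : ℕ)) f)) (fun w _ => by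
        rw [← hexp]; exact hkill _ (hB.inv _ f hf) (hF w)) hι
    exact congrFun h (o, ⟨0, D.hr.pos⟩)

/-- The averages of the moved elements cover every moved part. -/
theorem moved_eq_zero (hB : D.Spans B) (h : D.IsComp χ) (hmv : ∃ t, χ (D.σ t) ≠ χ t)
    {Y : Type*} [AddCommGroup Y] [Module k Y] (L : X →ₗ[k] Y)
    (hkill : ∀ g ∈ B, D.S g ≠ g → L (D.proj χ (D.av g)) = 0) {v : X} (hv : v ∈ D.space χ) : L v = 0 := by
  have := key hB h.z0 (fun w hw i => h.z0_pow_mem hw i) (ι₀ := Unit) (by simp) (fun _ => h.hom 0)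
    (fun a b hab => ?_) (fun _ => L.comp (D.proj χ)) (fun o w v => ?_)
    (fun g hg hgS => by simpa using hkill g hg hgS) ()
  · have h2 := LinearMap.congr_fun this v
    rwa [LinearMap.comp_apply, h.proj_of_mem hv] at h2
  · refine Prod.ext rfl (h.hom_injective hmv (MonoidHom.ext fun w => ?_))
    exact congrFun hab w
  · rw [LinearMap.comp_apply, h.proj_ρ, h.proj_mem v w (h.mem_z0.1 w.2 0), map_smul]
    rfl

end Sys

end CfsgLib.Turull
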