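import Cfsg.Agent.Turull.Chain
import Cfsg.Agent.Coprime.Sylow
import Mathlib.GroupTheory.Frattini

/-!
Towers of subgroups of prime power order: kernels of the successive actions and their symmetries.
-/

set_option autoImplicit false
set_option linter.style.haveILetI false
set_option linter.unusedSectionVars false

namespace CfsgLib.Turull

open Subgroup
open scoped commutatorElement
open CfsgLib.Coprime (IsInvariant)

variable {G : Type*} [Group G]

theorem mem_normalizer_iff_of_equiv (f : G ≃* G) {K : Subgroup G} (hK : ∀ x, x ∈ K ↔ f x ∈ K) (x : G) :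
    x ∈ normalizer (K : Set G) ↔ f x ∈ normalizer (K : Set G) := by
  rw [mem_normalizer_iff, mem_normalizer_iff]
  constructor
  · intro h y
    obtain ⟨z, rfl⟩ := f.surjective y
    rw [← map_inv, ← map_mul, ← map_mul, ← hK, ← hK]
    exact h z
  · intro h z
    have := h (f z)
    rwa [← map_inv, ← map_mul, ← map_mul, ← hK, ← hK] at this

theorem mem_actKer_iff_of_equiv (f : G ≃* G) {Q K : Subgroup G} (hQ : ∀ x, x ∈ Q ↔ f x ∈ Q)
    (hK : ∀ x, x ∈ K ↔ f x ∈ K) (x : G) : x ∈ actKer Q K ↔ f x ∈ actKer Q K := by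
  rw [mem_actKer, mem_actKer, ← mem_normalizer_iff_of_equiv f hK x]
  refine and_congr_right fun _ => ⟨fun h y hy => ?_, fun h y hy => ?_⟩
  · obtain ⟨z, rfl⟩ := f.surjective y
    rw [show disp (f x) (f z) = f (disp x z) from (map_disp f.toMonoidHom x z).symm, ← hK]
    exact h z ((hQ z).2 hy)
  · rw [hK, show f (disp x y) = disp (f x) (f y) from map_disp f.toMonoidHom x y]
    exact h (f y) ((hQ y).1 hy)

theorem mem_fixer_iff_of_equiv (f : G ≃* G) {Q K : Subgroup G} (hQ : ∀ x, x ∈ Q ↔ f x ∈ Q)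
    (hK : ∀ x, x ∈ K ↔ f x ∈ K) (y : G) : y ∈ fixer Q K ↔ f y ∈ fixer Q K := by
  rw [mem_fixer, mem_fixer, ← mem_normalizer_iff_of_equiv f hK y]
  refine and_congr_right fun _ => ⟨fun h x hx => ?_, fun h x hx => ?_⟩
  · obtain ⟨z, rfl⟩ := f.surjective x
    rw [show disp (f z) (f y) = f (disp z y) from (map_disp f.toMonoidHom z y).symm, ← hK]
    exact h z ((hQ z).2 hx)
  · rw [hK, show f (disp x y) = disp (f x) (f y) from map_disp f.toMonoidHom x y]
    exact h (f x) ((hQ x).1 hx)

/-- Conjugation by a normalizing element preserves membership. -/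
theorem mem_iff_conj_of_mem_normalizer {K : Subgroup G} {g : G} (hg : g ∈ normalizer (K : Set G)) (x : G) :
    x ∈ K ↔ MulAut.conj g x ∈ K := mem_normalizer_iff.1 hg x

theorem mem_normalizer_of_conj_iff {K : Subgroup G} {g : G} (h : ∀ x, x ∈ K ↔ MulAut.conj g x ∈ K) :
    g ∈ normalizer (K : Set G) := mem_normalizer_iff.2 h

theorem normalizer_actKer {Q K : Subgroup G} {g : G} (hQ : g ∈ normalizer (Q : Set G))
    (hK : g ∈ normalizer (K : Set G)) : g ∈ normalizer (actKer Q K : Set G) :=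
  mem_normalizer_of_conj_iff (mem_actKer_iff_of_equiv (MulAut.conj g) (mem_iff_conj_of_mem_normalizer hQ)
    (mem_iff_conj_of_mem_normalizer hK))

theorem normalizer_fixer {Q K : Subgroup G} {g : G} (hQ : g ∈ normalizer (Q : Set G))
    (hK : g ∈ normalizer (K : Set G)) : g ∈ normalizer (fixer Q K : Set G) :=
  mem_normalizer_of_conj_iff (mem_fixer_iff_of_equiv (MulAut.conj g) (mem_iff_conj_of_mem_normalizer hQ)
    (mem_iff_conj_of_mem_normalizer hK))

/-- The kernels from level `i`, `d` steps below the top. -/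
def kerFrom (P : ℕ → Subgroup G) : ℕ → ℕ → Subgroup G
  | 0, _ => ⊥
  | d + 1, i => P i ⊓ actKer (P (i + 1)) (kerFrom P d (i + 1))

/-- The kernel at level `i` of a tower of `N` levels. -/
def ker (N : ℕ) (P : ℕ → Subgroup G) (i : ℕ) : Subgroup G := kerFrom P (N - 1 - i) i

variable {N : ℕ} {P : ℕ → Subgroup G}

theorem ker_top {i : ℕ} (h : i + 1 = N) : ker N P i = ⊥ := by
  rw [ker, show N - 1 - i = 0 by omega]
  rfl

theorem ker_succ {i : ℕ} (h : i + 1 < N) :
    ker N P i = P i ⊓ actKer (P (i + 1)) (ker N P (i + 1)) := by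
  rw [ker, ker, show N - 1 - i = (N - 1 - (i + 1)) + 1 by omega]
  rfl

theorem ker_le {i : ℕ} (h : i < N) : ker N P i ≤ P i := by
  rcases Nat.lt_or_ge (i + 1) N with h' | h'
  · rw [ker_succ h']; exact inf_le_left
  · rw [ker_top (by omega)]; exact bot_le

theorem mem_ker_of_disp {i : ℕ} (h : i + 1 < N) {x : G} (hx : x ∈ P i)
    (hn : x ∈ normalizer (ker N P (i + 1) : Set G))
    (hd : ∀ y ∈ P (i + 1), disp x y ∈ ker N P (i + 1)) : x ∈ ker N P i := by
  rw [ker_succ h]
  exact ⟨hx, hn, hd⟩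

theorem disp_mem_ker {i : ℕ} (h : i + 1 < N) {x : G} (hx : x ∈ ker N P i) {y : G} (hy : y ∈ P (i + 1)) :
    disp x y ∈ ker N P (i + 1) := by
  rw [ker_succ h] at hx
  exact hx.2.2 y hy

theorem mem_ker_iff_of_equiv (f : G ≃* G) {i : ℕ} (hi : i < N)
    (hP : ∀ k, i ≤ k → k < N → ∀ x, x ∈ P k ↔ f x ∈ P k) (x : G) :
    x ∈ ker N P i ↔ f x ∈ ker N P i := by
  obtain ⟨d, hd⟩ : ∃ d, i + d + 1 = N := ⟨N - 1 - i, by omega⟩
  induction d generalizing i x with
  | zero => simp [ker_top (P := P) (show i + 1 = N by omega)]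
  | succ d ih =>
    have hi1 : i + 1 < N := by omega
    rw [ker_succ hi1, Subgroup.mem_inf, Subgroup.mem_inf]
    exact and_congr (hP i le_rfl hi x) (mem_actKer_iff_of_equiv f (hP (i + 1) (by omega) hi1)
      (fun y => ih hi1 (fun k hk => hP k (by omega)) y (by omega)) x)

theorem normalizer_ker {i : ℕ} (hi : i < N) {g : G}
    (hg : ∀ k, i ≤ k → k < N → g ∈ normalizer (P k : Set G)) : g ∈ normalizer (ker N P i : Set G) :=
  mem_normalizer_of_conj_iff (mem_ker_iff_of_equiv (MulAut.conj g) hi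
    fun k hk hk' => mem_iff_conj_of_mem_normalizer (hg k hk hk'))

theorem ker_congr {Q : ℕ → Subgroup G} {i : ℕ} (hi : i < N) (h : ∀ k, i ≤ k → k < N → P k = Q k) :
    ker N P i = ker N Q i := by
  obtain ⟨d, hd⟩ : ∃ d, i + d + 1 = N := ⟨N - 1 - i, by omega⟩
  induction d generalizing i with
  | zero => rw [ker_top (show i + 1 = N by omega), ker_top (show i + 1 = N by omega)]
  | succ d ih =>
    have hi1 : i + 1 < N := by omega
    rw [ker_succ hi1, ker_succ hi1, h i le_rfl hi, h (i + 1) (by omega) hi1,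
      ih hi1 (fun k hk => h k (by omega)) (by omega)]

section Action

variable (A : Type*) [Group A] [MulDistribMulAction A G]

/-- A tower of `N` levels. -/
structure IsTower (N : ℕ) (P : ℕ → Subgroup G) (p : ℕ → ℕ) : Prop where
  prime : ∀ i, i < N → (p i).Prime
  pgroup : ∀ i, i < N → IsPGroup (p i) (P i)
  inv : ∀ i, i < N → IsInvariant A (P i)
  norm : ∀ i j, i < j → j < N → P i ≤ normalizer (P j : Set G)
  adj : ∀ i, i + 1 < N → p i ≠ p (i + 1)
  bot : ¬ P 0 ≤ ker N P 0

variable {A} {p : ℕ → ℕ}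

theorem smul_mem_iff_of_invariant {K : Subgroup G} (hK : IsInvariant A K) (a : A) (x : G) :
    x ∈ K ↔ MulDistribMulAction.toMulEquiv G a x ∈ K :=
  (CfsgLib.Coprime.smul_subgroup_mem_iff hK a x).symm

theorem isInvariant_normalizer {K : Subgroup G} (hK : IsInvariant A K) :
    IsInvariant A (normalizer (K : Set G)) :=
  fun a x hx => (mem_normalizer_iff_of_equiv (MulDistribMulAction.toMulEquiv G a)
    (smul_mem_iff_of_invariant hK a) x).1 hx

theorem isInvariant_fixer {Q K : Subgroup G} (hQ : IsInvariant A Q) (hK : IsInvariant A K) :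
    IsInvariant A (fixer Q K) :=
  fun a x hx => (mem_fixer_iff_of_equiv (MulDistribMulAction.toMulEquiv G a)
    (smul_mem_iff_of_invariant hQ a) (smul_mem_iff_of_invariant hK a) x).1 hx

theorem isInvariant_commutator {H K : Subgroup G} (hH : IsInvariant A H) (hK : IsInvariant A K) :
    IsInvariant A ⁅H, K⁆ := by
  intro a n hn
  have h : ⁅H, K⁆.map (MulDistribMulAction.toMulEquiv G a).toMonoidHom ≤ ⁅H, K⁆ := by
    rw [map_commutator]
    refine commutator_mono ?_ ?_
    · rintro _ ⟨x, hx, rfl⟩; exact hH a x hx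
    · rintro _ ⟨x, hx, rfl⟩; exact hK a x hx
  exact h (mem_map_of_mem _ hn)

theorem normalizer_commutator {H K : Subgroup G} {g : G} (hH : g ∈ normalizer (H : Set G))
    (hK : g ∈ normalizer (K : Set G)) : g ∈ normalizer ((⁅H, K⁆ : Subgroup G) : Set G) := by
  have key : ∀ L : Subgroup G, g ∈ normalizer (L : Set G) → L.map (MulAut.conj g).toMonoidHom = L := by
    intro L hL
    refine le_antisymm ?_ fun x hx => ⟨g⁻¹ * x * g, (mem_normalizer_iff''.1 hL x).1 hx, by simp [mul_assoc]⟩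
    rintro _ ⟨x, hx, rfl⟩
    exact (mem_normalizer_iff.1 hL x).1 hx
  have h : ⁅H, K⁆.map (MulAut.conj g).toMonoidHom = ⁅H, K⁆ := by
    rw [map_commutator, key H hH, key K hK]
  refine mem_normalizer_iff.2 fun x => ⟨fun hx => h.le (mem_map_of_mem _ hx), fun hx => ?_⟩
  obtain ⟨y, hy, hyx⟩ := h.ge hx
  exact (MulAut.conj g).injective hyx ▸ hy

namespace IsTower

variable (hT : IsTower A N P p)
include hT

theorem le_normalizer {i j : ℕ} (hij : i ≤ j) (hj : j < N) : P i ≤ normalizer (P j : Set G) := by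
  rcases hij.eq_or_lt with rfl | h
  · exact Subgroup.le_normalizer
  · exact hT.norm i j h hj

theorem le_normalizer_ker {i j : ℕ} (hij : i ≤ j) (hj : j < N) :
    P i ≤ normalizer (ker N P j : Set G) :=
  fun _ hg => normalizer_ker hj fun _ hk hk' => hT.le_normalizer (hij.trans hk) hk' hg

theorem isInvariant_ker {i : ℕ} (hi : i < N) : IsInvariant A (ker N P i) :=
  fun a x hx => (mem_ker_iff_of_equiv (MulDistribMulAction.toMulEquiv G a) hi
    (fun k _ hk => smul_mem_iff_of_invariant (hT.inv k hk) a) x).1 hx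

theorem coprime_card [Finite G] {i : ℕ} (hi : i + 1 < N) :
    (Nat.card (P i)).Coprime (Nat.card (P (i + 1))) :=
  coprime_card_of_isPGroup (hT.prime i (by omega)) (hT.prime _ hi) (hT.adj i hi) (hT.pgroup i (by omega))
    (hT.pgroup _ hi)

theorem mem_ker {i : ℕ} (h : i + 1 < N) {x : G} (hx : x ∈ P i)
    (hd : ∀ y ∈ P (i + 1), disp x y ∈ ker N P (i + 1)) : x ∈ ker N P i :=
  mem_ker_of_disp h hx (hT.le_normalizer_ker (Nat.le_succ i) h hx) hd

end IsTower

end Action

end CfsgLib.Turull
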