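import Cfsg.Agent.Turull.TowerMin

/-!
In a minimal tower the levels centralized by the operators form an initial segment and are fixed pointwise.
-/

set_option autoImplicit false
set_option linter.style.haveILetI false
set_option linter.unusedSectionVars false

namespace CfsgLib.Turull

open Subgroup
open scoped commutatorElement
open CfsgLib.Coprime (IsInvariant)

variable {G : Type*} [Group G] [Finite G] {A : Type*} [Group A] [MulDistribMulAction A G]
variable {N : ℕ} {P : ℕ → Subgroup G} {p : ℕ → ℕ}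

variable (A) in
/-- The operators are trivial on a level modulo its lower subgroup. -/
def Cen (N : ℕ) (P : ℕ → Subgroup G) (i : ℕ) : Prop :=
  ∀ (a : A), ∀ y ∈ P i, y⁻¹ * a • y ∈ low N P i

theorem smul_disp (a : A) (x y : G) : a • disp x y = disp (a • x) (a • y) :=
  map_disp (MulDistribMulAction.toMonoidHom G a) x y

namespace IsGood

variable (hP : IsGood A N P p)
include hP

theorem conj_mem_low {i : ℕ} (hi : i + 1 < N) {x l : G} (hx : x ∈ P i) (hl : l ∈ low N P (i + 1)) :
    x * l * x⁻¹ ∈ low N P (i + 1) :=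
  (mem_normalizer_iff.1 (hP.le_normalizer_low (Nat.lt_succ_self i) hi hx) l).1 hl

theorem cen_mod_ker_of_cen_succ {i : ℕ} (hi : i + 1 < N) (h : Cen A N P (i + 1)) (a : A) {x : G}
    (hx : x ∈ P i) : x⁻¹ * a • x ∈ ker N P i := by
  have hax : a • x ∈ P i := hP.tower.inv i (by omega) a x hx
  refine hP.mem_ker_of_low hi (mul_mem (inv_mem hx) hax) fun y hy => ?_
  set L := low N P (i + 1)
  have hz : a⁻¹ • y ∈ P (i + 1) := hP.tower.inv _ hi a⁻¹ y hy
  have h1 := h a⁻¹ y hy
  set l := y⁻¹ * a⁻¹ • y with hl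
  -- conjugation by `a • x` differs from conjugation by `x` inside the lower subgroup
  have h2 : (x * y * x⁻¹)⁻¹ * ((a • x) * y * (a • x)⁻¹) ∈ L := by
    have e : (a • x) * y * (a • x)⁻¹ = (a • (x * y * x⁻¹)) * a • (x * l * x⁻¹) := by
      rw [← smul_mul' (b₁ := x * y * x⁻¹)]
      have : x * y * x⁻¹ * (x * l * x⁻¹) = x * a⁻¹ • y * x⁻¹ := by rw [hl]; group
      rw [this, smul_mul', smul_mul', smul_inv', smul_inv_smul]
    rw [e, ← mul_assoc]
    exact mul_mem (h a _ ((mem_normalizer_iff.1 (hP.tower.norm i (i + 1) (by omega) hi hx) y).1 hy))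
      (hP.isInvariant_low hi a _ (hP.conj_mem_low hi hx h1))
  have e : disp (x⁻¹ * a • x) y =
      x⁻¹ * ((x * y * x⁻¹)⁻¹ * ((a • x) * y * (a • x)⁻¹)) * x⁻¹⁻¹ := by
    simp [disp, mul_assoc]
  rw [e]
  exact hP.conj_mem_low hi (inv_mem hx) h2

theorem cen_of_cen_succ {i : ℕ} (hi : i + 1 < N) (h : Cen A N P (i + 1)) : Cen A N P i :=
  fun a _ hx => hP.ker_le_low (by omega) (hP.cen_mod_ker_of_cen_succ hi h a hx)

theorem cen_of_le {i j : ℕ} (hij : i ≤ j) (hj : j < N) (h : Cen A N P j) : Cen A N P i := by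
  induction j with
  | zero => obtain rfl : i = 0 := by omega
            exact h
  | succ j ih =>
    rcases hij.eq_or_lt with rfl | h'
    · exact h
    · exact ih (by omega) (by omega) (hP.cen_of_cen_succ hj h)

theorem cen_mod_ker {i : ℕ} (hi : i < N) (h : Cen A N P i) (a : A) {y : G} (hy : y ∈ P i) :
    y⁻¹ * a • y ∈ ker N P i := by
  cases i with
  | zero => exact h a y hy
  | succ i =>
    set K := ker N P (i + 1) with hK
    have hn1 := hP.tower.le_normalizer_ker (le_refl (i + 1)) hi
    have hn0 := hP.tower.le_normalizer_ker (Nat.le_succ i) hi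
    have hcent : ∀ z ∈ P (i + 1), ∀ l ∈ low N P (i + 1), l⁻¹ * z * l * z⁻¹ ∈ K := fun z hz l hl => by
      have := hP.commutator_low_le hi (commutator_mem_commutator hz (inv_mem hl))
      rw [commutatorElement_def, inv_inv] at this
      have h2 := inv_mem this
      simpa [mul_assoc] using h2
    let M : Subgroup G :=
      { carrier := {y | y ∈ P (i + 1) ∧ y⁻¹ * a • y ∈ K}
        one_mem' := ⟨one_mem _, by simp⟩
        mul_mem' := by
          rintro b c ⟨hb, hb'⟩ ⟨hc, hc'⟩
          refine ⟨mul_mem hb hc, ?_⟩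
          rw [smul_mul', show (b * c)⁻¹ * (a • b * a • c) =
            c⁻¹ * (b⁻¹ * a • b) * c * (c⁻¹ * a • c) by group]
          exact mul_mem ((mem_normalizer_iff''.1 (hn1 hc) _).1 hb') hc'
        inv_mem' := by
          rintro b ⟨hb, hb'⟩
          refine ⟨inv_mem hb, ?_⟩
          rw [smul_inv', show b⁻¹⁻¹ * (a • b)⁻¹ = b * (b⁻¹ * a • b)⁻¹ * b⁻¹ by group]
          exact (mem_normalizer_iff.1 (hn1 hb) _).1 (inv_mem hb') }
    have hgen : P (i + 1) ≤ M := by
      refine (hP.comm hi).symm.le.trans (commutator_le.2 fun z hz x hx => ?_)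
      rw [show ⁅z, x⁆ = disp x z⁻¹ by rw [disp_eq_commutator, inv_inv]]
      have hz' := inv_mem hz
      generalize z⁻¹ = w at hz' ⊢
      have hPn := hP.tower.norm i (i + 1) (by omega) hi
      refine ⟨mul_mem (inv_mem hz') ((mem_normalizer_iff.1 (hPn hx) w).1 hz'), ?_⟩
      set k := x⁻¹ * a • x with hk
      have hkk : k ∈ ker N P i := hP.cen_mod_ker_of_cen_succ hi h a hx
      set l := w⁻¹ * a • w with hl
      have hlL : l ∈ low N P (i + 1) := h a w hz'
      have hxk : x * k ∈ P i := mul_mem hx (ker_le (by omega) hkk)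
      rw [smul_disp, show a • x = x * k by rw [hk]; group, show a • w = w * l by rw [hl]; group,
        disp_mul_right, disp_mul_left]
      set d := disp x w with hd
      set c := x * disp k w * x⁻¹ with hc
      have hcK : c ∈ K := (mem_normalizer_iff.1 (hn0 hx) _).1 (disp_mem_ker hi hkk hz')
      have hdP : d ∈ P (i + 1) := mul_mem (inv_mem hz') ((mem_normalizer_iff.1 (hPn hx) w).1 hz')
      rw [show d⁻¹ * (l⁻¹ * (d * c) * l * disp (x * k) l) =
        d⁻¹ * (l⁻¹ * d * l * d⁻¹) * d * (l⁻¹ * c * l) * disp (x * k) l by group]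
      refine mul_mem (mul_mem ?_ ?_) (hP.disp_low_mem hi hxk hlL)
      · exact (mem_normalizer_iff''.1 (hn1 hdP) _).1 (hcent d hdP l hlL)
      · exact (mem_normalizer_iff''.1 (hn1 (low_le hi hlL)) _).1 hcK
    exact (hgen hy).2

/-- **The centralized levels are fixed pointwise.** -/
theorem fixed_of_cen [Finite A] [Group.IsSolvable A] (hcop : (Nat.card A).Coprime (Nat.card G))
    {i : ℕ} (hi : i < N) (h : Cen A N P i) (a : A) {y : G} (hy : y ∈ P i) : a • y = y := by
  classical
  set F := FixedPoints.subgroup A G with hF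
  set Q : ℕ → Subgroup G := fun j => if j ≤ i then P j ⊓ F else P j with hQ
  have hQle : ∀ j, Q j ≤ P j := fun j => by
    simp only [hQ]
    split
    · exact inf_le_left
    · exact le_rfl
  -- every element of a level up to `i` is fixed modulo the kernel
  have hdec : ∀ j, j < N → ∀ y ∈ P j, ∃ q ∈ Q j, q⁻¹ * y ∈ ker N P j := by
    intro j hj y hy
    simp only [hQ]
    split
    next hji =>
      have hc : Cen A N P j := hP.cen_of_le hji hi h
      obtain ⟨c, hc', hcy⟩ := CfsgLib.Coprime.exists_fixed_mem_coset_of_isSolvable (ker N P j)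
        (hP.tower.isInvariant_ker hj) (hcop.coprime_dvd_right (card_subgroup_dvd_card _)) y
        (fun b => hP.cen_mod_ker hj hc b hy)
      refine ⟨c, Subgroup.mem_inf.2 ⟨?_, hc'⟩, by simpa using inv_mem hcy⟩
      have := mul_mem hy (ker_le hj hcy)
      rwa [mul_inv_cancel_left] at this
    next => exact ⟨y, hy, by simp⟩
  have hT : IsTower A N Q p := by
    refine ⟨hP.tower.prime, fun j hj => (hP.tower.pgroup j hj).to_le (hQle j), fun j hj => ?_,
      fun j l hjl hl => ?_, hP.tower.adj, fun h0 => hP.tower.bot ?_⟩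
    · simp only [hQ]
      split
      · exact (hP.tower.inv j hj).inf (CfsgLib.Coprime.isInvariant_fixedPoints A)
      · exact hP.tower.inv j hj
    · simp only [hQ]
      by_cases hli : l ≤ i
      · rw [if_pos hli, if_pos (by omega)]
        intro g hg
        refine mem_normalizer_of_conj_iff fun x => ?_
        rw [Subgroup.mem_inf, Subgroup.mem_inf,
          ← mem_iff_conj_of_mem_normalizer (hP.tower.norm j l hjl hl hg.1) x]
        refine and_congr_right fun _ => ⟨fun hx b => ?_, fun hx b => ?_⟩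
        · rw [MulAut.conj_apply, smul_mul', smul_mul', smul_inv', hg.2 b, hx b]
        · have := hx b
          rw [MulAut.conj_apply, smul_mul', smul_mul', smul_inv', hg.2 b] at this
          simpa using this
      · rw [if_neg hli]
        exact (hQle j).trans (hP.tower.norm j l hjl hl)
    · have key : ∀ d j, j + d + 1 = N → ker N Q j ≤ ker N P j := by
        intro d
        induction d with
        | zero => intro j hj; rw [ker_top (by omega)]; exact bot_le
        | succ d ihd =>
          intro j hj x hx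
          have hj1 : j + 1 < N := by omega
          have hxP : x ∈ P j := hQle j (ker_le (by omega) hx)
          refine hP.tower.mem_ker hj1 hxP fun y hy => ?_
          obtain ⟨q, hq, hk⟩ := hdec (j + 1) hj1 y hy
          rw [show y = q * (q⁻¹ * y) by group, disp_mul_right]
          have hn := hP.tower.le_normalizer_ker (le_refl (j + 1)) hj1
          refine mul_mem ((mem_normalizer_iff''.1 (hn (ker_le hj1 hk)) _).1
            (ihd (j + 1) (by omega) (disp_mem_ker hj1 hx hq))) ?_
          exact mul_mem (inv_mem hk) ((mem_normalizer_iff.1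
            (hP.tower.le_normalizer_ker (Nat.le_succ j) hj1 hxP) _).1 hk)
      intro y hy
      obtain ⟨q, hq, hk⟩ := hdec 0 (by omega) y hy
      rw [show y = q * (q⁻¹ * y) by group]
      exact mul_mem (key (N - 1) 0 (by omega) (h0 hq)) hk
  have := (hP.min Q hT (fun j _ => hQle j) i hi).ge hy
  simp only [hQ, le_refl, if_true] at this
  exact this.2 a

/-- If a level is abelian modulo its kernel, the lower subgroup is the kernel. -/
theorem low_le_ker_of_commutator_le {i : ℕ} (hi : i + 1 < N)
    (hab : ⁅P (i + 1), P (i + 1)⁆ ≤ ker N P (i + 1)) : low N P (i + 1) ≤ ker N P (i + 1) := by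
  classical
  intro y hy
  set K := ker N P (i + 1) with hK
  haveI hKn : (K.subgroupOf (P (i + 1))).Normal :=
    (normal_subgroupOf_iff_le_normalizer (ker_le hi)).2 (hP.tower.le_normalizer_ker le_rfl hi)
  set Qt := ↥(P (i + 1)) ⧸ K.subgroupOf (P (i + 1)) with hQt
  letI : CommGroup Qt :=
    { (inferInstance : Group Qt) with
      mul_comm := fun u v => by
        induction u using QuotientGroup.induction_on with
        | _ u =>
          induction v using QuotientGroup.induction_on with
          | _ v =>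
            rw [← QuotientGroup.mk_mul, ← QuotientGroup.mk_mul, QuotientGroup.eq, mem_subgroupOf]
            have := hab (commutator_mem_commutator (inv_mem v.2) (inv_mem u.2))
            simpa [commutatorElement_def, mul_assoc] using this }
  haveI : Fintype (P i) := Fintype.ofFinite _
  have hn := hP.tower.norm i (i + 1) (by omega) hi
  have hn0 := hP.tower.le_normalizer_ker (Nat.le_succ i) hi
  let c : P i → P (i + 1) → P (i + 1) := fun x z =>
    ⟨x * z * (x : G)⁻¹, (mem_normalizer_iff.1 (hn x.2) _).1 z.2⟩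
  let τ : P (i + 1) →* Qt :=
    { toFun := fun z => ∏ x : P i, ((c x z : P (i + 1)) : Qt)
      map_one' := Finset.prod_eq_one fun x _ => by
        rw [show c x 1 = 1 from Subtype.ext (by simp [c])]; rfl
      map_mul' := fun u v => by
        rw [← Finset.prod_mul_distrib]
        refine Finset.prod_congr rfl fun x _ => ?_
        rw [← QuotientGroup.mk_mul]
        congr 1
        exact Subtype.ext (by simp [c, mul_assoc]) }
  -- the norm kills the whole level
  have hτ : ∀ z ∈ P (i + 1), ∀ hz : z ∈ P (i + 1), τ ⟨z, hz⟩ = 1 := by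
    intro z hz'
    suffices h : P (i + 1) ≤ τ.ker.map (P (i + 1)).subtype by
      intro hz
      obtain ⟨w, hw, hwz⟩ := h hz'
      exact (Subtype.ext hwz : w = ⟨z, hz⟩) ▸ hw
    refine (hP.comm hi).symm.le.trans (commutator_le.2 fun u hu x hx => ?_)
    rw [show ⁅u, x⁆ = disp x u⁻¹ by rw [disp_eq_commutator, inv_inv]]
    refine ⟨⟨disp x u⁻¹, mul_mem (inv_mem (inv_mem hu)) ((mem_normalizer_iff.1 (hn hx) _).1 (inv_mem hu))⟩,
      ?_, rfl⟩
    show τ _ = 1
    rw [show (⟨disp x u⁻¹, _⟩ : P (i + 1)) =
      (⟨u⁻¹, inv_mem hu⟩)⁻¹ * c ⟨x, hx⟩ ⟨u⁻¹, inv_mem hu⟩ from Subtype.ext rfl, map_mul, map_inv,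
      inv_mul_eq_one]
    show (∏ w : P i, ((c w _ : P (i + 1)) : Qt)) = ∏ w : P i, ((c w _ : P (i + 1)) : Qt)
    symm
    refine Fintype.prod_equiv (Equiv.mulRight (⟨x, hx⟩ : P i)) _ _ fun w => ?_
    congr 1
    exact Subtype.ext (by simp [c, mul_assoc])
  have hy' := low_le hi hy
  have h1 := hτ y hy' hy'
  have h2 : τ ⟨y, hy'⟩ = ((⟨y, hy'⟩ : P (i + 1)) : Qt) ^ Fintype.card (P i) := by
    rw [← Finset.card_univ, ← Finset.prod_const]
    refine Finset.prod_congr rfl fun x _ => ?_
    rw [QuotientGroup.eq, mem_subgroupOf]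
    have h3 := hP.disp_low_mem hi x.2 hy
    have e : ((((c x ⟨y, hy'⟩)⁻¹ * ⟨y, hy'⟩ : P (i + 1))) : G) = (disp (x : G) y)⁻¹ := by
      simp [c, disp, mul_assoc]
    rw [e]
    exact inv_mem h3
  rw [h1, ← QuotientGroup.mk_pow, eq_comm, QuotientGroup.eq_one_iff, mem_subgroupOf,
    SubmonoidClass.coe_pow] at h2
  obtain ⟨m, hm⟩ := exists_pow_eq_self_of_coprime (x := y) (n := Fintype.card (P i)) (by
    refine Nat.Coprime.coprime_dvd_right ?_ ((Fintype.card_eq_nat_card).symm ▸ hP.tower.coprime_card hi)
    rw [← Subgroup.orderOf_mk _ hy']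
    exact orderOf_dvd_natCard _)
  exact hm ▸ pow_mem h2 m

end IsGood

end CfsgLib.Turull
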