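import Cfsg.Agent.Turull.TowerBasic
import Cfsg.Agent.Kinf.Leibniz
import Cfsg.Agent.Coprime.Sylow

/-!
Minimal towers: each level is the commutator with the level below, has a greatest invariant proper subgroup, and
the levels centralized by the operators modulo that subgroup are centralized outright.
-/

set_option autoImplicit false
set_option linter.style.haveILetI false
set_option linter.unusedSectionVars false

namespace CfsgLib.Turull

open Subgroup
open scoped commutatorElement
open CfsgLib.Coprime (IsInvariant)

variable {G : Type*} [Group G] [Finite G] {A : Type*} [Group A] [MulDistribMulAction A G]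
variable {N : ℕ} {P : ℕ → Subgroup G} {p : ℕ → ℕ}

theorem commutator_le_frattini' {G : Type*} [Group G] [Finite G] [Group.IsNilpotent G] :
    commutator G ≤ frattini G := by
  rw [frattini, Order.radical]
  refine le_iInf₂ fun M hM => ?_
  haveI : M.Normal :=
    NormalizerCondition.normal_of_coatom M Group.normalizerCondition_of_isNilpotent hM
  obtain ⟨x, -, hx⟩ := SetLike.exists_of_lt (lt_top_iff_ne_top.2 hM.1)
  have htop : zpowers (QuotientGroup.mk' M x) = ⊤ := by
    refine comap_injective (QuotientGroup.mk'_surjective M) ?_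
    rw [comap_top]
    refine hM.2 _ (lt_of_le_of_ne ?_ fun h => ?_)
    · exact fun m hm => by
        rw [mem_comap, show QuotientGroup.mk' M m = 1 from (QuotientGroup.eq_one_iff m).2 hm]
        exact one_mem _
    · exact hx (h.symm.le (mem_comap.2 (mem_zpowers _)))
  haveI : IsCyclic (G ⧸ M) := isCyclic_iff_exists_zpowers_eq_top.2 ⟨_, htop⟩
  exact Subgroup.Normal.quotient_commutative_iff_commutator_le.1 inferInstance

theorem pow_mem_frattini' {G : Type*} [Group G] [Finite G] {p : ℕ} [Fact p.Prime]
    (hG : IsPGroup p G) (g : G) : g ^ p ∈ frattini G := by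
  rw [frattini, Order.radical]
  simp only [Subgroup.mem_iInf]
  intro M hM
  haveI : Group.IsNilpotent G := hG.isNilpotent
  haveI : M.Normal :=
    NormalizerCondition.normal_of_coatom M Group.normalizerCondition_of_isNilpotent hM
  have htop : ∀ z : G ⧸ M, z ≠ 1 → zpowers z = ⊤ := by
    intro z hz
    refine comap_injective (QuotientGroup.mk'_surjective M) ?_
    rw [comap_top]
    refine hM.2 _ (lt_of_le_of_ne ?_ fun h => ?_)
    · exact fun m hm => by
        rw [mem_comap, show QuotientGroup.mk' M m = 1 from (QuotientGroup.eq_one_iff m).2 hm]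
        exact one_mem _
    · obtain ⟨w, rfl⟩ := QuotientGroup.mk'_surjective M z
      exact hz ((QuotientGroup.eq_one_iff w).2 (h.symm.le (mem_comap.2 (mem_zpowers _))))
  have hdvd : p ∣ Nat.card (G ⧸ M) := (hG.to_quotient M).card_eq_or_dvd.resolve_left fun h => by
    rw [← index_eq_card, index_eq_one] at h
    exact hM.1 h
  obtain ⟨z, hz⟩ := exists_prime_orderOf_dvd_card' p hdvd
  have hz1 : z ≠ 1 := fun h => by
    rw [h, orderOf_one] at hz
    exact (Fact.out : p.Prime).one_lt.ne hz
  refine (QuotientGroup.eq_one_iff _).1 ?_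
  show QuotientGroup.mk' M (g ^ p) = 1
  have hmem : QuotientGroup.mk' M g ∈ zpowers z := htop z hz1 ▸ mem_top _
  rw [map_pow, ← orderOf_dvd_iff_pow_eq_one, ← hz]
  exact orderOf_dvd_of_mem_zpowers hmem

/-- The levels cut down to iterated commutators. -/
def down (P : ℕ → Subgroup G) : ℕ → Subgroup G
  | 0 => P 0
  | i + 1 => ⁅P (i + 1), down P i⁆

/-- The subgroup of the elements of a level that the level below fixes modulo the kernel. -/
def low (N : ℕ) (P : ℕ → Subgroup G) : ℕ → Subgroup G
  | 0 => ker N P 0
  | i + 1 => P (i + 1) ⊓ fixer (P i) (ker N P (i + 1))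

theorem low_le {i : ℕ} (hi : i < N) : low N P i ≤ P i := by
  cases i with
  | zero => exact ker_le hi
  | succ i => exact inf_le_left

variable (A) in
/-- A tower none of whose levels can be made smaller. -/
structure IsGood (N : ℕ) (P : ℕ → Subgroup G) (p : ℕ → ℕ) : Prop where
  tower : IsTower A N P p
  min : ∀ Q : ℕ → Subgroup G, IsTower A N Q p → (∀ i, i < N → Q i ≤ P i) → ∀ i, i < N → Q i = P i

theorem exists_good (h : IsTower A N P p) : ∃ Q : ℕ → Subgroup G, IsGood A N Q p := by
  classical
  let S : Set ℕ := {n | ∃ Q : ℕ → Subgroup G, IsTower A N Q p ∧ ∑ i ∈ Finset.range N, Nat.card (Q i) = n}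
  have hS : S.Nonempty := ⟨_, P, h, rfl⟩
  obtain ⟨Q, hQ, hn⟩ := Nat.sInf_mem hS
  refine ⟨Q, hQ, fun Q' hQ' hle i hi => eq_of_le_of_card_ge (hle i hi) ?_⟩
  by_contra hlt
  push Not at hlt
  have h1 : ∑ i ∈ Finset.range N, Nat.card (Q' i) < ∑ i ∈ Finset.range N, Nat.card (Q i) :=
    Finset.sum_lt_sum (fun j hj => Subgroup.card_le_of_le (hle j (Finset.mem_range.1 hj)))
      ⟨i, Finset.mem_range.2 hi, hlt⟩
  exact absurd (Nat.sInf_le (show ∑ i ∈ Finset.range N, Nat.card (Q' i) ∈ S from ⟨Q', hQ', rfl⟩))
    (by rw [← hn]; omega)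

namespace IsTower

variable (hT : IsTower A N P p)
include hT

theorem le_actKer {i : ℕ} (hi : i + 1 < N) (h : P i ≤ ker N P i) :
    P i ≤ actKer (P (i + 1)) (ker N P (i + 1)) := fun _ hx => by
  have := h hx
  rw [ker_succ hi] at this
  exact this.2

theorem not_le_ker {i : ℕ} (hi : i < N) : ¬ P i ≤ ker N P i := by
  induction i with
  | zero => exact hT.bot
  | succ i ih =>
    intro h
    refine ih (by omega) fun x hx => hT.mem_ker hi hx fun y hy => h ?_
    exact mul_mem (inv_mem hy) ((mem_normalizer_iff.1 (hT.norm i (i + 1) (by omega) hi hx) y).1 hy)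

theorem down_le {i : ℕ} (hi : i < N) : down P i ≤ P i := by
  induction i with
  | zero => exact le_rfl
  | succ i ih =>
    show ⁅P (i + 1), down P i⁆ ≤ P (i + 1)
    rw [commutator_comm]
    refine commutator_le.2 fun x hx y hy => ?_
    rw [commutatorElement_def]
    exact mul_mem ((mem_normalizer_iff.1 (hT.norm i (i + 1) (by omega) hi (ih (by omega) hx)) _).1 hy)
      (inv_mem hy)

theorem down_le_normalizer {l j : ℕ} (hlj : l ≤ j) (hj : j < N) :
    down P l ≤ normalizer (down P j : Set G) := by
  induction j with
  | zero =>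
    obtain rfl : l = 0 := by omega
    exact Subgroup.le_normalizer
  | succ j ih =>
    rcases hlj.eq_or_lt with rfl | h
    · exact Subgroup.le_normalizer
    · exact fun x hx => normalizer_commutator
        (hT.norm l (j + 1) h hj (hT.down_le (by omega) hx)) (ih (by omega) (by omega) hx)

theorem down_not_le {i : ℕ} (hi : i < N) : ¬ down P i ≤ ker N P i := by
  induction i with
  | zero => exact hT.bot
  | succ i ih =>
    exact fun h => ih (by omega) fun x hx =>
      hT.mem_ker hi (hT.down_le (by omega) hx) fun y hy => h (disp_mem_commutator hx hy)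

theorem isInvariant_down {i : ℕ} (hi : i < N) : IsInvariant A (down P i) := by
  induction i with
  | zero => exact hT.inv 0 hi
  | succ i ih => exact isInvariant_commutator (hT.inv (i + 1) hi) (ih (by omega))

theorem down_commutator {i : ℕ} (hi : i + 1 < N) :
    ⁅down P (i + 1), down P i⁆ = down P (i + 1) := by
  haveI := Fact.mk (hT.prime i (by omega))
  haveI : Group.IsNilpotent (down P i) := ((hT.pgroup i (by omega)).to_le (hT.down_le (by omega))).isNilpotent
  exact CfsgLib.CoprimeAct.commutator_commutator ((hT.down_le (by omega)).trans (hT.norm i (i + 1) (by omega) hi))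
    ((hT.coprime_card hi).coprime_dvd_left (card_dvd_of_le (hT.down_le (by omega)))) (Or.inl inferInstance)

theorem isTower_down : IsTower A N (down P) p := by
  refine ⟨hT.prime, fun i hi => (hT.pgroup i hi).to_le (hT.down_le hi), fun i hi => hT.isInvariant_down hi,
    fun i j hij hj => hT.down_le_normalizer hij.le hj, hT.adj, fun h => ?_⟩
  have key : ∀ i, i < N → down P i ≤ ker N (down P) i := by
    intro i
    induction i with
    | zero => exact fun _ => h
    | succ i ih =>
      intro hi
      rw [← hT.down_commutator hi]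
      refine commutator_le_of_le_actKer fun x hx => ?_
      have := ih (by omega) hx
      rw [ker_succ hi] at this
      exact this.2
  rcases Nat.eq_zero_or_pos N with rfl | hN
  · exact hT.bot fun x hx => by
      have := h hx
      simpa [ker, kerFrom] using this
  · have h1 := key (N - 1) (by omega)
    rw [ker_top (by omega)] at h1
    exact hT.down_not_le (show N - 1 < N by omega) (h1.trans bot_le)

end IsTower

namespace IsGood

variable (hP : IsGood A N P p)
include hP

theorem comm {i : ℕ} (hi : i + 1 < N) : ⁅P (i + 1), P i⁆ = P (i + 1) := by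
  have h := hP.min _ hP.tower.isTower_down (fun j hj => hP.tower.down_le hj)
  have h1 := h (i + 1) hi
  rwa [show down P (i + 1) = ⁅P (i + 1), down P i⁆ from rfl, h i (by omega)] at h1

theorem le_normalizer_low {k i : ℕ} (hki : k < i) (hi : i < N) :
    P k ≤ normalizer (low N P i : Set G) := by
  cases i with
  | zero => omega
  | succ i =>
    intro g hg
    refine mem_normalizer_of_conj_iff fun x => ?_
    rw [low, Subgroup.mem_inf, Subgroup.mem_inf]
    exact and_congr (mem_iff_conj_of_mem_normalizer (hP.tower.norm k (i + 1) hki hi hg) x)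
      (mem_iff_conj_of_mem_normalizer (normalizer_fixer
        (hP.tower.le_normalizer (by omega) (by omega) hg) (hP.tower.le_normalizer_ker hki.le hi hg)) x)

theorem isInvariant_low {i : ℕ} (hi : i < N) : IsInvariant A (low N P i) := by
  cases i with
  | zero => exact hP.tower.isInvariant_ker hi
  | succ i =>
    exact (hP.tower.inv _ hi).inf (isInvariant_fixer (hP.tower.inv i (by omega)) (hP.tower.isInvariant_ker hi))

/-- The lower subgroup contains every invariant proper subgroup of the level. -/
theorem le_low {i : ℕ} (hi : i < N) {Q : Subgroup G} (hQ : Q ≤ P i) (hQA : IsInvariant A Q)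
    (hQn : ∀ k, k < i → P k ≤ normalizer (Q : Set G)) (hne : Q ≠ P i) : Q ≤ low N P i := by
  classical
  by_contra hcon
  apply hne
  set P' := Function.update P i Q with hP'
  have hle : ∀ j, P' j ≤ P j := fun j => by
    rcases eq_or_ne j i with rfl | h
    · rw [hP', Function.update_self]; exact hQ
    · rw [hP', Function.update_of_ne h]
  have hupper : ∀ j, i < j → j < N → ker N P' j = ker N P j := fun j hj hjN =>
    ker_congr hjN fun k hk _ => Function.update_of_ne (by omega) _ _
  have hkerQ : ker N P' i ≤ ker N P i := by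
    rcases Nat.lt_or_ge (i + 1) N with h | h
    · rw [ker_succ h, ker_succ h, hupper (i + 1) (by omega) h,
        show P' (i + 1) = P (i + 1) from Function.update_of_ne (by omega) _ _]
      exact inf_le_inf_right _ (hle i)
    · rw [ker_top (by omega)]; exact bot_le
  have hT' : IsTower A N P' p := by
    refine ⟨hP.tower.prime, fun j hj => (hP.tower.pgroup j hj).to_le (hle j), fun j hj => ?_,
      fun j l hjl hl => ?_, hP.tower.adj, fun h => hcon ?_⟩
    · rcases eq_or_ne j i with rfl | h
      · rw [hP', Function.update_self]; exact hQA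
      · rw [hP', Function.update_of_ne h]; exact hP.tower.inv j hj
    · rcases eq_or_ne l i with rfl | h
      · rw [hP', Function.update_self, Function.update_of_ne (by omega)]; exact hQn j hjl
      · rw [show P' l = P l from Function.update_of_ne h _ _]
        exact (hle j).trans (hP.tower.norm j l hjl hl)
    · cases i with
      | zero =>
        rw [show P' 0 = Q from Function.update_self _ _ _] at h
        exact h.trans hkerQ
      | succ i =>
        have key : ∀ j, j ≤ i → P' j ≤ ker N P' j := by
          intro j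
          induction j with
          | zero => exact fun _ => h
          | succ j ih =>
            intro hj
            rw [hP', Function.update_of_ne (show j + 1 ≠ i + 1 by omega), ← hP.comm (show j + 1 < N by omega)]
            refine commutator_le_of_le_actKer fun x hx => ?_
            have h2 := ih (by omega)
            rw [hP', Function.update_of_ne (show j ≠ i + 1 by omega)] at h2
            have h3 := h2 hx
            rw [← hP', ker_succ (show j + 1 < N by omega)] at h3
            rw [← hP']
            have e : P' (j + 1) = P (j + 1) := Function.update_of_ne (by omega) _ _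
            rw [e] at h3
            exact h3.2
        intro y hy
        refine ⟨hQ hy, hP.tower.le_normalizer_ker le_rfl hi (hQ hy), fun x hx => hkerQ ?_⟩
        have e : P' i = P i := Function.update_of_ne (by omega) _ _
        have e' : P' (i + 1) = Q := Function.update_self _ _ _
        refine disp_mem_ker hi ((key i le_rfl) (e ▸ hx)) (e' ▸ hy)
  have := hP.min P' hT' (fun j _ => hle j) i hi
  rwa [hP', Function.update_self] at this

theorem low_ne {i : ℕ} (hi : i < N) : low N P i ≠ P i := by
  intro h
  cases i with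
  | zero => exact hP.tower.bot h.ge
  | succ i =>
    refine hP.tower.not_le_ker hi ?_
    rw [← hP.comm hi]
    refine commutator_le.2 fun y hy x hx => ?_
    have hy' := h.ge (inv_mem hy)
    have := hy'.2.2 x hx
    rwa [disp_eq_commutator, inv_inv] at this

theorem ne_bot {i : ℕ} (hi : i < N) : P i ≠ ⊥ := fun h =>
  hP.tower.not_le_ker hi (h ▸ bot_le)

theorem ker_le_low {i : ℕ} (hi : i < N) : ker N P i ≤ low N P i :=
  hP.le_low hi (ker_le hi) (hP.tower.isInvariant_ker hi)
    (fun _ hk => hP.tower.le_normalizer_ker hk.le hi) fun h => hP.tower.not_le_ker hi h.ge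

theorem frattini_le_low {i : ℕ} (hi : i < N) : (frattini (P i)).map (P i).subtype ≤ low N P i := by
  haveI : Nontrivial (P i) := (nontrivial_iff_ne_bot _).2 (hP.ne_bot hi)
  refine hP.le_low hi (map_subtype_le _) ?_ (fun k hk g hg => ?_) fun h => ?_
  · rintro a _ ⟨x, hx, rfl⟩
    letI := (show MulDistribMulAction A (P i) from
      { smul := fun a x => ⟨a • (x : G), hP.tower.inv i hi a x x.2⟩
        one_smul := fun x => Subtype.ext (one_smul A (x : G))
        mul_smul := fun a b x => Subtype.ext (mul_smul a b (x : G))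
        smul_one := fun a => Subtype.ext (smul_one a)
        smul_mul := fun a x y => Subtype.ext (smul_mul' a (x : G) y) })
    exact ⟨a • x, CfsgLib.Coprime.IsInvariant.of_characteristic (frattini (P i)) a x hx, rfl⟩
  · have hn := hP.tower.norm k i hk hi hg
    let e : P i ≃* P i :=
      { toFun := fun x => ⟨g * x * g⁻¹, (mem_normalizer_iff.1 hn x).1 x.2⟩
        invFun := fun x => ⟨g⁻¹ * x * g, (mem_normalizer_iff''.1 hn x).1 x.2⟩
        left_inv := fun x => Subtype.ext (by simp [mul_assoc])
        right_inv := fun x => Subtype.ext (by simp [mul_assoc])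
        map_mul' := fun x y => Subtype.ext (by simp [mul_assoc]) }
    refine mem_normalizer_of_conj_iff fun x => ⟨?_, fun hx => ?_⟩
    · rintro ⟨y, hy, rfl⟩
      exact ⟨e y, (Subgroup.characteristic_iff_comap_eq.1 frattini_characteristic e).symm.le hy, rfl⟩
    · obtain ⟨y, hy, hyx⟩ := hx
      refine ⟨e.symm y, (Subgroup.characteristic_iff_comap_eq.1 frattini_characteristic e.symm).symm.le hy, ?_⟩
      apply (MulAut.conj g).injective
      rw [← hyx]
      simp [e, mul_assoc]
  · have h1 : frattini (P i) = ⊤ := eq_top_iff.2 fun x _ => by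
      obtain ⟨y, hy, hyx⟩ := h.ge x.2
      exact (Subtype.ext hyx : y = x) ▸ hy
    obtain h | ⟨M, hM, -⟩ := eq_top_or_exists_le_coatom (⊥ : Subgroup (P i))
    · exact bot_ne_top h
    · exact hM.1 (eq_top_iff.2 (h1 ▸ Order.radical_le_coatom hM))

theorem commutator_mem_low {i : ℕ} (hi : i < N) {x y : G} (hx : x ∈ P i) (hy : y ∈ P i) :
    ⁅x, y⁆ ∈ low N P i := by
  haveI := Fact.mk (hP.tower.prime i hi)
  haveI : Group.IsNilpotent (P i) := (hP.tower.pgroup i hi).isNilpotent
  exact hP.frattini_le_low hi ⟨⁅(⟨x, hx⟩ : P i), ⟨y, hy⟩⁆,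
    commutator_le_frattini' (commutator_mem_commutator (mem_top _) (mem_top _)), rfl⟩

theorem pow_mem_low {i : ℕ} (hi : i < N) {x : G} (hx : x ∈ P i) : x ^ p i ∈ low N P i := by
  haveI := Fact.mk (hP.tower.prime i hi)
  exact hP.frattini_le_low hi ⟨(⟨x, hx⟩ : P i) ^ p i, pow_mem_frattini' (hP.tower.pgroup i hi) _, rfl⟩

theorem self_le_normalizer_low {i : ℕ} (hi : i < N) : P i ≤ normalizer (low N P i : Set G) := by
  intro g hg
  have key : ∀ g ∈ P i, ∀ x ∈ low N P i, g * x * g⁻¹ ∈ low N P i := fun g hg x hx => by
    rw [show g * x * g⁻¹ = ⁅g, x⁆ * x by simp [commutatorElement_def]]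
    exact mul_mem (hP.commutator_mem_low hi hg (low_le hi hx)) hx
  refine mem_normalizer_iff.2 fun x => ⟨key g hg x, fun hx => ?_⟩
  have := key g⁻¹ (inv_mem hg) _ hx
  simpa [mul_assoc] using this

theorem le_normalizer_low' {k i : ℕ} (hki : k ≤ i) (hi : i < N) :
    P k ≤ normalizer (low N P i : Set G) := by
  rcases hki.eq_or_lt with rfl | h
  · exact hP.self_le_normalizer_low hi
  · exact hP.le_normalizer_low h hi

/-- The lower subgroup is central modulo the kernel. -/
theorem commutator_low_le {i : ℕ} (hi : i < N) : ⁅P i, low N P i⁆ ≤ ker N P i := by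
  cases i with
  | zero =>
    refine commutator_le.2 fun x hx y hy => ?_
    rw [commutatorElement_def]
    exact mul_mem ((mem_normalizer_iff.1 (hP.tower.le_normalizer_ker le_rfl hi hx) y).1 hy) (inv_mem hy)
  | succ i =>
    set K := ker N P (i + 1)
    have hn0 := hP.tower.le_normalizer_ker (Nat.le_succ i) hi
    have hn1 := hP.tower.le_normalizer_ker (le_refl (i + 1)) hi
    have hLB : ⁅low N P (i + 1), P i⁆ ≤ K := commutator_le.2 fun y hy x hx => by
      have := (inv_mem hy : y⁻¹ ∈ low N P (i + 1)).2.2 x hx
      rwa [disp_eq_commutator, inv_inv] at this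
    refine (congrArg (fun X => ⁅X, low N P (i + 1)⁆) (hP.comm hi)).symm.le.trans ?_
    refine CfsgLib.Kinf.three_subgroup_mod hn1 hn0 ((low_le hi).trans hn1) ?_ ?_
    · refine le_trans (commutator_mono ((commutator_comm _ _).le.trans hLB) le_rfl) ?_
      refine commutator_le.2 fun x hx y hy => ?_
      rw [show ⁅x, y⁆ = x * (y * x⁻¹ * y⁻¹) by simp [commutatorElement_def, mul_assoc]]
      exact mul_mem hx ((mem_normalizer_iff.1 (hn1 hy) _).1 (inv_mem hx))
    · refine le_trans (commutator_mono ?_ le_rfl) hLB
      exact commutator_le.2 fun x hx y hy => hP.commutator_mem_low hi (low_le hi hx) hy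

theorem disp_low_mem {i : ℕ} (hi : i + 1 < N) {x l : G} (hx : x ∈ P i) (hl : l ∈ low N P (i + 1)) :
    disp x l ∈ ker N P (i + 1) := hl.2.2 x hx

/-- An element acting trivially modulo the lower subgroup of the next level is in the kernel. -/
theorem mem_ker_of_low {i : ℕ} (hi : i + 1 < N) {x : G} (hx : x ∈ P i)
    (hd : ∀ y ∈ P (i + 1), disp x y ∈ low N P (i + 1)) : x ∈ ker N P i := by
  refine hP.tower.mem_ker hi hx fun y hy => ?_
  set K := ker N P (i + 1)
  set l := disp x y with hl
  have hn := hP.tower.le_normalizer_ker (Nat.le_succ i) hi hx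
  have key : ∀ k : ℕ, (l ^ k)⁻¹ * disp (x ^ k) y ∈ K := by
    intro k
    induction k with
    | zero => simp
    | succ k ih =>
      have h1 : disp (x ^ (k + 1)) y = l * (x * disp (x ^ k) y * x⁻¹) := by
        rw [pow_succ', disp_mul_left]
      have h2 : (l ^ (k + 1))⁻¹ * disp (x ^ (k + 1)) y =
          disp x (l ^ k) * (x * ((l ^ k)⁻¹ * disp (x ^ k) y) * x⁻¹) := by
        rw [h1, pow_succ']
        simp [disp, mul_assoc]
      rw [h2]
      exact mul_mem (hP.disp_low_mem hi hx (pow_mem (hd y hy) k)) ((mem_normalizer_iff.1 hn _).1 ih)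
  have hn' : l ^ orderOf x ∈ K := by
    have := key (orderOf x)
    rw [pow_orderOf_eq_one, disp_one_left, mul_one] at this
    exact inv_mem_iff.1 this
  have hcop : (orderOf x).Coprime (orderOf l) := by
    refine Nat.Coprime.coprime_dvd_left ?_ ((hP.tower.coprime_card hi).coprime_dvd_right ?_)
    · rw [← Subgroup.orderOf_mk _ hx]; exact orderOf_dvd_natCard _
    · rw [← Subgroup.orderOf_mk _ (low_le hi (hd y hy))]; exact orderOf_dvd_natCard _
  obtain ⟨m, hm⟩ := exists_pow_eq_self_of_coprime hcop
  exact hm ▸ pow_mem hn' m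

/-- The fixed elements of the level below act without fixed points modulo the lower subgroup. -/
theorem mem_low_of_fixed {i : ℕ} (hi : i + 1 < N) {y : G} (hy : y ∈ P (i + 1))
    (h : ∀ x ∈ P i, disp x y ∈ low N P (i + 1)) : y ∈ low N P (i + 1) := by
  set Q := P (i + 1) ⊓ fixer (P i) (low N P (i + 1)) with hQ
  refine hP.le_low hi (inf_le_left : Q ≤ _)
    ((hP.tower.inv _ hi).inf (isInvariant_fixer (hP.tower.inv i (by omega)) (hP.isInvariant_low hi)))
    (fun k hk g hg => mem_normalizer_of_conj_iff fun z => ?_) (fun hQe => ?_)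
    ⟨hy, hP.self_le_normalizer_low hi hy, h⟩
  · rw [Subgroup.mem_inf, Subgroup.mem_inf]
    exact and_congr (mem_iff_conj_of_mem_normalizer (hP.tower.norm k (i + 1) hk hi hg) z)
      (mem_iff_conj_of_mem_normalizer (normalizer_fixer (hP.tower.le_normalizer (by omega) (by omega) hg)
        (hP.le_normalizer_low hk hi hg)) z)
  · refine hP.low_ne hi (le_antisymm (low_le hi) ?_)
    rw [← hP.comm hi]
    refine commutator_le.2 fun z hz x hx => ?_
    have := (hQe.ge (inv_mem hz)).2.2 x hx
    rwa [disp_eq_commutator, inv_inv] at this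

/-- A normal invariant subgroup covering a level modulo the lower subgroup is the whole level. -/
theorem eq_of_mul_low {i : ℕ} (hi : i + 1 < N) {M : Subgroup G} (hMP : M ≤ P (i + 1))
    (hKM : ker N P (i + 1) ≤ M) (hMn : P (i + 1) ≤ normalizer (M : Set G))
    (hMn' : P i ≤ normalizer (M : Set G))
    (hcov : ∀ y ∈ P (i + 1), ∃ m ∈ M, m⁻¹ * y ∈ low N P (i + 1)) : M = P (i + 1) := by
  refine le_antisymm hMP ?_
  refine (hP.comm hi).symm.le.trans (commutator_le.2 fun z hz x hx => ?_)
  obtain ⟨m, hm, hl⟩ := hcov z⁻¹ (inv_mem hz)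
  have h : disp x z⁻¹ ∈ M := by
    rw [show z⁻¹ = m * (m⁻¹ * z⁻¹) by group, disp_mul_right]
    refine mul_mem ?_ (hKM (hP.disp_low_mem hi hx hl))
    refine (mem_normalizer_iff''.1 (hMn (low_le hi hl)) _).1 ?_
    exact mul_mem (inv_mem hm) ((mem_normalizer_iff.1 (hMn' hx) m).1 hm)
  rwa [disp_eq_commutator, inv_inv] at h

end IsGood

end CfsgLib.Turull
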