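import Cfsg.Agent.Turull.Pin
import Mathlib.LinearAlgebra.Dimension.Constructions

/-!
Carrying implementing operators between representations with the same factor set.
-/

set_option autoImplicit false
set_option linter.style.haveILetI false
set_option linter.unusedSectionVars false

namespace CfsgLib.Turull

variable {k : Type*} [Field k] {V : Type*} [CommGroup V] [Finite V]
variable {W : Type*} [AddCommGroup W] [Module k W] {W' : Type*} [AddCommGroup W'] [Module k W']
variable {C : Factor k V} {M : V → Module.End k W} {M' : V → Module.End k W'}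

/-- The product of the scalars met by iterating an implementing operator. -/
def iterScalar (θ : MulAut V) (d : V → k) : ℕ → V → k
  | 0, _ => 1
  | n + 1, v => iterScalar θ d n v * d ((θ ^ n) v)

theorem Impl.pow {θ : MulAut V} {d : V → k} {G : Module.End k W} (hG : Impl M θ d G) (n : ℕ) (v : V) :
    G ^ n * M v = iterScalar θ d n v • (M ((θ ^ n) v) * G ^ n) := by
  induction n with
  | zero => simp [iterScalar]
  | succ n ih =>
    have e : (θ ^ (n + 1)) v = θ ((θ ^ n) v) := by rw [pow_succ', MulAut.mul_apply]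
    rw [pow_succ', mul_assoc, ih, mul_smul_comm, ← mul_assoc, hG, smul_mul_assoc, smul_smul, mul_assoc,
      iterScalar, e]

theorem Impl.apply {θ : MulAut V} {d : V → k} {G : Module.End k W} (hG : Impl M θ d G) (v : V) (x : W) :
    G (M v x) = d v • M (θ v) (G x) := LinearMap.congr_fun (hG v) x

theorem Impl.d_ne_zero (h : IsRep C M) [Nontrivial W] {θ : MulAut V} {d : V → k} {G : Module.End k W}
    (hG : Impl M θ d G) (hi : Function.Injective G) (v : V) : d v ≠ 0 := by
  obtain ⟨x, hx⟩ := exists_ne (0 : W)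
  intro h0
  have := hG.apply v x
  rw [h0, zero_smul] at this
  exact h.apply_ne_zero v hx (hi (this.trans (map_zero G).symm))

/-- The scalars of an implementing operator are compatible with the factor set. -/
theorem Impl.cocycle (h : IsRep C M) [Nontrivial W] {θ : MulAut V} {d : V → k} {G : Module.End k W}
    (hG : Impl M θ d G) (hi : Function.Injective G) (v w : V) :
    d v * d w * C.c (θ v) (θ w) = C.c v w * d (v * w) := by
  obtain ⟨x, hx⟩ := exists_ne (0 : W)
  have h1 : G (M v (M w x)) = (C.c v w * d (v * w)) • M (θ (v * w)) (G x) := by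
    rw [h.mul_apply, map_smul, hG.apply, smul_smul]
  have h2 : G (M v (M w x)) = (d v * d w * C.c (θ v) (θ w)) • M (θ (v * w)) (G x) := by
    rw [hG.apply, hG.apply, map_smul, h.mul_apply, smul_smul, smul_smul, map_mul]
  have hGx : G x ≠ 0 := fun h0 => hx (hi (h0.trans (map_zero G).symm))
  exact smul_left_injective k (h.apply_ne_zero _ hGx) (h2.symm.trans h1)

theorem Impl.iterScalar_eq_one (h : IsRep C M) [Nontrivial W] {θ : MulAut V} {d : V → k} {G : Module.End k W}
    (hG : Impl M θ d G) {N : ℕ} (hθ : θ ^ N = 1) {c : k} (hc : c ≠ 0) (hGN : G ^ N = c • 1) (v : V) :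
    iterScalar θ d N v = 1 := by
  obtain ⟨x, hx⟩ := exists_ne (0 : W)
  have := LinearMap.congr_fun (hG.pow N v) x
  rw [hGN, hθ, MulAut.one_apply] at this
  simp only [Module.End.mul_apply, LinearMap.smul_apply, Module.End.one_apply, map_smul, smul_smul] at this
  exact (mul_eq_right₀ hc).1 (smul_left_injective k (h.apply_ne_zero v hx) this).symm

variable [IsAlgClosed k] [FiniteDimensional k W] [Nontrivial W] [Fintype V]

/-- An irreducible representation carries an implementing operator with the same scalars. -/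
theorem exists_impl (h : IsRep C M) (hirr : IsIrr M) (hV : (Fintype.card V : k) ≠ 0) (h' : IsRep C M')
    [Nontrivial W'] {θ : MulAut V} {d : V → k} {G : Module.End k W'} (hG : Impl M' θ d G) {N : ℕ} (hN : 0 < N)
    (hθ : θ ^ N = 1) {c : k} (hc : c ≠ 0) (hGN : G ^ N = c • 1) :
    ∃ F : Module.End k W, Impl M θ d F ∧ F ^ N = 1 := by
  have hGi := injective_of_pow_scalar hN hc hGN
  let M₂ : V → Module.End k W := fun v => d v • M (θ v)
  have hd : ∀ v, d v ≠ 0 := hG.d_ne_zero h' hGi
  have h2 : IsRep C M₂ := by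
    refine ⟨?_, fun v w => ?_⟩
    · have h1 : d 1 = 1 := by
        have := hG.cocycle h' hGi 1 1
        rw [map_one, one_mul] at this
        exact (mul_eq_right₀ (hd 1)).1 (mul_right_cancel₀ (C.ne 1 1) (by rw [this]; ring))
      simp [M₂, h1, h.one]
    · show (d v • M (θ v)) * (d w • M (θ w)) = C.c v w • (d (v * w) • M (θ (v * w)))
      rw [smul_mul_smul_comm, h.mul, smul_smul, smul_smul, map_mul, hG.cocycle h' hGi]
  obtain ⟨y, hy⟩ := exists_ne (0 : W)
  obtain ⟨a, ha⟩ := avHom_separates h h2 hV hy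
  set F₀ : Module.End k W := avHom C M M₂ a with hF₀
  have hF₀c : Impl M θ d F₀ := fun v => LinearMap.ext fun x => by
    simpa [M₂] using avHom_comm h h2 a v x
  have hF₀i : Function.Injective F₀ :=
    h.intertwiner_injective hirr (avHom_comm h h2 a) fun h0 => ha (LinearMap.congr_fun h0 y)
  obtain ⟨t, ht⟩ := h.eq_scalar hirr (F₀ ^ N) fun v x => by
    have := LinearMap.congr_fun (hF₀c.pow N v) x
    rwa [hG.iterScalar_eq_one h' hθ hc hGN, hθ, one_smul] at this
  have ht0 : t ≠ 0 := by
    intro h0
    rw [h0, zero_smul] at ht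
    have hinj : Function.Injective (F₀ ^ N) := by
      rw [Module.End.coe_pow]; exact hF₀i.iterate N
    exact hy (hinj (by rw [ht, LinearMap.zero_apply, LinearMap.zero_apply]))
  obtain ⟨l, hl⟩ := IsAlgClosed.exists_pow_nat_eq t hN
  refine ⟨l⁻¹ • F₀, fun v => ?_, ?_⟩
  · rw [smul_mul_assoc, hF₀c, mul_smul_comm, smul_comm]
  · rw [smul_pow, ht, smul_smul, inv_pow, hl, inv_mul_cancel₀ ht0, one_smul]

/-- Two implementing operators of coprime orders whose scalars commute commute themselves. -/
theorem impl_commute (h : IsRep C M) (hirr : IsIrr M) (h' : IsRep C M') [Nontrivial W'] {θ η : MulAut V}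
    {d e : V → k} {G : Module.End k W'} {g : Module.End k W'} (hG : Impl M' θ d G) (hg : Impl M' η e g)
    (hGi : Function.Injective G) (hgi : Function.Injective g) (hcomm : g * G = G * g)
    (hηθ : Commute θ η) {F f : Module.End k W} (hF : Impl M θ d F) (hf : Impl M η e f) {N N' : ℕ} (hN : 0 < N)
    (hN' : 0 < N') (hFN : F ^ N = 1) (hfN : f ^ N' = 1) (hco : N.Coprime N') : f * F = F * f := by
  obtain ⟨x, hx⟩ := exists_ne (0 : W')
  have hscal : ∀ v, e v * d (η v) = d v * e (θ v) := fun v => by
    have h1 : G (g (M' v x)) = (e v * d (η v)) • M' (θ (η v)) (G (g x)) := by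
      rw [hg.apply, map_smul, hG.apply, smul_smul]
    have h2 : g (G (M' v x)) = (d v * e (θ v)) • M' (η (θ v)) (g (G x)) := by
      rw [hG.apply, map_smul, hg.apply, smul_smul]
    have e1 : ∀ z, g (G z) = G (g z) := fun z => LinearMap.congr_fun hcomm z
    have e2 : θ (η v) = η (θ v) := DFunLike.congr_fun hηθ.eq v
    rw [e1, e1 x, h1, e2] at h2
    exact smul_left_injective k (h'.apply_ne_zero _ fun h0 =>
      hx (hgi ((hGi (h0.trans (map_zero G).symm)).trans (map_zero g).symm))) h2
  set Fi := F ^ (N - 1) with hFi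
  set fi := f ^ (N' - 1) with hfi
  have hFF : F * Fi = 1 := by rw [hFi, ← pow_succ', Nat.sub_add_cancel hN, hFN]
  have hff : f * fi = 1 := by rw [hfi, ← pow_succ', Nat.sub_add_cancel hN', hfN]
  have hFF' : Fi * F = 1 := by rw [hFi, ← pow_succ, Nat.sub_add_cancel hN, hFN]
  have hff' : fi * f = 1 := by rw [hfi, ← pow_succ, Nat.sub_add_cancel hN', hfN]
  set u := fi * Fi * (f * F) with hu
  -- the commutator commutes with the representation
  obtain ⟨t, ht⟩ := h.eq_scalar hirr u fun v y => by
    have key : (f * F) * M v = (d v * e (θ v)) • (M (η (θ v)) * (f * F)) := by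
      rw [mul_assoc, hF, mul_smul_comm, ← mul_assoc, hf, smul_mul_assoc, smul_smul, mul_assoc]
    have key2 : (F * f) * M v = (d v * e (θ v)) • (M (η (θ v)) * (F * f)) := by
      rw [mul_assoc, hf, mul_smul_comm, ← mul_assoc, hF, smul_mul_assoc, smul_smul, mul_assoc, hscal v,
        show θ (η v) = η (θ v) from DFunLike.congr_fun hηθ.eq v]
    have hc2 : (fi * Fi) * M (η (θ v)) * (d v * e (θ v)) • (1 : Module.End k W) = M v * (fi * Fi) := by
      have h3 : (fi * Fi) * ((F * f) * M v) * (fi * Fi) =
          (fi * Fi) * ((d v * e (θ v)) • (M (η (θ v)) * (F * f))) * (fi * Fi) := by rw [key2]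
      have h4 : (fi * Fi) * (F * f) = 1 := by rw [mul_assoc, ← mul_assoc Fi, hFF', one_mul, hff']
      have h5 : (F * f) * (fi * Fi) = 1 := by rw [mul_assoc, ← mul_assoc f, hff, one_mul, hFF]
      rw [← mul_assoc (fi * Fi) (F * f), h4, one_mul, mul_smul_comm, smul_mul_assoc, mul_assoc (fi * Fi) (_ * _),
        mul_assoc (M _) (F * f), h5, mul_one] at h3
      rw [mul_smul_comm, mul_one, ← h3]
    have : u * M v = M v * u := by
      rw [hu, mul_assoc (fi * Fi), key, mul_smul_comm, ← mul_assoc, ← smul_mul_assoc,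
        ← mul_assoc (M v) (fi * Fi), ← hc2, mul_smul_comm, mul_one]
    exact LinearMap.congr_fun this y
  -- hence the conjugate of `F` is a multiple of `F`, by a scalar of trivial order
  have hfF : f * F = t • (F * f) := by
    have := congrArg (fun z => F * f * z) ht
    simp only [hu, mul_smul_comm, mul_one] at this
    rw [← this, mul_assoc F f, ← mul_assoc f (fi * Fi), ← mul_assoc f fi, hff, one_mul, ← mul_assoc, hFF,
      one_mul]
  have hpowF : ∀ j : ℕ, f * F ^ j = t ^ j • (F ^ j * f) := by
    intro j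
    induction j with
    | zero => simp
    | succ j ih =>
      rw [pow_succ F, ← mul_assoc, ih, smul_mul_assoc, mul_assoc, hfF, mul_smul_comm, smul_smul, ← mul_assoc,
        pow_succ t]
  have hpowf : ∀ j : ℕ, f ^ j * F = t ^ j • (F * f ^ j) := by
    intro j
    induction j with
    | zero => simp
    | succ j ih =>
      rw [pow_succ' f, mul_assoc, ih, mul_smul_comm, ← mul_assoc, hfF, smul_mul_assoc, smul_smul, mul_assoc,
        pow_succ t]
  have hne : ∀ {z : Module.End k W} {a : k}, z ≠ 0 → z = a • z → a = 1 := fun {z a} hz hza =>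
    (smul_left_injective k hz ((one_smul k z).trans hza)).symm
  have hF0 : F ≠ 0 := fun h0 => one_ne_zero (α := Module.End k W) (by rw [← hFF, h0, zero_mul])
  have hf0 : f ≠ 0 := fun h0 => one_ne_zero (α := Module.End k W) (by rw [← hff, h0, zero_mul])
  have h1 : t ^ N = 1 := by
    have := hpowF N
    rw [hFN, mul_one, one_mul] at this
    exact hne hf0 this
  have h2 : t ^ N' = 1 := by
    have := hpowf N'
    rw [hfN, one_mul, mul_one] at this
    exact hne hF0 this
  have h3 := pow_gcd_eq_one.2 ⟨h1, h2⟩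
  rw [hco, pow_one] at h3
  rw [hfF, h3, one_smul]

omit [Fintype V] [IsAlgClosed k] [FiniteDimensional k W] [Nontrivial W] in
/-- Transporting an intertwiner by implementing operators. -/
theorem intertwiner_transport {θ : MulAut V} {d : V → k} {G : Module.End k W'} {F : Module.End k W}
    (hG : Impl M' θ d G) (hF : Impl M θ d F) {N : ℕ} (hN : 0 < N) (hd : ∀ v, d v ≠ 0)
    (hFN : F ^ N = 1) {φ : W →ₗ[k] W'} (hφ : ∀ v x, φ (M v x) = M' v (φ x)) (v : V) (x : W) :
    (G ∘ₗ φ ∘ₗ (F ^ (N - 1))) (M v x) = M' v ((G ∘ₗ φ ∘ₗ (F ^ (N - 1))) x) := by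
  set u := θ.symm v with hu
  have hv : θ u = v := θ.apply_symm_apply v
  set y := (F ^ (N - 1)) x with hy
  have hxy : F y = x := by
    rw [hy, ← Module.End.mul_apply, ← pow_succ', Nat.sub_add_cancel hN, hFN]; rfl
  have h1 : (F ^ (N - 1)) (M v x) = (d u)⁻¹ • M u y := by
    have h2 : M v x = (d u)⁻¹ • F (M u y) := by
      rw [hF.apply, hxy, hv, smul_smul, inv_mul_cancel₀ (hd u), one_smul]
    rw [h2, map_smul, ← Module.End.mul_apply, ← pow_succ, Nat.sub_add_cancel hN, hFN]; rfl
  simp only [LinearMap.comp_apply, h1, map_smul, hφ, hG.apply, smul_smul, inv_mul_cancel₀ (hd u), one_smul,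
    hv, ← hy]

end CfsgLib.Turull
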